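import Groth.Agent.Lib.BlowUpProper.Basic

/-!
# Blow-ups in ideals of finite type are proper
-/

set_option autoImplicit false
set_option backward.isDefEq.respectTransparency false
set_option backward.isDefEq.respectTransparency.types false

universe u

open CategoryTheory Limits AlgebraicGeometry Polynomial

namespace GrothLib.Nagata6

theorem isProper_proj_of_fg {A : Type u} [CommRing A] (I : Ideal A) (hI : I.FG) :
    IsProper (Proj (Rees.deg (reesAlgebra I)) ↘ Spec (CommRingCat.of A)) := by
  have : IsScalarTower A (Rees.deg (reesAlgebra I) 0) (reesAlgebra I) := IsScalarTower.of_algebraMap_eq (R := A) (S := Rees.deg (reesAlgebra I) 0) (A := reesAlgebra I) fun _ => rfl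
  have : Algebra.FiniteType A (reesAlgebra I) := ⟨(reesAlgebra I).fg_top.mpr (reesAlgebra.fg hI)⟩
  have : Algebra.FiniteType (Rees.deg (reesAlgebra I) 0) (reesAlgebra I) :=
    Algebra.FiniteType.of_restrictScalars_finiteType A _ _
  show IsProper (Proj.toSpecZero _ ≫ Spec.map _)
  refine MorphismProperty.comp_mem @IsProper _ _ inferInstance ?_
  have : IsClosedImmersion (Spec.map (CommRingCat.ofHom (algebraMap A (Rees.deg (reesAlgebra I) 0)) :
      CommRingCat.of A ⟶ CommRingCat.of (Rees.deg (reesAlgebra I) 0))) :=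
    IsClosedImmersion.spec_of_surjective _ (GrothLib.BlowUpProper.surjective_algebraMap_deg_zero I)
  exact inferInstanceAs (IsProper (Spec.map (CommRingCat.ofHom (algebraMap A (Rees.deg (reesAlgebra I) 0)) :
      CommRingCat.of A ⟶ CommRingCat.of (Rees.deg (reesAlgebra I) 0))))

theorem fg_comap_isOpenImmersion {X Y : Scheme.{u}} (j : Y ⟶ X) [IsOpenImmersion j]
    (I : X.IdealSheafData) (hI : _root_.BlowUp.IsFiniteTypeIdeal I) (W : Y.affineOpens) :
    ((I.comap j).ideal W).FG := by
  rw [GrothLib.BlowUp.ideal_comap_eq_map I j ⟨j ''ᵁ W.1, W.2.image_of_isOpenImmersion j⟩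
    W (j.preimage_image_eq W.1).ge]
  exact (hI _).map _

theorem isProper_of_isBlowUp {X X' : Scheme.{u}} {b : X' ⟶ X} {I : X.IdealSheafData}
    (hI : _root_.BlowUp.IsFiniteTypeIdeal I) (hb : _root_.BlowUp.IsBlowUp b I) : IsProper b := by
  refine IsZariskiLocalAtTarget.of_openCover (P := @IsProper) X.affineCover fun i => ?_
  obtain ⟨A, hA⟩ : ∃ A : CommRingCat.{u}, X.affineCover.X i = Spec A := ⟨_, rfl⟩
  have h1 := GrothLib.BlowUp.isBlowUp_flat_baseChange (X.affineCover.f i) hb
  have hfg := fg_comap_isOpenImmersion (X.affineCover.f i) I hI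
  revert h1 hfg
  show _root_.BlowUp.IsBlowUp (pullback.fst (X.affineCover.f i) b) _ → _ → IsProper (pullback.snd b (X.affineCover.f i))
  rw [show pullback.snd b (X.affineCover.f i) =
    (pullbackSymmetry b (X.affineCover.f i)).hom ≫ pullback.fst (X.affineCover.f i) b by simp,
    MorphismProperty.cancel_left_of_respectsIso (P := @IsProper)]
  generalize X.affineCover.f i = j
  generalize hY : X.affineCover.X i = Y at *
  subst hA
  intro h1 hfg
  rw [GrothLib.BlowUp.eq_idealSheaf (A := A) (I.comap j)] at h1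
  obtain ⟨e, he⟩ := GrothLib.BlowUp.exists_iso_of_isBlowUp h1 (GrothLib.BlowUp.isBlowUp_proj _)
  rw [← he, MorphismProperty.cancel_left_of_respectsIso (P := @IsProper)]
  exact isProper_proj_of_fg _ ((hfg _).map _)

end GrothLib.Nagata6
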