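import Groth.Agent.Lib.Nagata6.Noetherian
import Groth.Agent.Lib.AbsApprox.ProperSystem
import Groth.Agent.Lib.AbsApprox.System
import Groth.Agent.Lib.LimDescend.Scheme
import Groth.Agent.Lib.LimDesc.Finite

/-!
# Nagata compactification over a quasi-compact quasi-separated base
-/

set_option autoImplicit false
set_option backward.isDefEq.respectTransparency false
set_option linter.style.haveILetI false

universe u

open CategoryTheory CategoryTheory.Limits AlgebraicGeometry TopologicalSpace Opposite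

namespace GrothLib.Nagata6

variable {X S : Scheme.{u}}

/-- A separated scheme of finite type is a closed subscheme of a separated scheme of finite presentation. -/
theorem exists_closedImmersion_separated_fp [CompactSpace S] [QuasiSeparatedSpace S] (f : X ⟶ S)
    [IsSeparated f] [QuasiCompact f] [LocallyOfFiniteType f] :
    ∃ (X' : Scheme.{u}) (f' : X' ⟶ S) (ι : X ⟶ X'), LocallyOfFinitePresentation f' ∧ QuasiCompact f' ∧
      IsSeparated f' ∧ IsClosedImmersion ι ∧ ι ≫ f' = f := by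
  haveI : CompactSpace X := QuasiCompact.compactSpace_of_compactSpace f
  haveI : QuasiSeparatedSpace X := quasiSeparatedSpace_of_quasiSeparated f
  obtain ⟨I, _, _, _, D, π, hl, h1, h2, h3⟩ := GrothLib.AbsApprox.exists_closed_system f
  haveI : ∀ (i j : Iᵒᵖ) (a : i ⟶ j), IsClosedImmersion ((D ⋙ Over.forget S).map a) := h2
  haveI : ∀ (i j : Iᵒᵖ) (a : i ⟶ j), IsAffineHom ((D ⋙ Over.forget S).map a) :=
    fun i j a => haveI := h2 i j a; inferInstance
  haveI : ∀ i, CompactSpace ↥((D ⋙ Over.forget S).obj i) := fun i => (h1 i).2.2.2.1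
  haveI : ∀ i, QuasiSeparatedSpace ↥((D ⋙ Over.forget S).obj i) := fun i => (h1 i).2.2.2.2
  haveI : ∀ i, LocallyOfFiniteType ((GrothLib.AbsApprox.overHom D).app i : (D ⋙ Over.forget S).obj i ⟶ S) :=
    fun i => haveI := (h1 i).1; (inferInstance : LocallyOfFiniteType (D.obj i).hom)
  have hl' := isLimitOfPreserves (Over.forget S) hl
  obtain ⟨i₀⟩ : Nonempty Iᵒᵖ := inferInstance
  haveI : IsSeparated (((Over.forget S).mapCone (Cone.mk (Over.mk f) π)).π.app i₀ ≫
      (GrothLib.AbsApprox.overHom D).app i₀) := by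
    show IsSeparated ((π.app i₀).left ≫ (D.obj i₀).hom)
    rw [Over.w (π.app i₀)]
    exact ‹IsSeparated f›
  obtain ⟨k, hk⟩ := GrothLib.LimDesc.eventually_isSeparated (D ⋙ Over.forget S) hl' (GrothLib.AbsApprox.overHom D) i₀
  exact ⟨(D.obj k).left, (D.obj k).hom, (π.app k).left, (h1 k).1, (h1 k).2.1, hk k (𝟙 k), h3 k,
    Over.w (π.app k)⟩

/-- A separated scheme of finite presentation over a limit has a separated model at some stage. -/
theorem exists_separated_model {I : Type u} [SmallCategory I] [IsCofiltered I] (D : I ⥤ Scheme.{u})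
    (c : Cone D) (hc : IsLimit c) [∀ (i j : I) (φ : i ⟶ j), IsAffineHom (D.map φ)]
    [∀ i, CompactSpace (D.obj i)] [∀ i, QuasiSeparatedSpace (D.obj i)] (f : X ⟶ c.pt) [IsSeparated f]
    [QuasiCompact f] [LocallyOfFinitePresentation f] :
    ∃ (i : I) (M : GrothLib.LimDescend.Model D c f i), IsSeparated M.hom := by
  obtain ⟨i, ⟨M⟩⟩ := GrothLib.LimDescend.exists_model D c hc f
  haveI := GrothLib.LimDescend.compactSpace_model D c M
  haveI : QuasiSeparatedSpace M.obj := quasiSeparatedSpace_of_quasiSeparated M.hom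
  have hY : IsPullback (c.π.app i) (𝟙 c.pt) (𝟙 (D.obj i)) (c.π.app i) :=
    IsPullback.of_id_snd
  obtain ⟨j, hj⟩ := GrothLib.LimDesc.exists_isSeparated D hc M.hom (𝟙 _) hY M.isPullback
  refine ⟨j.left, M.map D c j.hom, ?_⟩
  let e : pullback M.hom (D.map j.hom) ≅ pullback (M.hom ≫ 𝟙 _) (D.map j.hom) :=
    pullback.congrHom (Category.comp_id _).symm rfl
  have he : pullback.snd M.hom (D.map j.hom) =
      e.hom ≫ (GrothLib.LimDesc.mapNat D i (𝟙 _) (M.hom ≫ 𝟙 _) M.hom rfl).app j ≫
        pullback.snd (𝟙 _) (D.map j.hom) := by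
    rw [GrothLib.LimDesc.mapNat_snd D i (𝟙 _) (M.hom ≫ 𝟙 _) M.hom rfl j]
    simp [e]
  show IsSeparated (pullback.snd M.hom (D.map j.hom))
  rw [he]
  haveI := hj
  infer_instance

/-- A separated scheme of finite presentation descends to a separated scheme of finite type over a
Noetherian scheme. -/
theorem exists_noetherian_model [CompactSpace S] [QuasiSeparatedSpace S] (f : X ⟶ S) [IsSeparated f]
    [QuasiCompact f] [LocallyOfFinitePresentation f] :
    ∃ (S₀ X₀ : Scheme.{u}) (f₀ : X₀ ⟶ S₀) (s : S ⟶ S₀) (p : X ⟶ X₀), IsNoetherian S₀ ∧ IsSeparated f₀ ∧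
      QuasiCompact f₀ ∧ LocallyOfFiniteType f₀ ∧ IsPullback p f f₀ s := by
  obtain ⟨𝒲⟩ := GrothLib.AbsApprox.nonempty_cov (S := S)
  haveI hN : ∀ i, IsNoetherian ((GrothLib.AbsApprox.Cov.system 𝒲).obj i) := fun i => by
    haveI : IsLocallyNoetherian ((GrothLib.AbsApprox.Cov.system 𝒲).obj i) :=
      GrothLib.AbsApprox.Cov.isLocallyNoetherian_model i.unop.2
    haveI : CompactSpace ((GrothLib.AbsApprox.Cov.system 𝒲).obj i) :=
      GrothLib.AbsApprox.Cov.compactSpace_model i.unop.2
    exact { }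
  haveI : ∀ (i j : 𝒲.Idxᵒᵖ) (φ : i ⟶ j), IsAffineHom ((GrothLib.AbsApprox.Cov.system 𝒲).map φ) :=
    fun _ _ φ => GrothLib.AbsApprox.Cov.isAffineHom_system φ
  obtain ⟨i, M, hM⟩ := @exists_separated_model X _ _ _ _ (GrothLib.AbsApprox.Cov.cone 𝒲)
    (GrothLib.AbsApprox.Cov.isLimitCone 𝒲) _ _ _ f ‹IsSeparated f› ‹QuasiCompact f› ‹LocallyOfFinitePresentation f›
  exact ⟨_, M.obj, M.hom, (GrothLib.AbsApprox.Cov.cone 𝒲).π.app i, M.proj, hN i, hM, M.qc,
    (haveI := M.lfp; inferInstance), M.isPullback⟩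

/-- **Nagata compactification.** -/
theorem exists_compactification [CompactSpace S] [QuasiSeparatedSpace S] (f : X ⟶ S)
    [IsSeparated f] [QuasiCompact f] [LocallyOfFiniteType f] :
    ∃ (Y : Scheme.{u}) (j : X ⟶ Y) (p : Y ⟶ S), IsOpenImmersion j ∧ QuasiCompact j ∧ IsProper p ∧ j ≫ p = f := by
  obtain ⟨X', f', ι, hf', hq', hs', hι, hιf⟩ := exists_closedImmersion_separated_fp f
  obtain ⟨S₀, X₀, f₀, s, q, hS₀, hs₀, hq₀, hft₀, hpb⟩ := exists_noetherian_model f'
  obtain ⟨Y₀, j₀, p₀, hj₀, hjc₀, hp₀, hjp₀⟩ := exists_compactification_of_noetherian f₀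
  let h : X' ⟶ pullback p₀ s := pullback.lift (q ≫ j₀) f' (by rw [Category.assoc, hjp₀, hpb.w])
  have hh : IsPullback q h j₀ (pullback.fst p₀ s) := by
    refine IsPullback.of_bot ?_ (pullback.lift_fst _ _ _).symm (IsPullback.of_hasPullback p₀ s)
    rw [pullback.lift_snd, hjp₀]
    exact hpb
  haveI : IsOpenImmersion h := MorphismProperty.of_isPullback hh hj₀
  haveI : QuasiCompact h := MorphismProperty.of_isPullback hh hjc₀
  exact exists_compactification_of_immersion f (ι ≫ h) (pullback.snd p₀ s)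
    (by rw [Category.assoc, pullback.lift_snd, hιf])

end GrothLib.Nagata6
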