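import Groth.Agent.Lib.Nagata6.Proper
import Groth.Agent.Lib.QuasiDom6.Main

/-!
# Modifications are open in blow-ups

A separated morphism of finite type which is an isomorphism over an open becomes, after blowing up,
an open immersion.
-/

universe u

open CategoryTheory Limits AlgebraicGeometry Opposite TopologicalSpace

namespace GrothLib.Nagata6

/-- A blow-up followed by an isomorphism of the source is a blow-up. -/
theorem isBlowUp_iso_comp {X X' X'' : Scheme.{u}} (e : X'' ⟶ X') [IsIso e] {b : X' ⟶ X}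
    {I : X.IdealSheafData} (hb : BlowUp.IsBlowUp b I) : BlowUp.IsBlowUp (e ≫ b) I := by
  refine ⟨?_, fun Y g hg => ?_⟩
  · rw [Scheme.IdealSheafData.comap_comp]
    exact GrothLib.BlowUp.isEffCartierIdeal_comap_of_flat e hb.1
  · obtain ⟨h, hh, hu⟩ := hb.2 Y g hg
    refine ⟨h ≫ inv e, by simpa using hh, fun k hk => ?_⟩
    rw [← hu (k ≫ e) (by simpa using hk), Category.assoc, IsIso.hom_inv_id, Category.comp_id]

theorem isIso_ι_top (X : Scheme.{u}) : IsIso (⊤ : X.Opens).ι :=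
  inferInstanceAs (IsIso X.topIso.hom)

theorem fg_comap' {P T : Scheme.{u}} (I : P.IdealSheafData) (hI : BlowUp.IsFiniteTypeIdeal I)
    (p : T ⟶ P) : BlowUp.IsFiniteTypeIdeal (I.comap p) := fun W => by
  have h : ∀ t : T, ∃ W : T.affineOpens, t ∈ W.1 ∧ ((I.comap p).ideal W).FG := fun t => by
    obtain ⟨U, V, hxV, hVU⟩ := FSchSys.exists_affine_pair p t
    refine ⟨V, hxV, ?_⟩
    rw [GrothLib.BlowUp.ideal_comap_eq_map _ p U V hVU]
    exact (hI U).map _
  choose V htV hfg using h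
  exact FgSupport6.fg_of_cover _ V (fun t => ⟨t, htV t⟩) hfg W

theorem isAdmissibleFor_comap {P T : Scheme.{u}} {V : P.Opens} {I : P.IdealSheafData}
    (hI : BlowUp.IsAdmissibleFor V I) (p : T ⟶ P) {O : T.Opens} (hO : O ≤ p ⁻¹ᵁ V) :
    BlowUp.IsAdmissibleFor O (I.comap p) :=
  ⟨fg_comap' I hI.1 p, by
    rw [Scheme.IdealSheafData.support_comap]
    exact Set.disjoint_left.mpr fun x hx hxO => Set.disjoint_left.mp hI.2 hx (hO hxO)⟩

/-- A modification becomes open in a blow-up, and is then itself a blow-up. -/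
theorem exists_modification {X Y : Scheme.{u}} [CompactSpace Y] [QuasiSeparatedSpace Y]
    (f : X ⟶ Y) [IsSeparated f] [QuasiCompact f] [LocallyOfFiniteType f]
    (U V : Y.Opens) (hUV : U ≤ V) (hU : IsCompact (U : Set Y)) (hV : IsCompact (V : Set Y))
    (hUd : (V : Set Y) ⊆ closure (U : Set Y)) [IsIso (f ∣_ U)] (hfV : f ⁻¹ᵁ V ≤ f ⁻¹ᵁ U) :
    ∃ (J : Y.IdealSheafData) (Y' : Scheme.{u}) (c : Y' ⟶ Y) (W : Y'.Opens)
      (g : (W : Scheme.{u}) ⟶ X),
      BlowUp.IsBlowUp c J ∧ BlowUp.IsAdmissibleFor V J ∧ (J.support : Set Y) = (V : Set Y)ᶜ ∧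
      c ⁻¹ᵁ U ≤ W ∧ Dense (W : Set Y') ∧ g ≫ f = W.ι ≫ c ∧ BlowUp.IsBlowUp g (J.comap f) ∧
      IsProper g ∧ (IsProper f → W = ⊤) := by
  have : CompactSpace X := QuasiCompact.compactSpace_of_compactSpace f
  have : QuasiSeparatedSpace X := quasiSeparatedSpace_of_quasiSeparated f
  let fU : (U : Scheme.{u}) ⟶ X := inv (f ∣_ U) ≫ (f ⁻¹ᵁ U).ι
  have hf : U.ι ≫ 𝟙 Y = fU ≫ f := by
    rw [Category.comp_id, Category.assoc, ← morphismRestrict_ι, IsIso.inv_hom_id_assoc]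
  have hcl : closure (Set.range (fun x => pullback.lift U.ι fU hf x)) ∩
      ((pullback.fst (𝟙 Y) f) ⁻¹ᵁ V : Set ↥(pullback (𝟙 Y) f)) ⊆
        Set.range (fun x => pullback.lift U.ι fU hf x) := by
    rintro z ⟨-, hz⟩
    have hfz : pullback.fst (𝟙 Y) f z = f (pullback.snd (𝟙 Y) f z) := by
      rw [← Scheme.Hom.comp_apply, ← pullback.condition, Category.comp_id]
    have hx : pullback.snd (𝟙 Y) f z ∈ f ⁻¹ᵁ U := hfV (by
      show f _ ∈ V
      rw [← hfz]; exact hz)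
    refine ⟨(f ∣_ U) ⟨_, hx⟩, (pullback.snd (𝟙 Y) f).homeomorph.injective ?_⟩
    show pullback.snd (𝟙 Y) f (pullback.lift U.ι fU hf ((f ∣_ U) ⟨_, hx⟩)) = pullback.snd (𝟙 Y) f z
    rw [← Scheme.Hom.comp_apply, ← Scheme.Hom.comp_apply, pullback.lift_snd, IsIso.hom_inv_id_assoc]
    rfl
  obtain ⟨J, Y', c, hc, hJ, hJs, W, hle, g, hg, hdense, hag, hclosed⟩ :=
    QuasiDom6.exists_quasiDomination_extending' (𝟙 Y) f U V hUV hU hV hUd fU hf hcl
  have hgf : g ≫ f = W.ι ≫ c := by rw [← hg, Category.comp_id]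
  have hcP := isProper_of_isBlowUp hJ.1 hc
  have : IsProper (c ≫ 𝟙 Y) := by rwa [Category.comp_id]
  let Γt : (W : Scheme.{u}) ⟶ pullback (c ≫ 𝟙 Y) f := pullback.lift W.ι g hg
  have : IsImmersion (Γt ≫ pullback.fst (c ≫ 𝟙 Y) f) := by
    rw [pullback.lift_fst]; infer_instance
  have : IsImmersion Γt := IsImmersion.of_comp Γt (pullback.fst (c ≫ 𝟙 Y) f)
  have : IsClosedImmersion Γt := .of_isPreimmersion _ hclosed
  refine ⟨J, Y', c, W, g, hc, hJ, hJs, hle, hdense, hgf, ⟨?_, fun T t ht => ?_⟩, ?_, fun hfP => ?_⟩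
  · rw [← Scheme.IdealSheafData.comap_comp, hgf, Scheme.IdealSheafData.comap_comp]
    exact GrothLib.BlowUp.isEffCartierIdeal_comap_of_flat _ hc.1
  · rw [← Scheme.IdealSheafData.comap_comp] at ht
    obtain ⟨h, hh, huniq⟩ := hc.2 T (t ≫ f) ht
    let k : T ⟶ pullback (c ≫ 𝟙 Y) f := pullback.lift h t (by simpa using hh)
    let T₀ : T.Opens := (J.comap (t ≫ f)).support.compl
    have hT₀ : IsSchemeTheoreticallyDominant T₀.ι :=
      QuasiDom6.isSchemeTheoreticallyDominant_compl_support ht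
    have hU₀ : ∀ x ∈ T₀, f (t x) ∈ U := fun x hx => by
      have hnot : (t ≫ f) x ∉ (J.support : Set Y) := by
        intro h'
        apply hx
        rw [Scheme.IdealSheafData.support_comap]
        exact h'
      rw [hJs] at hnot
      exact hfV (show t x ∈ f ⁻¹ᵁ V from not_not.mp hnot)
    let t₀ : (T₀ : Scheme.{u}) ⟶ (f ⁻¹ᵁ U : Scheme.{u}) :=
      IsOpenImmersion.lift (f ⁻¹ᵁ U).ι (T₀.ι ≫ t) (by
        rintro _ ⟨x, rfl⟩
        rw [Scheme.Opens.range_ι]
        exact hU₀ x.1 x.2)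
    have ht₀ : t₀ ≫ (f ⁻¹ᵁ U).ι = T₀.ι ≫ t := IsOpenImmersion.lift_fac _ _ _
    let h₀ : (T₀ : Scheme.{u}) ⟶ (c ⁻¹ᵁ U : Scheme.{u}) :=
      IsOpenImmersion.lift (c ⁻¹ᵁ U).ι (T₀.ι ≫ h) (by
        rintro _ ⟨x, rfl⟩
        rw [Scheme.Opens.range_ι]
        show c ((T₀.ι ≫ h) x) ∈ U
        rw [Scheme.Hom.comp_apply, ← Scheme.Hom.comp_apply h c, hh]
        exact hU₀ x.1 x.2)
    have hh₀ : h₀ ≫ (c ⁻¹ᵁ U).ι = T₀.ι ≫ h := IsOpenImmersion.lift_fac _ _ _
    have hcompat : h₀ ≫ (c ∣_ U) = t₀ ≫ (f ∣_ U) := by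
      rw [← cancel_mono U.ι, Category.assoc, Category.assoc, morphismRestrict_ι, morphismRestrict_ι,
        reassoc_of% hh₀, reassoc_of% ht₀, hh]
    let s : (T₀ : Scheme.{u}) ⟶ (W : Scheme.{u}) := h₀ ≫ Y'.homOfLE hle
    have hsk : s ≫ Γt = T₀.ι ≫ k := by
      refine pullback.hom_ext ?_ ?_
      · simp only [s, Γt, k, Category.assoc, pullback.lift_fst, Scheme.homOfLE_ι, hh₀]
      · simp only [s, Γt, k, Category.assoc, pullback.lift_snd, hag, fU, reassoc_of% hcompat,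
          IsIso.hom_inv_id_assoc, ht₀]
    have hker : Γt.ker ≤ k.ker := by
      refine (Scheme.Hom.le_ker_comp s Γt).trans (le_of_eq ?_)
      rw [hsk, Scheme.Hom.ker_comp, T₀.ι.ker_eq_bot, Scheme.IdealSheafData.map_bot]
    refine ⟨IsClosedImmersion.lift Γt k hker, ?_, fun k' hk' => ?_⟩
    · show IsClosedImmersion.lift Γt k hker ≫ g = t
      rw [← pullback.lift_snd W.ι g hg]
      show IsClosedImmersion.lift Γt k hker ≫ Γt ≫ _ = t
      rw [IsClosedImmersion.lift_fac_assoc, pullback.lift_snd]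
    · rw [← cancel_mono W.ι]
      refine (huniq (k' ≫ W.ι) ?_).trans ?_
      · show (k' ≫ W.ι) ≫ c = t ≫ f
        rw [Category.assoc, ← hgf, reassoc_of% hk']
      · refine Eq.symm ?_
        rw [← pullback.lift_fst W.ι g hg]
        show IsClosedImmersion.lift Γt k hker ≫ Γt ≫ _ = h
        rw [IsClosedImmersion.lift_fac_assoc, pullback.lift_fst]
  · rw [show g = Γt ≫ pullback.snd (c ≫ 𝟙 Y) f from (pullback.lift_snd _ _ _).symm]
    infer_instance
  · have h1 : IsClosed (W : Set Y') := by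
      rw [← Scheme.Opens.range_ι W, show W.ι = Γt ≫ pullback.fst (c ≫ 𝟙 Y) f from
        (pullback.lift_fst _ _ _).symm]
      exact (Γt ≫ pullback.fst (c ≫ 𝟙 Y) f).isClosedMap.isClosed_range
    exact SetLike.coe_injective ((h1.closure_eq.symm.trans hdense.closure_eq).trans Opens.coe_top.symm)

end GrothLib.Nagata6
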