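import Groth.Agent.Lib.Nagata6.Modification

/-!
# Extending sections and dominating by compactifications after admissible blow-ups
-/

universe u

open CategoryTheory Limits AlgebraicGeometry Opposite TopologicalSpace

namespace GrothLib.Nagata6

/-- A graph over an open is closed above that open when the target is separated. -/
theorem closure_graph_inter_subset {S X Y : Scheme.{u}} (pX : X ⟶ S) (pY : Y ⟶ S) [IsSeparated pY]
    (O : X.Opens) (f : (O : Scheme.{u}) ⟶ Y) (hf : O.ι ≫ pX = f ≫ pY) :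
    closure (Set.range (fun x => pullback.lift O.ι f hf x)) ∩
      ((pullback.fst pX pY) ⁻¹ᵁ O : Set ↥(pullback pX pY)) ⊆
        Set.range (fun x => pullback.lift O.ι f hf x) := by
  rintro z ⟨hz, hzO⟩
  let m : pullback (O.ι ≫ pX) pY ⟶ pullback pX pY :=
    pullback.map _ _ _ _ O.ι (𝟙 Y) (𝟙 S) (by simp) (by simp)
  let γ : O.toScheme ⟶ pullback (O.ι ≫ pX) pY :=
    pullback.lift (𝟙 _) f (by rw [Category.id_comp, hf])
  have hγm : γ ≫ m = pullback.lift O.ι f hf := by
    refine pullback.hom_ext ?_ ?_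
    · simp only [γ, m, pullback.map, Category.assoc, pullback.lift_fst, pullback.lift_fst_assoc]
      simp
    · simp only [γ, m, pullback.map, Category.assoc, pullback.lift_snd, pullback.lift_snd_assoc]
      simp
  have : IsClosedImmersion γ := by
    have h := (inferInstance : IsClosedImmersion (pullback.lift (𝟙 _) f (Category.id_comp (f ≫ pY))))
    rw [show γ = pullback.lift (𝟙 _) f (Category.id_comp (f ≫ pY)) ≫ (pullback.congrHom hf.symm rfl).hom by
      refine pullback.hom_ext ?_ ?_ <;> simp only [γ, Category.assoc, pullback.congrHom_hom, pullback.map, pullback.lift_fst, pullback.lift_snd, pullback.lift_fst_assoc, pullback.lift_snd_assoc, Category.comp_id]]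
    infer_instance
  have : IsOpenImmersion m := by
    dsimp only [m]; infer_instance
  have hzm : z ∈ Set.range m := by
    rw [Scheme.Pullback.range_map]
    refine ⟨?_, ?_⟩
    · rw [Set.mem_preimage, Scheme.Opens.range_ι]; exact hzO
    · simp
  obtain ⟨w, rfl⟩ := hzm
  have hw : w ∈ closure (Set.range γ) := by
    rw [m.isOpenEmbedding.isInducing.closure_eq_preimage_closure_image, Set.mem_preimage,
      ← Set.range_comp, ← TopCat.coe_comp, ← Scheme.Hom.comp_base, hγm]
    exact hz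
  rw [γ.isClosedEmbedding.isClosed_range.closure_eq] at hw
  obtain ⟨x, rfl⟩ := hw
  exact ⟨x, by show pullback.lift O.ι f hf x = m (γ x); rw [← Scheme.Hom.comp_apply, hγm]⟩

theorem isClosedImmersion_graph {S X Y W : Scheme.{u}} {pX : X ⟶ S} {pY : Y ⟶ S} (i : W ⟶ X)
    [IsImmersion i] (g : W ⟶ Y) (h : i ≫ pX = g ≫ pY)
    (hcl : IsClosed (Set.range (fun x => pullback.lift i g h x))) :
    IsClosedImmersion (pullback.lift i g h) := by
  have : IsImmersion (pullback.lift i g h ≫ pullback.fst pX pY) := by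
    rw [pullback.lift_fst]; infer_instance
  have : IsImmersion (pullback.lift i g h) := IsImmersion.of_comp _ (pullback.fst pX pY)
  exact .of_isPreimmersion _ hcl

theorem extend_section {X S : Scheme.{u}} [CompactSpace S] [QuasiSeparatedSpace S]
    (U W : S.Opens) (hUW : U ≤ W) (hU : IsCompact (U : Set S)) (hW : IsCompact (W : Set S))
    (f : X ⟶ (W : Scheme.{u})) [IsProper f] (s : (U : Scheme.{u}) ⟶ X) (hs : s ≫ f = S.homOfLE hUW) :
    ∃ (𝓘 : S.IdealSheafData) (S' : Scheme.{u}) (b : S' ⟶ S), BlowUp.IsBlowUp b 𝓘 ∧ BlowUp.IsAdmissibleFor U 𝓘 ∧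
      ∃ s' : ((b ⁻¹ᵁ W : S'.Opens) : Scheme.{u}) ⟶ X, s' ≫ f = b ∣_ W ∧
        S'.homOfLE (show b ⁻¹ᵁ U ≤ b ⁻¹ᵁ W from fun _ hx => hUW hx) ≫ s' = (b ∣_ U) ≫ s := by
  have : CompactSpace (W : Scheme.{u}) := isCompact_iff_compactSpace.mp hW
  have : CompactSpace X := QuasiCompact.compactSpace_of_compactSpace f
  have : QuasiSeparatedSpace X := quasiSeparatedSpace_of_quasiSeparated (f ≫ W.ι)
  have hf : U.ι ≫ 𝟙 S = s ≫ f ≫ W.ι := by
    rw [Category.comp_id, reassoc_of% hs, Scheme.homOfLE_ι]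
  obtain ⟨J, S', b, hb, hJ, hJs, W', hle, ft, hft, hdense, hag, hclosed⟩ :=
    QuasiDom6.exists_quasiDomination_extending' (𝟙 S) (f ≫ W.ι) U U le_rfl hU hU subset_closure s hf
      (closure_graph_inter_subset (𝟙 S) (f ≫ W.ι) U s hf)
  refine ⟨J, S', b, hb, hJ, ?_⟩
  have hW' : W' ≤ b ⁻¹ᵁ W := fun x hx => by
    show b x ∈ W
    have := congr($hft ⟨x, hx⟩)
    simp only [Category.comp_id, Scheme.Hom.comp_apply] at this
    rw [show b x = b (W'.ι ⟨x, hx⟩) from rfl, this]
    exact (f (ft ⟨x, hx⟩)).2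
  have hft' : S'.homOfLE hW' ≫ (b ∣_ W) = ft ≫ f := by
    rw [← cancel_mono W.ι, Category.assoc, morphismRestrict_ι, reassoc_of% Scheme.homOfLE_ι,
      Category.assoc, ← hft, Category.comp_id]
  have := isClosedImmersion_graph W'.ι ft hft hclosed
  let γ : (W' : Scheme.{u}) ⟶ pullback (b ∣_ W) f := pullback.lift (S'.homOfLE hW') ft hft'
  let m : pullback (b ∣_ W) f ⟶ pullback (b ≫ 𝟙 S) (f ≫ W.ι) :=
    pullback.map _ _ _ _ (b ⁻¹ᵁ W).ι (𝟙 X) W.ι (by simp) (by simp)
  have : IsOpenImmersion m := by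
    dsimp only [m]; infer_instance
  have : IsClosedImmersion (γ ≫ m) := by
    convert ‹IsClosedImmersion (pullback.lift W'.ι ft hft)› using 1
    refine pullback.hom_ext ?_ ?_
    · simp only [γ, m, pullback.map, Category.assoc, pullback.lift_fst, pullback.lift_fst_assoc,
        Scheme.homOfLE_ι]
    · simp only [γ, m, pullback.map, Category.assoc, pullback.lift_snd, pullback.lift_snd_assoc,
        Category.comp_id]
  have : IsClosedImmersion γ := IsClosedImmersion.of_comp γ m
  have hclosedW : IsClosed (Set.range (S'.homOfLE hW')) := by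
    rw [show S'.homOfLE hW' = γ ≫ pullback.fst _ _ from (pullback.lift_fst _ _ _).symm]
    exact (γ ≫ pullback.fst (b ∣_ W) f).isClosedMap.isClosed_range
  have heq : W' = b ⁻¹ᵁ W := by
    refine le_antisymm hW' fun x hx => ?_
    have hd : (⟨x, hx⟩ : (b ⁻¹ᵁ W : Scheme.{u})) ∈ closure (Set.range (S'.homOfLE hW')) := by
      rw [(b ⁻¹ᵁ W).ι.isOpenEmbedding.isInducing.closure_eq_preimage_closure_image]
      show x ∈ closure ((b ⁻¹ᵁ W).ι '' Set.range (S'.homOfLE hW'))
      rw [← Set.range_comp, ← TopCat.coe_comp, ← Scheme.Hom.comp_base, Scheme.homOfLE_ι,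
        Scheme.Opens.range_ι, hdense.closure_eq]
      trivial
    rw [hclosedW.closure_eq] at hd
    obtain ⟨y, hy⟩ := hd
    have h := congrArg (fun z => (b ⁻¹ᵁ W).ι z) hy
    simp only [← Scheme.Hom.comp_apply, Scheme.homOfLE_ι] at h
    exact (show W'.ι y = x from h) ▸ y.2
  subst heq
  refine ⟨ft, ?_, hag⟩
  rw [← hft', Scheme.homOfLE_rfl, Category.id_comp]

theorem compactification_dominates {U S Y : Scheme.{u}} [CompactSpace S] [QuasiSeparatedSpace S]
    (g : U ⟶ S) [IsSeparated g] [LocallyOfFiniteType g] [QuasiCompact g]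
    (V : U.Opens) (hV : IsCompact (V : Set U)) (j : (V : Scheme.{u}) ⟶ Y) [IsOpenImmersion j]
    (πY : Y ⟶ S) [IsProper πY] (hj : j ≫ πY = V.ι ≫ g) :
    ∃ (𝓘 : Y.IdealSheafData) (Y' : Scheme.{u}) (b : Y' ⟶ Y), BlowUp.IsBlowUp b 𝓘 ∧
      BlowUp.IsAdmissibleFor j.opensRange 𝓘 ∧ (𝓘.support : Set Y) = (j.opensRange : Set Y)ᶜ ∧
      ∃ (V' : Y'.Opens) (hle : b ⁻¹ᵁ j.opensRange ≤ V') (h : (V' : Scheme.{u}) ⟶ U),
        IsProper h ∧ Dense (V' : Set Y') ∧ (∃ hh : V'.ι ≫ b ≫ πY = h ≫ g,
          IsClosed (Set.range (fun x => pullback.lift V'.ι h hh x))) ∧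
        ∃ k : ((b ⁻¹ᵁ j.opensRange : Y'.Opens) : Scheme.{u}) ⟶ V,
          k ≫ j = (b ∣_ j.opensRange) ≫ j.opensRange.ι ∧ Y'.homOfLE hle ≫ h = k ≫ V.ι := by
  have : CompactSpace U := QuasiCompact.compactSpace_of_compactSpace g
  have : QuasiSeparatedSpace U := quasiSeparatedSpace_of_quasiSeparated g
  have : CompactSpace Y := QuasiCompact.compactSpace_of_compactSpace πY
  have : QuasiSeparatedSpace Y := quasiSeparatedSpace_of_quasiSeparated πY
  have hO : IsCompact (j.opensRange : Set Y) := by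
    have : CompactSpace (V : Scheme.{u}) := isCompact_iff_compactSpace.mp hV
    exact isCompact_range j.continuous
  let f : (j.opensRange : Scheme.{u}) ⟶ U := j.isoOpensRange.inv ≫ V.ι
  have hf : j.opensRange.ι ≫ πY = f ≫ g := by
    rw [← Scheme.Hom.isoOpensRange_inv_comp j, Category.assoc, hj, Category.assoc]
  obtain ⟨J, Y', b, hb, hJ, hJs, V', hle, h, hh, hdense, hag, hclosed⟩ :=
    QuasiDom6.exists_quasiDomination_extending' πY g j.opensRange j.opensRange le_rfl hO hO
      subset_closure f hf (closure_graph_inter_subset πY g j.opensRange f hf)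
  have := isClosedImmersion_graph V'.ι h hh hclosed
  have := isProper_of_isBlowUp hJ.1 hb
  refine ⟨J, Y', b, hb, hJ, hJs, V', hle, h, ?_, hdense, ⟨hh, hclosed⟩,
    (b ∣_ j.opensRange) ≫ j.isoOpensRange.inv, ?_, ?_⟩
  · rw [show h = pullback.lift V'.ι h hh ≫ pullback.snd (b ≫ πY) g from (pullback.lift_snd _ _ _).symm]
    infer_instance
  · rw [Category.assoc, Scheme.Hom.isoOpensRange_inv_comp]
  · rw [hag, Category.assoc]

end GrothLib.Nagata6
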