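import Groth.Agent.Lib.Nagata6.CommonCor

/-!
# Compactifications of an open dominating the whole scheme
-/

universe u

open CategoryTheory Limits AlgebraicGeometry Opposite TopologicalSpace

namespace GrothLib.Nagata6

theorem isNoetherian_of_ft {X S : Scheme.{u}} [IsNoetherian S] (f : X ⟶ S) [QuasiCompact f]
    [LocallyOfFiniteType f] : IsNoetherian X := by
  have := LocallyOfFiniteType.isLocallyNoetherian f
  have := QuasiCompact.compactSpace_of_compactSpace f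
  exact ⟨⟩

theorem isFiniteTypeIdeal_of_noetherian {X : Scheme.{u}} [IsLocallyNoetherian X] (I : X.IdealSheafData) :
    BlowUp.IsFiniteTypeIdeal I := fun W => by
  have := IsLocallyNoetherian.component_noetherian W
  exact IsNoetherian.noetherian _

theorem isIso_restrict_of_le {X Y : Scheme.{u}} (c : X ⟶ Y) (M V : Y.Opens) (h : V ≤ M) [IsIso (c ∣_ M)] :
    IsIso (c ∣_ V) := by
  have hc₀ : c ∣_ V ≫ Y.homOfLE h = X.homOfLE (fun x hx => h hx) ≫ (c ∣_ M) := by
    rw [← cancel_mono M.ι, Category.assoc, Scheme.homOfLE_ι, morphismRestrict_ι, Category.assoc,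
      morphismRestrict_ι, Scheme.homOfLE_ι_assoc]
  have : IsOpenImmersion (c ∣_ V ≫ Y.homOfLE h) := by rw [hc₀]; infer_instance
  have : IsOpenImmersion (c ∣_ V) := IsOpenImmersion.of_comp _ (Y.homOfLE h)
  have : Surjective (c ∣_ V) := ⟨fun v => by
    obtain ⟨z, hz⟩ := (c ∣_ M).homeomorph.surjective ⟨v.1, h v.2⟩
    have hz' : c z.1 = v.1 := by
      have := congrArg (fun t => M.ι t) hz
      simp only at this
      rw [show (c ∣_ M).homeomorph z = (c ∣_ M) z from rfl] at this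
      erw [← Scheme.Hom.comp_apply, morphismRestrict_ι] at this
      exact this
    refine ⟨⟨z.1, show c z.1 ∈ V from hz' ▸ v.2⟩, V.ι.isOpenEmbedding.injective ?_⟩
    rw [← Scheme.Hom.comp_apply, morphismRestrict_ι]
    exact hz'⟩
  exact (isIso_iff_isOpenImmersion_and_surjective _).mpr ⟨inferInstance, inferInstance⟩

/-- A compactification of the open `O` which properly maps onto the ambient scheme near it. -/
structure Dominating {U S : Scheme.{u}} (g : U ⟶ S) (O : U.Opens) where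
  Y : Scheme.{u}
  p : Y ⟶ S
  isProper_p : IsProper p
  V : Y.Opens
  h : (V : Scheme.{u}) ⟶ U
  isProper_h : IsProper h
  hg : h ≫ g = V.ι ≫ p
  j : (O : Scheme.{u}) ⟶ (V : Scheme.{u})
  isOpenImmersion_j : IsOpenImmersion j
  hj : j ≫ h = O.ι
  hpre : ∀ v, h v ∈ O → v ∈ Set.range j
  dense : Dense (Set.range (j ≫ V.ι))

attribute [instance] Dominating.isProper_p Dominating.isProper_h Dominating.isOpenImmersion_j

variable {U S : Scheme.{u}} {g : U ⟶ S} {O : U.Opens}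

/-- Dominating compactifications exist. -/
theorem exists_dominating [IsNoetherian S] (g : U ⟶ S) [IsSeparated g] [LocallyOfFiniteType g] [QuasiCompact g]
    (O : U.Opens)
    (hO : ∃ (Y : Scheme.{u}) (j : (O : Scheme.{u}) ⟶ Y) (p : Y ⟶ S), IsOpenImmersion j ∧ QuasiCompact j ∧
      IsProper p ∧ j ≫ p = O.ι ≫ g) : Nonempty (Dominating g O) := by
  obtain ⟨Y₀, j₀, p₀, _, _, _, hj₀⟩ := hO
  have := isNoetherian_of_ft g
  have hOc : IsCompact (O : Set U) := NoetherianSpace.isCompact _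
  obtain ⟨J, Y', b, hb, hJ, hJs, V', hle, h, hp, hdense, ⟨hh, -⟩, k, hk, hk'⟩ :=
    compactification_dominates g O hOc j₀ p₀ hj₀
  have := isProper_of_isBlowUp hJ.1 hb
  have : IsProper (b ≫ p₀) := inferInstance
  have hs : (J.support : Set Y₀) = (Set.range j₀)ᶜ := hJs
  obtain ⟨u, huo, hub, hur⟩ := exists_lift_off hb j₀ (by rw [hs]; exact disjoint_compl_left)
  have hurange : ∀ x, u x ∈ b ⁻¹ᵁ j₀.opensRange := fun x => by
    show b (u x) ∈ j₀.opensRange
    rw [← Scheme.Hom.comp_apply, hub]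
    exact ⟨x, rfl⟩
  let u' : (O : Scheme.{u}) ⟶ (b ⁻¹ᵁ j₀.opensRange : Scheme.{u}) :=
    IsOpenImmersion.lift (b ⁻¹ᵁ j₀.opensRange).ι u (by
      rintro _ ⟨x, rfl⟩
      rw [Scheme.Opens.range_ι]
      exact hurange x)
  have hu' : u' ≫ (b ⁻¹ᵁ j₀.opensRange).ι = u := IsOpenImmersion.lift_fac _ _ _
  have : IsOpenImmersion (u' ≫ (b ⁻¹ᵁ j₀.opensRange).ι) := by rw [hu']; infer_instance
  have : IsOpenImmersion u' := IsOpenImmersion.of_comp u' (b ⁻¹ᵁ j₀.opensRange).ι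
  have hu'k : u' ≫ k = 𝟙 _ := by
    rw [← cancel_mono j₀, Category.assoc, hk, morphismRestrict_ι, reassoc_of% hu', hub, Category.id_comp]
  let j := u' ≫ Y'.homOfLE hle
  have hjι : j ≫ V'.ι = u := by rw [Category.assoc, Scheme.homOfLE_ι, hu']
  have hjh : j ≫ h = O.ι := by rw [Category.assoc, hk', reassoc_of% hu'k]
  have hd : Dense (Set.range (j ≫ V'.ι)) := by
    rw [hjι]
    have : CompactSpace (O : Scheme.{u}) := isCompact_iff_compactSpace.mp hOc
    have : QuasiSeparatedSpace Y₀ := quasiSeparatedSpace_of_quasiSeparated p₀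
    have : QuasiSeparatedSpace Y' := quasiSeparatedSpace_of_quasiSeparated b
    have : QuasiCompact u := by
      have : QuasiCompact (u ≫ terminal.from Y') := inferInstance
      have : QuasiSeparated (terminal.from Y') := quasiSeparated_iff_quasiSeparatedSpace _ |>.mpr ‹_›
      exact QuasiCompact.of_comp _ (terminal.from Y')
    have := isSchemeTheoreticallyDominant_lift hb j₀ hs u hub
    exact u.denseRange
  refine ⟨⟨Y', b ≫ p₀, inferInstance, V', h, hp, hh.symm, j, inferInstance, hjh, ?_, hd⟩⟩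
  -- the preimage of `O` is the section
  intro v hv
  let jO : (O : Scheme.{u}) ⟶ (h ⁻¹ᵁ O : Scheme.{u}) := IsOpenImmersion.lift (h ⁻¹ᵁ O).ι j (by
    rintro _ ⟨x, rfl⟩
    rw [Scheme.Opens.range_ι]
    show h (j x) ∈ O
    rw [← Scheme.Hom.comp_apply, hjh]
    exact x.2)
  have hjO : jO ≫ (h ⁻¹ᵁ O).ι = j := IsOpenImmersion.lift_fac _ _ _
  have hsec : jO ≫ (h ∣_ O) = 𝟙 _ := by
    rw [← cancel_mono O.ι, Category.assoc, morphismRestrict_ι, reassoc_of% hjO, hjh, Category.id_comp]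
  have : IsClosedImmersion (jO ≫ (h ∣_ O)) := by rw [hsec]; infer_instance
  have : IsClosedImmersion jO := IsClosedImmersion.of_comp jO (h ∣_ O)
  have hv' : (⟨v, hv⟩ : (h ⁻¹ᵁ O : Scheme.{u})) ∈ Set.range jO := by
    rw [← jO.isClosedEmbedding.isClosed_range.closure_eq,
      (h ⁻¹ᵁ O).ι.isOpenEmbedding.isInducing.closure_eq_preimage_closure_image]
    show v ∈ closure _
    rw [← Set.range_comp, ← TopCat.coe_comp, ← Scheme.Hom.comp_base, hjO]
    have := hd (V'.ι v)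
    rw [Scheme.Hom.comp_base, TopCat.coe_comp, Set.range_comp] at this
    rw [V'.ι.isOpenEmbedding.isInducing.closure_eq_preimage_closure_image]
    exact this
  obtain ⟨x, hx⟩ := hv'
  exact ⟨x, by rw [← hjO, Scheme.Hom.comp_apply, hx]; rfl⟩

/-- Blow up a dominating compactification in a centre missing the domination open. -/
theorem Dominating.exists_blowUp [IsLocallyNoetherian S] (D : Dominating g O) (A : D.Y.IdealSheafData)
    (hA : Disjoint (A.support : Set D.Y) (D.V : Set D.Y)) :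
    ∃ (D' : Dominating g O) (c : D'.Y ⟶ D.Y), BlowUp.IsBlowUp c A ∧ c ≫ D.p = D'.p ∧
      ∃ (hV : D'.V = c ⁻¹ᵁ D.V), (D'.Y.homOfLE hV.le ≫ (c ∣_ D.V)) ≫ D.h = D'.h := by
  have := LocallyOfFiniteType.isLocallyNoetherian D.p
  obtain ⟨Y', c, hc⟩ := GrothLib.BlowUp.exists_isBlowUp D.Y A
  have := isProper_of_isBlowUp (isFiniteTypeIdeal_of_noetherian A) hc
  have := GrothLib.BlowUp.isIso_off_center hc
  let M : D.Y.Opens := A.support.compl
  have hVM : D.V ≤ M := fun x hx h => Set.disjoint_left.mp hA h hx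
  have hiso : IsIso (c ∣_ D.V) :=
    isIso_restrict_of_le c M D.V hVM
  let j : (O : Scheme.{u}) ⟶ (c ⁻¹ᵁ D.V : Scheme.{u}) := D.j ≫ inv (c ∣_ D.V)
  have hjc : j ≫ (c ∣_ D.V) = D.j := by simp [j]
  refine ⟨⟨Y', c ≫ D.p, inferInstance, c ⁻¹ᵁ D.V, (c ∣_ D.V) ≫ D.h, inferInstance, ?_, j, inferInstance,
    ?_, ?_, ?_⟩, c, hc, rfl, rfl, ?_⟩
  · rw [Category.assoc, D.hg, morphismRestrict_ι_assoc]
  · rw [← Category.assoc, hjc, D.hj]
  · intro v hv
    obtain ⟨x, hx⟩ := D.hpre ((c ∣_ D.V) v) hv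
    refine ⟨x, (c ∣_ D.V).homeomorph.injective ?_⟩
    show (c ∣_ D.V) (j x) = (c ∣_ D.V) v
    rw [← Scheme.Hom.comp_apply, hjc, hx]
  · rw [dense_iff_inter_open]
    intro N hN hne
    obtain ⟨y, hyN, hy⟩ := (dense_iff_inter_open.mp (QuasiDom6.dense_compl_support hc.1)) N hN hne
    rw [Set.mem_compl_iff, Scheme.IdealSheafData.support_comap] at hy
    have : IsOpenImmersion ((c ⁻¹ᵁ M).ι ≫ c) := by rw [← morphismRestrict_ι]; infer_instance
    have hopen : IsOpen (((c ⁻¹ᵁ M).ι ≫ c) '' ((c ⁻¹ᵁ M).ι ⁻¹' N)) :=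
      ((c ⁻¹ᵁ M).ι ≫ c).isOpenEmbedding.isOpenMap _ (hN.preimage (c ⁻¹ᵁ M).ι.continuous)
    obtain ⟨_, ⟨z, hz, rfl⟩, x, hx⟩ := dense_iff_inter_open.mp D.dense _ hopen
      ⟨_, ⟨⟨y, hy⟩, hyN, rfl⟩⟩
    refine ⟨(c ⁻¹ᵁ M).ι z, hz, x, ?_⟩
    have h1 : c ((j ≫ (c ⁻¹ᵁ D.V).ι) x) = c ((c ⁻¹ᵁ M).ι z) := by
      rw [← Scheme.Hom.comp_apply, ← Scheme.Hom.comp_apply, Category.assoc, ← morphismRestrict_ι,
        reassoc_of% hjc, hx]
    have h2 : (j ≫ (c ⁻¹ᵁ D.V).ι) x ∈ c ⁻¹ᵁ M := hVM (j x).2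
    have h3 := ((c ⁻¹ᵁ M).ι ≫ c).isOpenEmbedding.injective (a₁ := ⟨_, h2⟩) (a₂ := z) h1
    exact congrArg Subtype.val h3
  · rw [Scheme.homOfLE_rfl, Category.id_comp]

end GrothLib.Nagata6
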