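import Groth.Agent.Lib.BlowUp.Exists

/-!
# The standard affine charts of a blow-up over an affine open of the base
-/

universe u

open CategoryTheory Limits AlgebraicGeometry Opposite TopologicalSpace

namespace GrothLib.Nagata6

theorem exists_num_affineAlgebra {R : Type u} [CommRing R] {I : Ideal R} (a : I)
    (z : ↥(BlowUp.affineAlgebra R I (a : R))) :
    ∃ (m : ℕ) (x : R), x ∈ I ^ m ∧
      algebraMap R ↥(BlowUp.affineAlgebra R I (a : R)) x = z * algebraMap R _ (a : R) ^ m := by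
  obtain ⟨z, hz⟩ := z
  induction hz using Algebra.adjoin_induction with
  | mem z hz =>
    obtain ⟨y, hy, rfl⟩ := hz
    refine ⟨1, y, by rwa [pow_one], ?_⟩
    rw [pow_one, mul_comm]
    exact (GrothLib.BlowUp.algebraMap_mul_frac (a : R) ⟨y, hy⟩).symm
  | algebraMap r =>
    refine ⟨0, r, by simp, ?_⟩
    rw [pow_zero, mul_one]
    rfl
  | add y z hy hz e1 e2 =>
    obtain ⟨m, x, hx, e⟩ := e1
    obtain ⟨n, x', hx', e'⟩ := e2
    refine ⟨m + n, x * (a : R) ^ n + (a : R) ^ m * x', add_mem ?_ ?_, ?_⟩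
    · rw [pow_add]; exact Ideal.mul_mem_mul hx (Ideal.pow_mem_pow a.2 n)
    · rw [pow_add]; exact Ideal.mul_mem_mul (Ideal.pow_mem_pow a.2 m) hx'
    · rw [map_add, map_mul, map_mul, map_pow, map_pow, e, e',
        show (⟨y + z, _⟩ : ↥(BlowUp.affineAlgebra R I (a : R))) = ⟨y, hy⟩ + ⟨z, hz⟩ from rfl, pow_add]
      ring
  | mul y z hy hz e1 e2 =>
    obtain ⟨m, x, hx, e⟩ := e1
    obtain ⟨n, x', hx', e'⟩ := e2
    refine ⟨m + n, x * x', ?_, ?_⟩
    · rw [pow_add]; exact Ideal.mul_mem_mul hx hx'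
    · rw [map_mul, e, e',
        show (⟨y * z, _⟩ : ↥(BlowUp.affineAlgebra R I (a : R))) = ⟨y, hy⟩ * ⟨z, hz⟩ from rfl, pow_add]
      ring

variable {X X' : Scheme.{u}}

theorem appLE_fromSpec (U : X.affineOpens) :
    U.2.fromSpec.appLE U.1 ⊤ U.2.fromSpec_preimage_self.ge = (Scheme.ΓSpecIso Γ(X, U.1)).inv := by
  simp only [Scheme.Hom.appLE, IsAffineOpen.fromSpec_app_self, Category.assoc, ← Functor.map_comp]
  refine (congrArg _ ?_).trans (Category.comp_id _)
  exact (congrArg _ (Subsingleton.elim _ (𝟙 _))).trans (CategoryTheory.Functor.map_id _ _)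

theorem comap_fromSpec (A : X.IdealSheafData) (U : X.affineOpens) :
    A.comap U.2.fromSpec = GrothLib.BlowUp.idealSheaf (A.ideal U) := by
  refine Scheme.IdealSheafData.ext_of_isAffine ?_
  rw [GrothLib.BlowUp.ideal_idealSheaf_top,
    GrothLib.BlowUp.ideal_comap_eq_map A U.2.fromSpec U ⟨⊤, isAffineOpen_top _⟩
      U.2.fromSpec_preimage_self.ge, appLE_fromSpec]
  rfl

/-- The standard charts of a blow-up above an affine open. -/
theorem exists_charts {A : X.IdealSheafData} {b : X' ⟶ X} (hb : BlowUp.IsBlowUp b A) (U : X.affineOpens) :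
    ∃ (V : A.ideal U → X'.affineOpens) (hVU : ∀ f, (V f).1 ≤ b ⁻¹ᵁ U.1),
      (∀ f : A.ideal U, b.appLE U.1 (V f).1 (hVU f) (f : Γ(X, U.1)) ∈ nonZeroDivisors Γ(X', (V f).1) ∧
        (A.comap b).ideal (V f) = Ideal.span {b.appLE U.1 (V f).1 (hVU f) (f : Γ(X, U.1))}) ∧
      (∀ (f : A.ideal U) (k : Γ(X', (V f).1)), ∃ (m : ℕ) (x : Γ(X, U.1)), x ∈ A.ideal U ^ m ∧
        b.appLE U.1 (V f).1 (hVU f) x = k * b.appLE U.1 (V f).1 (hVU f) (f : Γ(X, U.1)) ^ m) ∧
      (∀ x : X', b x ∈ U.1 → ∃ f, x ∈ (V f).1) ∧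
      (∀ (f g : A.ideal U) (φ : Γ(X', (V g).1)),
        b.appLE U.1 (V g).1 (hVU g) (f : Γ(X, U.1)) = φ * b.appLE U.1 (V g).1 (hVU g) (g : Γ(X, U.1)) →
        X'.basicOpen φ ≤ (V f).1) := by
  let R := Γ(X, U.1)
  have h1 := GrothLib.BlowUp.isBlowUp_flat_baseChange U.2.fromSpec hb
  rw [comap_fromSpec] at h1
  obtain ⟨e, he⟩ := GrothLib.BlowUp.exists_iso_of_isBlowUp h1 (GrothLib.BlowUp.isBlowUp_proj (A.ideal U))
  let C := GrothLib.BlowUp.reesCharts (A.ideal U)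
  let J : ∀ f : A.ideal U, Spec (CommRingCat.of ↥(BlowUp.affineAlgebra R (A.ideal U) (f : R))) ⟶ X' :=
    fun f => C.j f ≫ e.inv ≫ pullback.snd U.2.fromSpec b
  have hJo : ∀ f, IsOpenImmersion (J f) := fun f => inferInstance
  have hJb : ∀ f, J f ≫ b = Spec.map (CommRingCat.ofHom (algebraMap R _)) ≫ U.2.fromSpec := fun f => by
    simp only [J, Category.assoc, ← pullback.condition]
    rw [← he]
    simp only [Category.assoc, Iso.inv_hom_id_assoc]
    exact (Category.assoc _ _ _).symm.trans (congrArg (· ≫ U.2.fromSpec) (C.comp f))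
  let V : A.ideal U → X'.affineOpens := fun f =>
    ⟨(J f) ''ᵁ ⊤, (isAffineOpen_top _).image_of_isOpenImmersion (J f)⟩
  have hVU : ∀ f, (V f).1 ≤ b ⁻¹ᵁ U.1 := by
    rintro f _ ⟨q, -, rfl⟩
    show b (J f q) ∈ U.1
    rw [← Scheme.Hom.comp_apply, hJb, Scheme.Hom.comp_apply]
    exact U.2.range_fromSpec.le ⟨_, rfl⟩
  -- coordinates on a chart
  let σ : ∀ f, Γ(X', (V f).1) ≅ CommRingCat.of ↥(BlowUp.affineAlgebra R (A.ideal U) (f : R)) :=
    fun f => (J f).appIso ⊤ ≪≫ Scheme.ΓSpecIso _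
  have hσ : ∀ (f : A.ideal U) (r : R), (σ f).hom (b.appLE U.1 (V f).1 (hVU f) r) = algebraMap R _ r := by
    intro f r
    have key : b.appLE U.1 (V f).1 (hVU f) ≫ ((J f).appIso ⊤).hom ≫ (Scheme.ΓSpecIso _).hom =
        CommRingCat.ofHom (algebraMap R ↥(BlowUp.affineAlgebra R (A.ideal U) (f : R))) := by
      rw [Scheme.Hom.appIso_hom', ← Category.assoc, Scheme.Hom.appLE_comp_appLE]
      simp only [hJb]
      rw [← Scheme.Hom.appLE_comp_appLE (Spec.map (CommRingCat.ofHom (algebraMap R _))) U.2.fromSpec U.1 ⊤ ⊤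
        U.2.fromSpec_preimage_self.ge (by simp), appLE_fromSpec]
      simp [Scheme.Hom.appLE, Scheme.ΓSpecIso_naturality]
      exact Iso.inv_hom_id_assoc (Scheme.ΓSpecIso Γ(X, U.1)) _
    exact congr($key r)
  have hinj : ∀ f, Function.Injective (σ f).hom := fun f => (ConcreteCategory.bijective_of_isIso _).1
  have hnzd : ∀ f : A.ideal U, b.appLE U.1 (V f).1 (hVU f) (f : R) ∈ nonZeroDivisors Γ(X', (V f).1) := by
    intro f
    rw [mem_nonZeroDivisors_iff_right]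
    intro z hz
    apply hinj f
    rw [map_zero]
    refine (mem_nonZeroDivisors_iff_right.mp
      (GrothLib.BlowUp.algebraMap_mem_nonZeroDivisors (I := A.ideal U) (f : R))) _ ?_
    rw [← hσ f, ← map_mul, hz, map_zero]
  refine ⟨V, hVU, fun f => ⟨hnzd f, ?_⟩, fun f k => ?_, fun x hx => ?_, fun f g φ hφ => ?_⟩
  · rw [GrothLib.BlowUp.ideal_comap_eq_map A b U (V f) (hVU f)]
    refine le_antisymm (Ideal.map_le_iff_le_comap.mpr fun r hr => ?_)
      ((Ideal.span_singleton_le_iff_mem _).mpr (Ideal.mem_map_of_mem _ f.2))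
    obtain ⟨q, hq⟩ := (ConcreteCategory.bijective_of_isIso (σ f).hom).2
      (GrothLib.BlowUp.frac (f : R) ⟨r, hr⟩)
    refine Ideal.mem_span_singleton'.mpr ⟨q, hinj f ?_⟩
    rw [map_mul, hq, hσ, hσ, mul_comm]
    exact GrothLib.BlowUp.algebraMap_mul_frac (f : R) ⟨r, hr⟩
  · obtain ⟨m, x, hx, hxk⟩ := exists_num_affineAlgebra f ((σ f).hom k)
    refine ⟨m, x, hx, hinj f ?_⟩
    rw [hσ, map_mul, map_pow, hσ, hxk]
  · obtain ⟨y, hy⟩ : x ∈ Set.range (pullback.snd U.2.fromSpec b) := by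
      rw [IsOpenImmersion.range_pullbackSnd, U.2.opensRange_fromSpec]; exact hx
    obtain ⟨f, q, hq⟩ := C.covers (e.hom y)
    refine ⟨f, q, trivial, ?_⟩
    show J f q = x
    rw [← hy]
    simp only [J, Scheme.Hom.comp_apply, hq]
    rw [← Scheme.Hom.comp_apply e.hom e.inv, Iso.hom_inv_id]
    rfl
  · intro x hx
    obtain ⟨q, -, rfl⟩ := X'.basicOpen_le φ hx
    have hσφ : (σ g).hom φ = GrothLib.BlowUp.frac (g : R) f := by
      refine (mul_cancel_left_mem_nonZeroDivisors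
        (GrothLib.BlowUp.algebraMap_mem_nonZeroDivisors (I := A.ideal U) (g : R))).mp ?_
      rw [GrothLib.BlowUp.algebraMap_mul_frac, ← hσ g, ← hσ g, hφ, map_mul, mul_comm]
    have hq : GrothLib.BlowUp.frac (g : R) f ∉ q.asIdeal := by
      have h' : q ∈ (J g) ⁻¹ᵁ X'.basicOpen φ := hx
      rw [Scheme.Hom.preimage_basicOpen] at h'
      have e' : Scheme.basicOpen _ ((J g).app ((J g) ''ᵁ ⊤) φ) =
          Scheme.basicOpen _ (((J g).appIso ⊤).hom φ) := by
        rw [Scheme.Hom.appIso_hom', Scheme.Hom.appLE, CommRingCat.comp_apply, Scheme.basicOpen_res,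
          inf_eq_right.mpr (fun z _ => trivial)]
      erw [e', basicOpen_eq_of_affine'] at h'
      rw [← hσφ]
      exact h'
    obtain ⟨q', hq'⟩ := C.overlap f g q hq
    refine ⟨q', trivial, ?_⟩
    show J f q' = J g q
    simp only [J, Scheme.Hom.comp_apply, hq']

end GrothLib.Nagata6
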