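import Groth.Agent.Lib.Nagata6.Comp
import Groth.Agent.Lib.Nagata6.Modification

/-!
# Admissible ideals extend from opens
-/

universe u

open CategoryTheory Limits AlgebraicGeometry Opposite TopologicalSpace

namespace GrothLib.Nagata6

variable {X : Scheme.{u}}

theorem ideal_eq_top_of_disjoint (I : X.IdealSheafData) (W : X.affineOpens)
    (h : Disjoint (W.1 : Set X) (I.support : Set X)) : I.ideal W = ⊤ := by
  have : IsAffine W.1.toScheme := W.2
  have h0 : I.comap W.1.ι = ⊤ := by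
    rw [← Scheme.IdealSheafData.support_eq_bot_iff, Scheme.IdealSheafData.support_comap]
    ext1; ext x
    simp only [Closeds.coe_preimage, Set.mem_preimage, Closeds.coe_bot, Set.mem_empty_iff_false, iff_false]
    exact Set.disjoint_left.mp h x.2
  have h1 := congrArg (fun J => Scheme.IdealSheafData.ideal J ⟨⊤, isAffineOpen_top W.1.toScheme⟩) h0
  rw [GrothLib.BlowUp.ideal_comap_eq_map I W.1.ι W ⟨⊤, isAffineOpen_top _⟩ (by simp)] at h1
  simp only [Scheme.IdealSheafData.ideal_top, Pi.top_apply] at h1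
  have hb : Function.Bijective (W.1.ι.appLE W.1 ⊤ (by simp)).hom := by
    have : IsIso (W.1.ι.app W.1) := W.1.ι.isIso_app _ (by simp)
    have e : (⊤ : W.1.toScheme.Opens) = W.1.ι ⁻¹ᵁ W.1 := by simp
    have : IsIso (W.1.ι.appLE W.1 ⊤ (by simp)) := by
      rw [Scheme.Hom.appLE, Subsingleton.elim (homOfLE _).op (eqToHom (congrArg Opposite.op e.symm))]
      infer_instance
    exact ConcreteCategory.bijective_of_isIso (W.1.ι.appLE W.1 ⊤ _)
  rw [← Ideal.comap_map_of_bijective _ hb (I := I.ideal W), h1, Ideal.comap_top]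

theorem exists_finite_affines (O : X.Opens) (hO : IsCompact (O : Set X)) :
    ∃ (n : ℕ) (W : Fin n → X.affineOpens), (∀ i, (W i).1 ≤ O) ∧ ∀ x ∈ O, ∃ i, x ∈ (W i).1 := by
  choose W hW hxW hWO using fun x : O => exists_isAffineOpen_mem_and_subset x.2
  obtain ⟨s, hs⟩ := hO.elim_finite_subcover (fun x : O => (W x : Set X)) (fun x => (W x).2)
    fun x hx => Set.mem_iUnion.2 ⟨⟨x, hx⟩, hxW ⟨x, hx⟩⟩
  refine ⟨s.card, fun i => ⟨W (s.equivFin.symm i), hW _⟩, fun i => hWO _, fun x hx => ?_⟩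
  obtain ⟨y, hy, hxy⟩ := Set.mem_iUnion₂.mp (hs hx)
  exact ⟨s.equivFin ⟨y, hy⟩, by simpa using hxy⟩

/-- Ideals of finite type extend from a quasi-compact open, keeping admissibility. -/
theorem exists_extension [CompactSpace X] [QuasiSeparatedSpace X] (U V : X.Opens)
    (hU : IsCompact (U : Set X)) (hV : IsCompact (V : Set X))
    (I : (V : Scheme.{u}).IdealSheafData) (hI : BlowUp.IsAdmissibleFor (V.ι ⁻¹ᵁ U) I) :
    ∃ J : X.IdealSheafData, BlowUp.IsAdmissibleFor U J ∧ J.comap V.ι = I := by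
  classical
  have : CompactSpace (V : Scheme.{u}) := isCompact_iff_compactSpace.mp hV
  have : QuasiCompact V.ι := by
    have : QuasiCompact (V.ι ≫ terminal.from X) := inferInstance
    have : QuasiSeparated (terminal.from X) := quasiSeparated_iff_quasiSeparatedSpace _ |>.mpr ‹_›
    exact QuasiCompact.of_comp _ (terminal.from X)
  let M := I.map V.ι
  have hbij : ∀ (W : X.affineOpens) (hW : W.1 ≤ V), Function.Bijective (V.ι.app W.1).hom := fun W hW => by
    have : IsIso (V.ι.app W.1) := V.ι.isIso_app _ (by rwa [Scheme.Opens.opensRange_ι])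
    exact ConcreteCategory.bijective_of_isIso _
  let pre : ∀ (W : X.affineOpens) (_ : W.1 ≤ V), (V : Scheme.{u}).affineOpens := fun W hW =>
    ⟨V.ι ⁻¹ᵁ W.1, W.2.preimage_of_isOpenImmersion _ (by rwa [Scheme.Opens.opensRange_ι])⟩
  have hMI : ∀ (W : X.affineOpens) (hW : W.1 ≤ V), M.ideal W = (I.ideal (pre W hW)).comap (V.ι.app W.1).hom := by
    intro W hW
    refine le_antisymm (fun a ha => ?_) fun a ha => ?_
    · refine (Scheme.IdealSheafData.le_map_iff_comap_le.mp (le_refl M)) (pre W hW) ?_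
      rw [GrothLib.BlowUp.ideal_comap_eq_map M V.ι W (pre W hW) le_rfl, Scheme.Hom.app_eq_appLE]
      exact Ideal.mem_map_of_mem _ ha
    · refine mem_map_ideal V.ι I W (fun _ : PUnit.{1} => pre W hW) (fun _ => le_rfl)
        (fun x hx => ⟨⟨⟩, hx⟩) a fun _ => ?_
      rw [Ideal.mem_comap, Scheme.Hom.app_eq_appLE] at ha
      exact ha
  obtain ⟨n, W, hWV, hWcov⟩ := exists_finite_affines V hV
  obtain ⟨l, P, hPU, hPcov⟩ := exists_finite_affines U hU
  obtain ⟨k, Q, -, hQcov⟩ := exists_finite_affines (⊤ : X.Opens) isCompact_univ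
  choose G hG using fun i => hI.1 (pre (W i) (hWV i))
  choose G' hG' using fun i (g : G i) => (hbij (W i) (hWV i)).2 g.1
  let ι := Fin n ⊕ (Fin l ⊕ Fin k)
  let R : ι → X.affineOpens := Sum.elim W (Sum.elim P Q)
  let D : ∀ r : ι, Finset Γ(X, (R r).1) := fun r => match r with
    | .inl i => Finset.univ.image (G' i)
    | .inr (.inl _) => {1}
    | .inr (.inr _) => ∅
  obtain ⟨J, hJM, hJfg, hDJ⟩ := FgSupport6.exists_fg_le R M D fun r => by
    rcases r with i | i | i
    · intro x hx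
      obtain ⟨g, -, rfl⟩ := Finset.mem_image.mp hx
      rw [SetLike.mem_coe]
      show G' i g ∈ M.ideal (W i)
      rw [hMI _ (hWV i), Ideal.mem_comap, hG']
      exact (hG i).le (Ideal.subset_span g.2)
    · intro x hx
      obtain rfl : x = 1 := Finset.mem_singleton.mp hx
      refine mem_map_ideal V.ι I (P i) (fun W' : {W' : (V : Scheme.{u}).affineOpens // W'.1 ≤ V.ι ⁻¹ᵁ (P i).1} => W'.1)
        (fun W' => W'.2) (fun z hz => ?_) 1 fun W' => ?_
      · obtain ⟨W', hW', hzW', hle⟩ := exists_isAffineOpen_mem_and_subset (show z ∈ V.ι ⁻¹ᵁ (P i).1 from hz)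
        exact ⟨⟨⟨W', hW'⟩, hle⟩, hzW'⟩
      · rw [ideal_eq_top_of_disjoint I W'.1 (Set.disjoint_left.mpr fun z hz hzI =>
          Set.disjoint_left.mp hI.2 hzI (hPU i (W'.2 hz)))]
        trivial
    · intro x hx; simp [D] at hx
  have hcov : ∀ x : X, ∃ r, x ∈ (R r).1 := fun x => by
    obtain ⟨i, hi⟩ := hQcov x trivial
    exact ⟨.inr (.inr i), hi⟩
  refine ⟨J, ⟨FgSupport6.fg_of_cover J R hcov hJfg, ?_⟩,
    le_antisymm ((Scheme.IdealSheafData.le_map_iff_comap_le.mp hJM)) ?_⟩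
  · rw [Set.disjoint_right]
    intro x hx hxJ
    obtain ⟨i, hi⟩ := hPcov x hx
    have h1 : (1 : Γ(X, (P i).1)) ∈ J.ideal (P i) := hDJ (.inr (.inl i)) (Finset.mem_singleton_self _)
    have := (Scheme.IdealSheafData.mem_support_iff_of_mem (U := P i) hi).mp hxJ
    rw [Scheme.mem_zeroLocus_iff] at this
    exact this 1 h1 (by simpa using hi)
  · refine Scheme.IdealSheafData.le_of_iSup_eq_top (fun i => pre (W i) (hWV i))
      (top_unique fun x _ => ?_) fun i => ?_
    · obtain ⟨i, hi⟩ := hWcov x.1 x.2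
      exact Opens.mem_iSup.mpr ⟨i, hi⟩
    · rw [GrothLib.BlowUp.ideal_comap_eq_map J V.ι (W i) (pre (W i) (hWV i)) le_rfl, ← hG i, Ideal.span_le]
      intro g hg
      have := Ideal.mem_map_of_mem (V.ι.appLE (W i).1 (pre (W i) (hWV i)).1 le_rfl).hom
        (hDJ (.inl i) (Finset.mem_image.mpr ⟨⟨g, hg⟩, Finset.mem_univ _, rfl⟩))
      have e : V.ι.appLE (W i).1 (pre (W i) (hWV i)).1 le_rfl (G' i ⟨g, hg⟩) = g := by
        have := hG' i ⟨g, hg⟩
        rw [Scheme.Hom.app_eq_appLE] at this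
        exact this
      erw [e] at this
      exact this

/-- Blow-ups restrict to opens. -/
theorem isBlowUp_restrict {X' : Scheme.{u}} {b : X' ⟶ X} {J : X.IdealSheafData} (hb : BlowUp.IsBlowUp b J)
    (V : X.Opens) : BlowUp.IsBlowUp (b ∣_ V) (J.comap V.ι) := by
  have h := isBlowUp_iso_comp ((pullbackRestrictIsoRestrict b V).inv ≫ (pullbackSymmetry b V.ι).hom)
    (GrothLib.BlowUp.isBlowUp_flat_baseChange V.ι hb)
  rwa [Category.assoc, pullbackSymmetry_hom_comp_fst,
    show (pullbackRestrictIsoRestrict b V).inv ≫ pullback.snd b V.ι = b ∣_ V by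
      rw [← pullbackRestrictIsoRestrict_hom_morphismRestrict, Iso.inv_hom_id_assoc]] at h

end GrothLib.Nagata6
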