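import Groth.Agent.Lib.Nagata6.Charts
import Groth.Agent.Lib.Nagata6.Proper
import Groth.Agent.Lib.FgSupport6.Exists

/-!
# A composite of blow-ups in ideals of finite type is a blow-up
-/

universe u

open CategoryTheory Limits AlgebraicGeometry Opposite TopologicalSpace

namespace GrothLib.Nagata6

open GrothLib.Thickening (res res_res app_res)

variable {X X' : Scheme.{u}}

theorem res_appLE (b : X' ⟶ X) {U : X.Opens} {V D : X'.Opens} (e : V ≤ b ⁻¹ᵁ U) (h : D ≤ V) (x : Γ(X, U)) :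
    res h (b.appLE U V e x) = b.appLE U D (h.trans e) x := by
  show (b.appLE U V e ≫ X'.presheaf.map (homOfLE h).op) x = _
  rw [Scheme.Hom.appLE_map]

/-- Membership in a pushed forward ideal sheaf is local on the source. -/
theorem mem_map_ideal (b : X' ⟶ X) [QuasiCompact b] (L : X'.IdealSheafData) (U : X.affineOpens) {κ : Type*}
    (V : κ → X'.affineOpens) (hVU : ∀ k, (V k).1 ≤ b ⁻¹ᵁ U.1) (hcov : ∀ x, b x ∈ U.1 → ∃ k, x ∈ (V k).1)
    (a : Γ(X, U.1)) (h : ∀ k, b.appLE U.1 (V k).1 (hVU k) a ∈ L.ideal (V k)) : a ∈ (L.map b).ideal U := by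
  rw [Scheme.IdealSheafData.map, Scheme.Hom.ker_apply, RingHom.mem_ker, Scheme.Hom.comp_app]
  show L.subschemeι.app (b ⁻¹ᵁ U.1) (b.app U.1 a) = 0
  refine TopCat.Sheaf.eq_of_locally_eq' L.subscheme.sheaf
    (fun k => L.subschemeι ⁻¹ᵁ (V k).1) _ (fun k => homOfLE (L.subschemeι.preimage_mono (hVU k))) ?_ _ _
    fun k => ?_
  · intro z hz
    obtain ⟨k, hk⟩ := hcov (L.subschemeι z) hz
    exact Opens.mem_iSup.mpr ⟨k, hk⟩
  · show res (L.subschemeι.preimage_mono (hVU k)) (L.subschemeι.app _ (b.app U.1 a)) = res (L.subschemeι.preimage_mono (hVU k)) 0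
    rw [map_zero, ← app_res L.subschemeι (hVU k)]
    have : b.appLE U.1 (V k).1 (hVU k) a ∈ RingHom.ker (L.subschemeι.app (V k).1).hom := by
      rw [Scheme.IdealSheafData.ker_subschemeι_app]; exact h k
    exact this

theorem isEffCartierIdeal_pow {I : X.IdealSheafData} (hI : BlowUp.IsEffCartierIdeal I) :
    ∀ n : ℕ, BlowUp.IsEffCartierIdeal (I ^ n)
  | 0 => by
    rw [pow_zero]
    convert! GrothLib.BlowUp.isEffCartierIdeal_top
  | n + 1 => by
    rw [pow_succ]
    exact GrothLib.BlowUp.isEffCartierIdeal_mul (isEffCartierIdeal_pow hI n) hI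

/-- A section of an ideal sheaf on one chart, cleared of denominators on another chart. -/
theorem exists_pow_mul_mem (K : X'.IdealSheafData) (W V : X'.affineOpens) (φ : Γ(X', W.1))
    (hD : X'.basicOpen φ ≤ V.1) {e α fW : Γ(X', W.1)} (he : e ∈ nonZeroDivisors Γ(X', W.1))
    (hfW : fW = φ * e) {m : ℕ} {z : Γ(X', W.1)} (hz : z = α * e ^ m)
    {k fV zV : Γ(X', V.1)} (hk : k ∈ K.ideal V) (hzV : zV = k * fV ^ m)
    (hf : res hD fV = res (X'.basicOpen_le φ) fW) (hzz : res hD zV = res (X'.basicOpen_le φ) z) :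
    ∃ N, ∀ n, N ≤ n → φ ^ n * α ∈ K.ideal W := by
  set r := res (X'.basicOpen_le φ) with hr
  have hen : r e ∈ nonZeroDivisors Γ(X', X'.basicOpen φ) :=
    GrothLib.BlowUp.mem_nonZeroDivisors_of_flat _
      (GrothLib.BlowUp.flat_res (U := W) (V := X'.affineBasicOpen φ) (X'.basicOpen_le φ)) he
  have hα : r α = res hD k * r φ ^ m := by
    refine (mul_cancel_right_mem_nonZeroDivisors (pow_mem hen m)).mp ?_
    rw [← map_pow r e, ← map_mul, ← hz, ← hzz, hzV, map_mul, map_pow, hf, hfW, map_mul, mul_pow,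
      map_pow, mul_assoc]
  have hmem : r α ∈ (K.ideal W).map r := by
    rw [hα]
    refine Ideal.mul_mem_right _ _ ?_
    exact (((K.map_ideal (U := X'.affineBasicOpen φ) (V := V) hD).trans
      (K.map_ideal (U := X'.affineBasicOpen φ) (V := W) (X'.basicOpen_le φ)).symm).le
        (Ideal.mem_map_of_mem _ hk))
  let := r.toAlgebra
  have : IsLocalization.Away φ Γ(X', X'.basicOpen φ) := W.2.isLocalization_basicOpen φ
  obtain ⟨⟨d, ⟨_, n, rfl⟩⟩, hd⟩ := (IsLocalization.mem_map_algebraMap_iff (Submonoid.powers φ) _).mp hmem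
  have hd' : algebraMap Γ(X', W.1) Γ(X', X'.basicOpen φ) (α * φ ^ n) = algebraMap _ _ d.1 := by
    rw [map_mul]; exact hd
  obtain ⟨⟨_, n', rfl⟩, hn'⟩ :=
    (IsLocalization.eq_iff_exists (Submonoid.powers φ) Γ(X', X'.basicOpen φ)).mp hd'
  refine ⟨n' + n, fun l hl => ?_⟩
  obtain ⟨t, rfl⟩ := Nat.exists_eq_add_of_le hl
  rw [show φ ^ (n' + n + t) * α = φ ^ t * (φ ^ n' * (α * φ ^ n)) by ring]
  exact Ideal.mul_mem_left _ _ (hn' ▸ Ideal.mul_mem_left _ _ d.2)

/-- An ideal of finite type on a blow-up comes, after twisting by the exceptional ideal, from the base. -/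
theorem exists_comap_eq [CompactSpace X] [QuasiSeparatedSpace X] {A : X.IdealSheafData}
    (hA : BlowUp.IsFiniteTypeIdeal A) {b : X' ⟶ X} (hb : BlowUp.IsBlowUp b A) (K : X'.IdealSheafData)
    (hK : BlowUp.IsFiniteTypeIdeal K) :
    ∃ (C : X.IdealSheafData) (d : ℕ), BlowUp.IsFiniteTypeIdeal C ∧ C.comap b = K * (A.comap b) ^ d := by
  classical
  have := isProper_of_isBlowUp hA hb
  let 𝒰 := X.affineCover.finiteSubcover
  let U : 𝒰.I₀ → X.affineOpens := fun i => ⟨(𝒰.f i).opensRange, isAffineOpen_opensRange _⟩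
  have hcovX : ∀ x : X, ∃ i, x ∈ (U i).1 := fun x => ⟨_, 𝒰.covers x⟩
  choose V hVU hgen hnum hcov hov using fun i => exists_charts hb (U i)
  choose F hF using fun i => (b.isCompact_preimage (U i).2.isCompact).elim_finite_subcover
    (fun f => ((V i f).1 : Set X')) (fun f => (V i f).1.2) fun x hx => Set.mem_iUnion.2 (hcov i x hx)
  have hcov' : ∀ i x, b x ∈ (U i).1 → ∃ f : F i, x ∈ (V i f).1 := fun i x hx => by
    obtain ⟨f, hf, hxf⟩ := Set.mem_iUnion₂.mp (hF i hx)
    exact ⟨⟨f, hf⟩, hxf⟩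
  let ρ : ∀ i (f : A.ideal (U i)), Γ(X, (U i).1) →+* Γ(X', (V i f).1) := fun i f =>
    (b.appLE (U i).1 (V i f).1 (hVU i f)).hom
  choose G hG using fun (i : 𝒰.I₀) (f : F i) => hK (V i f)
  choose m z hzI hz using fun (i : 𝒰.I₀) (f : F i) (k : G i f) => hnum i f k.1
  have hφ : ∀ i (g : F i) (f : F i), ∃ φ : Γ(X', (V i g).1), ρ i g f.1.1 = φ * ρ i g g.1.1 := fun i g f => by
    have : ρ i g f.1.1 ∈ (A.comap b).ideal (V i g) := by
      rw [GrothLib.BlowUp.ideal_comap_eq_map A b (U i) (V i g) (hVU i g)]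
      exact Ideal.mem_map_of_mem _ f.1.2
    rw [(hgen i g).2] at this
    obtain ⟨φ, h⟩ := Ideal.mem_span_singleton'.mp this
    exact ⟨φ, h.symm⟩
  choose φ hφ using hφ
  have hα : ∀ i (g f : F i) (k : G i f), ∃ α : Γ(X', (V i g).1), ρ i g (z i f k) = α * ρ i g g.1.1 ^ m i f k := by
    intro i g f k
    have : ρ i g (z i f k) ∈ (A.comap b).ideal (V i g) ^ m i f k := by
      rw [GrothLib.BlowUp.ideal_comap_eq_map A b (U i) (V i g) (hVU i g), ← Ideal.map_pow]
      exact Ideal.mem_map_of_mem _ (hzI i f k)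
    rw [(hgen i g).2, Ideal.span_singleton_pow] at this
    obtain ⟨α, h⟩ := Ideal.mem_span_singleton'.mp this
    exact ⟨α, h.symm⟩
  choose α hα using hα
  have hN : ∀ i (g f : F i) (k : G i f), ∃ N, ∀ n, N ≤ n → φ i g f ^ n * α i g f k ∈ K.ideal (V i g) := by
    intro i g f k
    have hD := hov i f.1 g.1 (φ i g f) (hφ i g f)
    refine exists_pow_mul_mem K (V i g) (V i f) (φ i g f) hD (hgen i g).1 (hφ i g f) (hα i g f k)
      (k := k.1) ((hG i f).le (Ideal.subset_span k.2)) (hz i f k) ?_ ?_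
    · rw [res_appLE]; exact (res_appLE b (hVU i g) _ _).symm
    · rw [res_appLE]; exact (res_appLE b (hVU i g) _ _).symm
  choose N hN using hN
  obtain ⟨d, hd⟩ : ∃ d, ∀ i (g f : F i) (k : G i f), m i f k + N i g f k ≤ d :=
    ⟨Finset.univ.sup fun p : (i : 𝒰.I₀) × (g : F i) × (f : F i) × G i f =>
      m p.1 p.2.2.1 p.2.2.2 + N p.1 p.2.1 p.2.2.1 p.2.2.2, fun i g f k =>
      Finset.le_sup (f := fun p : (i : 𝒰.I₀) × (g : F i) × (f : F i) × G i f =>
        m p.1 p.2.2.1 p.2.2.2 + N p.1 p.2.1 p.2.2.1 p.2.2.2) (Finset.mem_univ ⟨i, g, f, k⟩)⟩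
  let L := K * (A.comap b) ^ d
  have hL : ∀ i (g : F i), L.ideal (V i g) = K.ideal (V i g) * Ideal.span {ρ i g g.1.1 ^ d} := fun i g => by
    simp only [L, Scheme.IdealSheafData.ideal_mul, Scheme.IdealSheafData.ideal_pow, Pi.mul_apply,
      Pi.pow_apply, (hgen i g).2, Ideal.span_singleton_pow]
    rfl
  have hLmap : ∀ i (f : F i) (k : G i f), z i f k * f.1.1 ^ (d - m i f k) ∈ (L.map b).ideal (U i) := by
    intro i f k
    refine mem_map_ideal b L (U i) (fun g : F i => V i g) (fun g => hVU i g) (hcov' i) _ fun g => ?_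
    have hm : m i f k ≤ d := le_trans (Nat.le_add_right _ _) (hd i g f k)
    show ρ i g (z i f k * f.1.1 ^ (d - m i f k)) ∈ L.ideal (V i g)
    rw [hL, map_mul, map_pow, hφ i g f, hα i g f k, mul_pow,
      show α i g f k * ρ i g g.1.1 ^ m i f k * (φ i g f ^ (d - m i f k) * ρ i g g.1.1 ^ (d - m i f k)) =
        (φ i g f ^ (d - m i f k) * α i g f k) * (ρ i g g.1.1 ^ m i f k * ρ i g g.1.1 ^ (d - m i f k)) by ring,
      ← pow_add, Nat.add_sub_cancel' hm]
    refine Ideal.mul_mem_mul (hN i g f k _ ?_) (Ideal.mem_span_singleton_self _)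
    have := hd i g f k
    omega
  let D : ∀ i, Finset Γ(X, (U i).1) := fun i =>
    Finset.univ.image fun p : (f : F i) × G i f => z i p.1 p.2 * p.1.1.1 ^ (d - m i p.1 p.2)
  obtain ⟨C, hCM, hCfg, hDC⟩ := FgSupport6.exists_fg_le U (L.map b) D fun i x hx => by
    obtain ⟨p, -, rfl⟩ := Finset.mem_image.mp hx
    exact hLmap i p.1 p.2
  refine ⟨C, d, FgSupport6.fg_of_cover C U hcovX hCfg,
    le_antisymm (Scheme.IdealSheafData.le_map_iff_comap_le.mp hCM) ?_⟩
  refine Scheme.IdealSheafData.le_of_iSup_eq_top (fun p : (i : 𝒰.I₀) × F i => V p.1 p.2)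
    (top_unique fun x _ => ?_) fun p => ?_
  · obtain ⟨i, hi⟩ := hcovX (b x)
    obtain ⟨f, hf⟩ := hcov' i x hi
    exact Opens.mem_iSup.mpr ⟨⟨i, f⟩, hf⟩
  · obtain ⟨i, f⟩ := p
    show L.ideal (V i f) ≤ _
    rw [hL, ← hG i f, Ideal.span_mul_span', Set.mul_singleton,
      GrothLib.BlowUp.ideal_comap_eq_map C b (U i) (V i f) (hVU i f), Ideal.span_le]
    rintro _ ⟨k, hk, rfl⟩
    have hm : m i f ⟨k, hk⟩ ≤ d := le_trans (Nat.le_add_right _ _) (hd i f f ⟨k, hk⟩)
    have h := Ideal.mem_map_of_mem (ρ i f) (hDC i (Finset.mem_image.mpr ⟨⟨f, ⟨k, hk⟩⟩, Finset.mem_univ _, rfl⟩))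
    rw [map_mul, map_pow] at h
    have e : ρ i f (z i f ⟨k, hk⟩) = k * ρ i f f.1.1 ^ m i f ⟨k, hk⟩ := hz i f ⟨k, hk⟩
    rw [e, mul_assoc, ← pow_add, Nat.add_sub_cancel' hm] at h
    exact h

/-- A composite of blow-ups in ideals of finite type is a blow-up (Stacks 080L). -/
theorem exists_isBlowUp_comp [CompactSpace X] [QuasiSeparatedSpace X] {X'' : Scheme.{u}} {A : X.IdealSheafData}
    (hA : BlowUp.IsFiniteTypeIdeal A) {b : X' ⟶ X} (hb : BlowUp.IsBlowUp b A) {K : X'.IdealSheafData}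
    (hK : BlowUp.IsFiniteTypeIdeal K) {b' : X'' ⟶ X'} (hb' : BlowUp.IsBlowUp b' K) :
    ∃ P : X.IdealSheafData, BlowUp.IsFiniteTypeIdeal P ∧
      (P.support : Set X) = (A.support : Set X) ∪ (fun x' => b x') '' (K.support : Set X') ∧
      BlowUp.IsBlowUp (b' ≫ b) P := by
  obtain ⟨C, d, hC, hCb⟩ := exists_comap_eq hA hb K hK
  refine ⟨A * C, fun W => ?_, ?_, GrothLib.BlowUp.isBlowUp_comp_mul hb ?_⟩
  · rw [Scheme.IdealSheafData.ideal_mul, Pi.mul_apply]
    exact Submodule.FG.mul (hA W) (hC W)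
  · rw [Scheme.IdealSheafData.support_mul]
    have hsupp : ∀ x', b x' ∈ (C.support : Set X) ↔ x' ∈ ((K * (A.comap b) ^ d).support : Set X') := fun x' => by
      rw [← hCb, Scheme.IdealSheafData.support_comap]
      rfl
    simp only [Closeds.coe_sup]
    refine Set.Subset.antisymm (Set.union_subset Set.subset_union_left fun x hx => ?_)
      (Set.union_subset Set.subset_union_left ?_)
    · by_cases hxA : x ∈ (A.support : Set X)
      · exact Or.inl hxA
      · have := GrothLib.BlowUp.isIso_off_center hb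
        obtain ⟨y, hy⟩ := (b ∣_ A.support.compl).homeomorph.surjective ⟨x, hxA⟩
        refine Or.inr ⟨y.1, ?_, ?_⟩
        · have hy' : b y.1 = x := by
            have := congrArg (fun z => (Scheme.Opens.ι A.support.compl) z) hy
            simp only at this
            rw [show (b ∣_ A.support.compl).homeomorph y = (b ∣_ A.support.compl) y from rfl] at this
            erw [← Scheme.Hom.comp_apply, morphismRestrict_ι] at this
            exact this
          have h := (hsupp y.1).mp (hy' ▸ hx)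
          rw [Scheme.IdealSheafData.support_mul, Closeds.coe_sup] at h
          rcases h with h | h
          · exact h
          · exfalso
            apply hxA
            have hd0 : d ≠ 0 := fun h0 => by simp [h0] at h
            rw [Scheme.IdealSheafData.support_pow (n := d) (hn := hd0), Scheme.IdealSheafData.support_comap] at h
            exact hy' ▸ h
        · have := congrArg (fun z => (Scheme.Opens.ι A.support.compl) z) hy
          simp only at this
          rw [show (b ∣_ A.support.compl).homeomorph y = (b ∣_ A.support.compl) y from rfl] at this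
          erw [← Scheme.Hom.comp_apply, morphismRestrict_ι] at this
          exact this
    · rintro _ ⟨x', hx', rfl⟩
      refine Or.inr ((hsupp x').mpr ?_)
      rw [Scheme.IdealSheafData.support_mul, Closeds.coe_sup]
      exact Or.inl hx'
  · rw [hCb]
    exact GrothLib.BlowUp.isBlowUp_mul_effCartier hb' (isEffCartierIdeal_pow hb.1 d)

end GrothLib.Nagata6
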