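import Groth.Agent.Lib.Nagata6.Strict
import Groth.Agent.Lib.FgSupport6.Separate

/-!
# Strict transforms are isomorphisms near a closed set after an admissible blow-up
-/

universe u

open CategoryTheory Limits AlgebraicGeometry Opposite TopologicalSpace

namespace GrothLib.Nagata6

theorem isIso_restrict_of_pullback {X Y X' Y' : Scheme.{u}} {f : X ⟶ Y} {c : Y' ⟶ Y} {p₁ : X' ⟶ X}
    {p₂ : X' ⟶ Y'} (hPB : IsPullback p₁ p₂ f c) (W₀ : Y.Opens) [IsIso (f ∣_ W₀)] (O : Y'.Opens)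
    (hO : O ≤ c ⁻¹ᵁ W₀) : IsIso (p₂ ∣_ O) := by
  let c₀ : (O : Scheme.{u}) ⟶ (W₀ : Scheme.{u}) := IsOpenImmersion.lift W₀.ι (O.ι ≫ c) (by
    rintro _ ⟨x, rfl⟩
    rw [Scheme.Opens.range_ι]
    exact hO x.2)
  have hc₀ : c₀ ≫ W₀.ι = O.ι ≫ c := IsOpenImmersion.lift_fac _ _ _
  have sq : IsPullback (pullback.fst p₂ O.ι ≫ p₁) (pullback.snd p₂ O.ι) f (c₀ ≫ W₀.ι) := by
    rw [hc₀]
    exact (IsPullback.of_hasPullback p₂ O.ι).paste_horiz hPB
  let t : pullback p₂ O.ι ⟶ (f ⁻¹ᵁ W₀ : Scheme.{u}) :=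
    IsOpenImmersion.lift (f ⁻¹ᵁ W₀).ι (pullback.fst p₂ O.ι ≫ p₁) (by
      rintro _ ⟨x, rfl⟩
      rw [Scheme.Opens.range_ι]
      show f ((pullback.fst p₂ O.ι ≫ p₁) x) ∈ W₀
      rw [← Scheme.Hom.comp_apply, sq.w, ← Category.assoc, Scheme.Hom.comp_apply]
      exact ((pullback.snd p₂ O.ι ≫ c₀) x).2)
  have ht : t ≫ (f ⁻¹ᵁ W₀).ι = pullback.fst p₂ O.ι ≫ p₁ := IsOpenImmersion.lift_fac _ _ _
  have hp : t ≫ (f ∣_ W₀) = pullback.snd p₂ O.ι ≫ c₀ := by
    rw [← cancel_mono W₀.ι, Category.assoc, morphismRestrict_ι, reassoc_of% ht, Category.assoc, hc₀]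
    have := sq.w
    rw [hc₀] at this
    simpa using this
  rw [← ht] at sq
  have sq' := IsPullback.of_right sq hp (isPullback_morphismRestrict f W₀).flip
  have : IsIso (pullback.snd p₂ O.ι) :=
    MorphismProperty.of_isPullback (P := MorphismProperty.isomorphisms Scheme) sq' ‹_›
  rw [show p₂ ∣_ O = (pullbackRestrictIsoRestrict p₂ O).inv ≫ pullback.snd p₂ O.ι by
    rw [← pullbackRestrictIsoRestrict_hom_morphismRestrict, Iso.inv_hom_id_assoc]]
  infer_instance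

theorem coe_finsetSup {X α : Type*} [TopologicalSpace X] (s : Finset α) (R : α → Opens X) :
    ((s.sup R : Opens X) : Set X) = ⋃ x ∈ s, (R x : Set X) := by
  classical
  induction s using Finset.induction with
  | empty => simp
  | insert a s ha ih => simp [Finset.sup_insert, ih]

theorem comap_map_ι {X : Scheme.{u}} (M : X.Opens) [QuasiCompact M.ι] (I : (M : Scheme.{u}).IdealSheafData) :
    (I.map M.ι).comap M.ι = I := by
  refine le_antisymm (Scheme.IdealSheafData.le_map_iff_comap_le.mp le_rfl) (fun D a ha => ?_)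
  let D' : X.affineOpens := ⟨M.ι ''ᵁ D.1, D.2.image_of_isOpenImmersion M.ι⟩
  have e : D.1 = M.ι ⁻¹ᵁ D'.1 := (M.ι.preimage_image_eq D.1).symm
  have hbij : Function.Bijective (M.ι.appLE D'.1 D.1 e.le).hom := by
    have : IsIso (M.ι.app D'.1) := M.ι.isIso_app _ (M.ι.image_le_opensRange D.1)
    have : IsIso (M.ι.appLE D'.1 D.1 e.le) := by
      rw [Scheme.Hom.appLE, Subsingleton.elim (homOfLE _).op (eqToHom (congrArg Opposite.op e.symm))]
      infer_instance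
    exact ConcreteCategory.bijective_of_isIso _
  obtain ⟨a₀, rfl⟩ := hbij.2 a
  rw [GrothLib.BlowUp.ideal_comap_eq_map _ M.ι D' D e.le]
  refine Ideal.mem_map_of_mem _ ?_
  exact mem_map_ideal M.ι I D' (fun _ : PUnit.{1} => D) (fun _ => e.le)
    (fun x hx => ⟨⟨⟩, e.ge hx⟩) a₀ fun _ => ha

theorem isIso_restrict_of_ker {X' Y' : Scheme.{u}} [QuasiSeparatedSpace X'] (p₂ : X' ⟶ Y') [IsSeparated p₂] [QuasiCompact p₂]
    (W : Y'.Opens) (hW : IsCompact (W : Set Y')) (l : (W : Scheme.{u}) ⟶ X') (hl : l ≫ p₂ = W.ι)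
    (𝒥 : X'.IdealSheafData) (h : ∀ D : X'.affineOpens, D.1 ≤ p₂ ⁻¹ᵁ W → 𝒥.ideal D = l.ker.ideal D) :
    IsIso ((𝒥.subschemeι ≫ p₂) ∣_ W) := by
  let M := p₂ ⁻¹ᵁ W
  let l₀ : (W : Scheme.{u}) ⟶ (M : Scheme.{u}) := IsOpenImmersion.lift M.ι l (by
    rintro _ ⟨x, rfl⟩
    rw [Scheme.Opens.range_ι]
    show p₂ (l x) ∈ W
    rw [← Scheme.Hom.comp_apply, hl]
    exact x.2)
  have hl₀ : l₀ ≫ M.ι = l := IsOpenImmersion.lift_fac _ _ _
  have hsec : l₀ ≫ (p₂ ∣_ W) = 𝟙 _ := by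
    rw [← cancel_mono W.ι, Category.assoc, morphismRestrict_ι, reassoc_of% hl₀, hl, Category.id_comp]
  have : IsSeparated (p₂ ∣_ W) := IsZariskiLocalAtTarget.restrict ‹_› W
  have : IsClosedImmersion (l₀ ≫ (p₂ ∣_ W)) := by rw [hsec]; infer_instance
  have : IsClosedImmersion l₀ := IsClosedImmersion.of_comp l₀ (p₂ ∣_ W)
  have : CompactSpace (M : Scheme.{u}) := isCompact_iff_compactSpace.mp (p₂.isCompact_preimage hW)
  have : QuasiCompact M.ι := by
    have : QuasiCompact (M.ι ≫ terminal.from X') := inferInstance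
    have : QuasiSeparated (terminal.from X') := quasiSeparated_iff_quasiSeparatedSpace _ |>.mpr ‹_›
    exact QuasiCompact.of_comp _ (terminal.from X')
  let k := 𝒥.subschemeι ∣_ M
  have hk : k.ker = l₀.ker := by
    have h1 : k.ker = 𝒥.comap M.ι := by
      have e : k = ((pullbackRestrictIsoRestrict 𝒥.subschemeι M).inv ≫
          (pullbackSymmetry 𝒥.subschemeι M.ι).hom) ≫ pullback.fst M.ι 𝒥.subschemeι := by
        rw [Category.assoc, pullbackSymmetry_hom_comp_fst,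
          ← pullbackRestrictIsoRestrict_hom_morphismRestrict, Iso.inv_hom_id_assoc]
      rw [e, Scheme.Hom.ker_comp_of_isIso]
      rfl
    have h2 : l₀.ker = l.ker.comap M.ι := by
      rw [← hl₀, Scheme.Hom.ker_comp, comap_map_ι]
    rw [h1, h2]
    ext D : 2
    let D' : X'.affineOpens := ⟨M.ι ''ᵁ D.1, D.2.image_of_isOpenImmersion M.ι⟩
    have e : D.1 ≤ M.ι ⁻¹ᵁ D'.1 := (M.ι.preimage_image_eq D.1).ge
    rw [GrothLib.BlowUp.ideal_comap_eq_map _ M.ι D' D e, GrothLib.BlowUp.ideal_comap_eq_map _ M.ι D' D e,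
      h D' ((M.ι.image_le_opensRange D.1).trans (Scheme.Opens.opensRange_ι M).le)]
  have := IsClosedImmersion.isIso_lift l₀ k hk.symm
  have hfac : IsClosedImmersion.lift l₀ k hk.ge ≫ l₀ = k := IsClosedImmersion.lift_fac _ _ _
  rw [morphismRestrict_comp]
  show IsIso (k ≫ (p₂ ∣_ W))
  rw [← hfac, Category.assoc, hsec]
  infer_instance

/-- After an admissible blow-up the strict transform is an isomorphism near the closure of `T`. -/
theorem exists_strictTransform_iso_near {X Y : Scheme.{u}} [CompactSpace X] [QuasiSeparatedSpace X]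
    [CompactSpace Y] [QuasiSeparatedSpace Y]
    (f : X ⟶ Y) [IsProper f] (V : Y.Opens) (hV : IsCompact (V : Set Y)) (T : Set Y) (hTV : T ⊆ V)
    (hT : IsClosed (Subtype.val ⁻¹' T : Set V))
    (hiso : ∃ W : Y.Opens, T ⊆ W ∧ W ≤ V ∧ IsIso (f ∣_ W)) :
    ∃ (𝓘 : Y.IdealSheafData) (Y' : Scheme.{u}) (b : Y' ⟶ Y), BlowUp.IsBlowUp b 𝓘 ∧ BlowUp.IsAdmissibleFor V 𝓘 ∧
      ∀ (X' : Scheme.{u}) (p₁ : X' ⟶ X) (p₂ : X' ⟶ Y'), IsPullback p₁ p₂ f b →
      ∀ (𝒥 : X'.IdealSheafData),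
        (∀ (W : X'.affineOpens) (a : Γ(X', W.1)), a ∈ 𝒥.ideal W ↔
          BlowUp.KilledByPowerNear ((𝓘.comap f).comap p₁) (Coh.structureModule X') W a) →
        ∃ W' : Y'.Opens, closure (b.base ⁻¹' T) ⊆ W' ∧ IsIso ((𝒥.subschemeι ≫ p₂) ∣_ W') := by
  obtain ⟨W₀, hTW, hWV, _⟩ := hiso
  have : CompactSpace (V : Scheme.{u}) := isCompact_iff_compactSpace.mp hV
  -- constructible closed thickenings of `T` and of the complement
  have hTc : IsClosed (closure T) ∧ closure T ∩ (V : Set Y) ⊆ T := ⟨isClosed_closure, by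
    rintro x ⟨hx, hxV⟩
    have : (⟨x, hxV⟩ : V) ∈ closure (Subtype.val ⁻¹' T : Set V) := by
      refine (Topology.IsInducing.subtypeVal.closure_eq_preimage_closure_image _).ge ?_
      show x ∈ closure _
      exact closure_mono (fun t ht => (⟨⟨t, hTV ht⟩, ht, rfl⟩ : t ∈ (Subtype.val : V → Y) '' (Subtype.val ⁻¹' T))) hx
    rwa [hT.closure_eq] at this⟩
  let N : Y.Opens := V ⊓ ⟨(closure T)ᶜ, isClosed_closure.isOpen_compl⟩
  have hC : IsCompact ((V : Set Y) \ W₀) := hV.diff W₀.2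
  choose A hA hxA hAN using fun x : ((V : Set Y) \ W₀ : Set Y) => exists_isAffineOpen_mem_and_subset
    (show x.1 ∈ N from ⟨x.2.1, fun h => x.2.2 (hTW (hTc.2 ⟨h, x.2.1⟩))⟩)
  obtain ⟨sA, hsA⟩ := hC.elim_finite_subcover (fun x => (A x : Set Y)) (fun x => (A x).2)
    fun x hx => Set.mem_iUnion.2 ⟨⟨x, hx⟩, hxA _⟩
  let O : Y.Opens := sA.sup A
  have hO : IsCompact (O : Set Y) := by
    rw [show (O : Set Y) = ⋃ x ∈ sA, (A x : Set Y) from coe_finsetSup sA A]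
    exact sA.isCompact_biUnion fun x _ => (hA x).isCompact
  have hON : O ≤ N := Finset.sup_le fun x _ => hAN x
  have hCO : (V : Set Y) \ W₀ ⊆ O := hsA.trans (coe_finsetSup sA A).ge
  have hTO : IsCompact ((V : Set Y) \ O) := hV.diff O.2
  choose B hB hxB hBW using fun x : ((V : Set Y) \ O : Set Y) => exists_isAffineOpen_mem_and_subset
    (show x.1 ∈ W₀ from by by_contra h; exact x.2.2 (hCO ⟨x.2.1, h⟩))
  obtain ⟨sB, hsB⟩ := hTO.elim_finite_subcover (fun x => (B x : Set Y)) (fun x => (B x).2)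
    fun x hx => Set.mem_iUnion.2 ⟨⟨x, hx⟩, hxB _⟩
  let O' : Y.Opens := sB.sup B
  have hO' : IsCompact (O' : Set Y) := by
    rw [show (O' : Set Y) = ⋃ x ∈ sB, (B x : Set Y) from coe_finsetSup sB B]
    exact sB.isCompact_biUnion fun x _ => (hB x).isCompact
  have hO'W : O' ≤ W₀ := Finset.sup_le fun x _ => hBW x
  have hOO' : (V : Set Y) \ O ⊆ O' := hsB.trans (coe_finsetSup sB B).ge
  obtain ⟨I₁, hI₁, s₁⟩ := FgSupport6.exists_fg_support_eq O hO
  obtain ⟨I₂, hI₂, s₂⟩ := FgSupport6.exists_fg_support_eq O' hO'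
  let A₀ := I₁ ⊔ I₂
  have hA₀ : BlowUp.IsFiniteTypeIdeal A₀ := fun W => by
    rw [Scheme.IdealSheafData.ideal_sup, Pi.sup_apply]
    exact Submodule.FG.sup (hI₁ W) (hI₂ W)
  have hA₀d : Disjoint (A₀.support : Set Y) (V : Set Y) := by
    rw [Scheme.IdealSheafData.support_sup, Set.disjoint_left]
    rintro x ⟨h₁, h₂⟩ hxV
    have h₁' : x ∉ (O : Set Y) := fun h => (s₁.le h₁) h
    exact (s₂.le h₂) (hOO' ⟨hxV, h₁'⟩)
  obtain ⟨Y₁, b₁, hb₁⟩ := GrothLib.BlowUp.exists_isBlowUp Y A₀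
  have := isProper_of_isBlowUp hA₀ hb₁
  have : CompactSpace Y₁ := QuasiCompact.compactSpace_of_compactSpace b₁
  have : QuasiSeparatedSpace Y₁ := quasiSeparatedSpace_of_quasiSeparated b₁
  have hdisj : Disjoint (closure (b₁ ⁻¹' ((V : Set Y) \ O))) (closure (b₁ ⁻¹' ((V : Set Y) \ O'))) := by
    refine FgSupport6.disjoint_closure b₁ I₁ I₂ hb₁.1 _ _ ?_ ?_ ?_ ?_
    · rw [s₁]; exact fun x hx => hx.2
    · rw [s₂]; exact fun x hx => hx.2
    · exact hA₀d.symm.mono_left Set.diff_subset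
    · exact hA₀d.symm.mono_left Set.diff_subset
  have hcl : IsCompact (closure (b₁ ⁻¹' ((V : Set Y) \ O))) := isClosed_closure.isCompact
  choose R hR hxR hRle using fun x : (closure (b₁ ⁻¹' ((V : Set Y) \ O)) : Set Y₁) =>
    exists_isAffineOpen_mem_and_subset (show x.1 ∈ (⟨(closure (b₁ ⁻¹' ((V : Set Y) \ O')))ᶜ,
      isClosed_closure.isOpen_compl⟩ : Y₁.Opens) from Set.disjoint_left.mp hdisj x.2)
  obtain ⟨sR, hsR⟩ := hcl.elim_finite_subcover (fun x => (R x : Set Y₁)) (fun x => (R x).2)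
    fun x hx => Set.mem_iUnion.2 ⟨⟨x, hx⟩, hxR _⟩
  let W₁ : Y₁.Opens := sR.sup R
  have hW₁c : IsCompact (W₁ : Set Y₁) := by
    rw [show (W₁ : Set Y₁) = ⋃ x ∈ sR, (R x : Set Y₁) from coe_finsetSup sR R]
    exact sR.isCompact_biUnion fun x _ => (hR x).isCompact
  have hW₁ : ∀ y ∈ W₁, b₁ y ∈ V → b₁ y ∈ W₀ := fun y hy hyV => hO'W (by
    by_contra hn
    have h1 : W₁ ≤ ⟨(closure (b₁ ⁻¹' ((V : Set Y) \ O')))ᶜ, isClosed_closure.isOpen_compl⟩ :=
      Finset.sup_le fun x _ => hRle x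
    exact h1 hy (subset_closure ⟨hyV, hn⟩))
  have hclW : closure (b₁ ⁻¹' ((V : Set Y) \ O)) ⊆ (W₁ : Set Y₁) := by
    rw [show (W₁ : Set Y₁) = ⋃ x ∈ sR, (R x : Set Y₁) from coe_finsetSup sR R]
    exact hsR
  -- the modification over `W₁`
  have : QuasiSeparatedSpace (W₁ : Scheme.{u}) := quasiSeparatedSpace_of_quasiSeparated W₁.ι
  have : CompactSpace (W₁ : Scheme.{u}) := isCompact_iff_compactSpace.mp hW₁c
  let j := W₁.ι ≫ b₁
  let U₁ : (W₁ : Scheme.{u}).Opens := j ⁻¹ᵁ V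
  have hU₁c : IsCompact (U₁ : Set (W₁ : Scheme.{u})) := by
    refine W₁.ι.isOpenEmbedding.isInducing.isCompact_iff.mpr ?_
    rw [show W₁.ι '' (U₁ : Set (W₁ : Scheme.{u})) = (W₁ : Set Y₁) ∩ b₁ ⁻¹' V by
      rw [show (U₁ : Set (W₁ : Scheme.{u})) = W₁.ι ⁻¹' (b₁ ⁻¹' V) from rfl, Set.image_preimage_eq_range_inter,
        Scheme.Opens.range_ι]]
    exact hW₁c.inter_of_isOpen (b₁.isCompact_preimage hV) W₁.2 (b₁ ⁻¹ᵁ V).2
  have : IsIso (pullback.snd f j ∣_ U₁) :=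
    isIso_restrict_of_pullback (IsPullback.of_hasPullback f j) W₀ U₁ fun x hx => hW₁ x.1 x.2 hx
  obtain ⟨J, Wt, c, Wc, g, hc, hJ, hJs, -, -, hgf, -, -, hWc⟩ :=
    exists_modification (pullback.snd f j) U₁ U₁ le_rfl hU₁c hU₁c subset_closure le_rfl
  obtain rfl := hWc inferInstance
  have := isIso_ι_top Wt
  obtain ⟨L, hL, hLW⟩ := exists_extension (b₁ ⁻¹ᵁ V) W₁ (b₁.isCompact_preimage hV) hW₁c J hJ
  obtain ⟨Y', b', hb'⟩ := GrothLib.BlowUp.exists_isBlowUp Y₁ L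
  obtain ⟨P, hP, hPs, hPb⟩ := exists_isBlowUp_comp hA₀ hb₁ hL.1 hb'
  have hPd : Disjoint (P.support : Set Y) (V : Set Y) := by
    rw [hPs]
    refine hA₀d.union_left ?_
    rw [Set.disjoint_left]
    rintro _ ⟨x, hx, rfl⟩ hxV
    exact Set.disjoint_left.mp hL.2 hx hxV
  refine ⟨P, Y', b' ≫ b₁, hPb, ⟨hP, hPd⟩, fun X' p₁ p₂ hPB 𝒥 h𝒥 => ?_⟩
  let W' := b' ⁻¹ᵁ W₁
  refine ⟨W', fun y hy => hclW ?_, ?_⟩
  · have h1 : closure ((b' ≫ b₁).base ⁻¹' T) ⊆ b' ⁻¹' closure (b₁ ⁻¹' ((V : Set Y) \ O)) := by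
      refine closure_minimal (fun z hz => subset_closure ?_) (isClosed_closure.preimage b'.continuous)
      refine ⟨hTV hz, fun h => ?_⟩
      exact (hON h).2 (subset_closure hz)
    exact h1 hy
  obtain ⟨e, he⟩ := GrothLib.BlowUp.exists_iso_of_isBlowUp (hLW ▸ isBlowUp_restrict hb' W₁) hc
  let g₀ : (W' : Scheme.{u}) ⟶ X := e.hom ≫ inv (⊤ : Wt.Opens).ι ≫ g ≫ pullback.fst f j
  have hg₀ : g₀ ≫ f = W'.ι ≫ b' ≫ b₁ := by
    simp only [g₀, Category.assoc, pullback.condition]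
    rw [reassoc_of% hgf, IsIso.inv_hom_id_assoc, reassoc_of% he]
    simp only [j, morphismRestrict_ι_assoc]
    rfl
  have hProp := isProper_of_isBlowUp hP hPb
  have : IsProper p₁ := MorphismProperty.of_isPullback hPB.flip ‹_›
  have : IsProper p₂ := MorphismProperty.of_isPullback hPB ‹_›
  have : QuasiSeparatedSpace X' := quasiSeparatedSpace_of_quasiSeparated p₁
  have : IsProper b' := isProper_of_isBlowUp hL.1 hb'
  have hW'c : IsCompact (W' : Set Y') := b'.isCompact_preimage hW₁c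
  let l := hPB.lift g₀ W'.ι hg₀
  have : QuasiCompact l := by
    have : CompactSpace (W' : Scheme.{u}) := isCompact_iff_compactSpace.mp hW'c
    have : QuasiCompact (l ≫ terminal.from X') := inferInstance
    have : QuasiSeparated (terminal.from X') := quasiSeparated_iff_quasiSeparatedSpace _ |>.mpr ‹_›
    exact QuasiCompact.of_comp _ (terminal.from X')
  have hcart : BlowUp.IsEffCartierIdeal ((P.comap f).comap g₀) := by
    rw [← Scheme.IdealSheafData.comap_comp, hg₀, Scheme.IdealSheafData.comap_comp]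
    exact GrothLib.BlowUp.isEffCartierIdeal_comap_of_flat _ hPb.1
  refine isIso_restrict_of_ker p₂ W' hW'c l (IsPullback.lift_snd _ _ _ _) 𝒥 fun D hD => ?_
  ext a
  refine (h𝒥 D a).trans (mem_ker_iff_killed hPB (U := W₀) hP hg₀ hcart D (fun x hx hxP => ⟨hD hx, ?_⟩) a).symm
  have hyW : b' (p₂ x) ∈ W₁ := hD hx
  have hfx : f (p₁ x) = b₁ (b' (p₂ x)) := by
    rw [← Scheme.Hom.comp_apply, hPB.w]
    rfl
  rw [hfx] at hxP ⊢
  refine hW₁ _ hyW ?_
  rw [hPs] at hxP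
  have hxL : (⟨_, hyW⟩ : (W₁ : Scheme.{u})) ∉ (J.support : Set (W₁ : Scheme.{u})) := fun h => hxP (by
    refine Or.inr ⟨_, ?_, rfl⟩
    rw [← hLW, Scheme.IdealSheafData.support_comap] at h
    exact h)
  rw [hJs] at hxL
  exact not_not.mp hxL

end GrothLib.Nagata6
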