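import Groth.Agent.Lib.Nagata6.UnionTwo
import Groth.Agent.Lib.Chow.Main
import Groth.Agent.Lib.Chow.Projective

/-!
# Compactifications over a Noetherian base
-/

set_option autoImplicit false
set_option backward.isDefEq.respectTransparency false
set_option linter.style.haveILetI false

universe u

open CategoryTheory CategoryTheory.Limits AlgebraicGeometry TopologicalSpace

namespace GrothLib.Nagata6

variable {X S : Scheme.{u}}

/-- A scheme with an immersion into a scheme proper over the base has a compactification. -/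
theorem exists_compactification_of_immersion {P : Scheme.{u}} (g : X ⟶ S) (i : X ⟶ P) (q : P ⟶ S)
    [IsImmersion i] [QuasiCompact i] [IsProper q] (h : i ≫ q = g) :
    ∃ (Y : Scheme.{u}) (j : X ⟶ Y) (p : Y ⟶ S), IsOpenImmersion j ∧ QuasiCompact j ∧ IsProper p ∧ j ≫ p = g := by
  refine ⟨i.image, i.toImage, i.imageι ≫ q, inferInstance, ?_, inferInstance, ?_⟩
  · exact QuasiCompact.of_comp i.toImage i.imageι
  · rw [Scheme.Hom.toImage_imageι_assoc, h]

/-- Compactifications transport along isomorphisms of the source. -/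
theorem exists_compactification_of_iso {X' : Scheme.{u}} (g : X ⟶ S) (g' : X' ⟶ S) (e : X' ≅ X)
    (he : e.hom ≫ g = g')
    (h : ∃ (Y : Scheme.{u}) (j : X ⟶ Y) (p : Y ⟶ S), IsOpenImmersion j ∧ QuasiCompact j ∧ IsProper p ∧ j ≫ p = g) :
    ∃ (Y : Scheme.{u}) (j : X' ⟶ Y) (p : Y ⟶ S), IsOpenImmersion j ∧ QuasiCompact j ∧ IsProper p ∧ j ≫ p = g' := by
  obtain ⟨Y, j, p, hj, hjc, hp, hjp⟩ := h
  exact ⟨Y, e.hom ≫ j, p, inferInstance, inferInstance, hp, by rw [Category.assoc, hjp, he]⟩

/-- An affine scheme of finite type over a quasi-separated base has a compactification. -/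
theorem exists_compactification_of_isAffine [IsAffine X] [QuasiSeparatedSpace S] (g : X ⟶ S)
    [LocallyOfFiniteType g] :
    ∃ (Y : Scheme.{u}) (j : X ⟶ Y) (p : Y ⟶ S), IsOpenImmersion j ∧ QuasiCompact j ∧ IsProper p ∧ j ≫ p = g := by
  obtain ⟨N, i, hi, hic, hib⟩ := GrothLib.Chow.exists_immersion g
  haveI := GrothLib.Chow.isProper_toBase N S
  exact exists_compactification_of_immersion g i _ hib

/-- A separated scheme of finite type over a Noetherian scheme is covered by dense affine opens. -/
theorem exists_finite_cover_dense_affine (f : X ⟶ S) [IsNoetherian S] [QuasiCompact f]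
    [LocallyOfFiniteType f] :
    ∃ t : Finset X, ∃ V : X → X.Opens, (∀ x, IsAffineOpen (V x) ∧ Dense (V x : Set X)) ∧
      (⋃ x ∈ t, (V x : Set X)) = Set.univ := by
  haveI := isNoetherian_of_ft f
  have hfin : (irreducibleComponents (X : Type u)).Finite :=
    TopologicalSpace.NoetherianSpace.finite_irreducibleComponents
  choose V hV hxV hVd using GrothLib.Chow.exists_dense_affine hfin
  obtain ⟨t, ht⟩ := isCompact_univ.elim_finite_subcover (fun x => (V x : Set X))
    (fun x => (V x).isOpen) (fun x _ => Set.mem_iUnion.mpr ⟨x, hxV x⟩)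
  exact ⟨t, V, fun x => ⟨hV x, hVd x⟩, Set.univ_subset_iff.mp ht⟩

/-- **Nagata compactification over a Noetherian scheme.** -/
theorem exists_compactification_of_noetherian (f : X ⟶ S) [IsNoetherian S] [IsSeparated f]
    [QuasiCompact f] [LocallyOfFiniteType f] :
    ∃ (Y : Scheme.{u}) (j : X ⟶ Y) (p : Y ⟶ S), IsOpenImmersion j ∧ QuasiCompact j ∧ IsProper p ∧ j ≫ p = f := by
  classical
  haveI := isNoetherian_of_ft f
  haveI : QuasiSeparatedSpace S := inferInstance
  by_cases hX : IsEmpty X
  · exact exists_compactification_of_isAffine f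
  obtain ⟨x₀⟩ := not_isEmpty_iff.mp hX
  obtain ⟨t, V, hV, ht⟩ := exists_finite_cover_dense_affine f
  have key : ∀ s : Finset X, ∃ O : X.Opens, Dense (O : Set X) ∧ (∀ x ∈ s, V x ≤ O) ∧
      ∃ (Y : Scheme.{u}) (j : O.toScheme ⟶ Y) (p : Y ⟶ S),
        IsOpenImmersion j ∧ QuasiCompact j ∧ IsProper p ∧ j ≫ p = O.ι ≫ f := by
    intro s
    induction s using Finset.induction_on with
    | empty =>
      haveI : IsAffine (V x₀).toScheme := (hV x₀).1
      exact ⟨V x₀, (hV x₀).2, by simp, exists_compactification_of_isAffine _⟩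
    | insert x s _ ih =>
      obtain ⟨O, hOd, hOs, hO⟩ := ih
      haveI : IsAffine (V x).toScheme := (hV x).1
      have hVx := exists_compactification_of_isAffine ((V x).ι ≫ f)
      let O' := O ⊔ V x
      refine ⟨O', hOd.mono fun y hy => Or.inl hy, fun y hy => ?_, ?_⟩
      · rcases Finset.mem_insert.1 hy with rfl | hy
        · exact le_sup_right
        · exact (hOs y hy).trans le_sup_left
      haveI : NoetherianSpace O'.toScheme := O'.ι.isOpenEmbedding.isInducing.noetherianSpace
      haveI : QuasiCompact O'.ι := inferInstance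
      have hrange : ∀ W : X.Opens, W ≤ O' →
          Set.range W.ι = Set.range ((O'.ι ⁻¹ᵁ W).ι ≫ O'.ι) := fun W hW => by
        rw [Scheme.Hom.comp_base, TopCat.coe_comp, Set.range_comp, Scheme.Opens.range_ι,
          Scheme.Opens.range_ι]
        exact (Set.image_preimage_eq_of_subset (by rw [Scheme.Opens.range_ι]; exact hW)).symm
      refine exists_compactification_union (O'.ι ≫ f) (O'.ι ⁻¹ᵁ O) (O'.ι ⁻¹ᵁ V x)
        (top_le_iff.mp fun y _ => y.2) ?_
        (exists_compactification_of_iso _ _
          (IsOpenImmersion.isoOfRangeEq _ O.ι (hrange O le_sup_left).symm) ?_ hO)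
        (exists_compactification_of_iso _ _
          (IsOpenImmersion.isoOfRangeEq _ (V x).ι (hrange (V x) le_sup_right).symm) ?_ hVx)
      · exact (hOd.inter_of_isOpen_left (hV x).2 O.isOpen).preimage O'.ι.isOpenEmbedding.isOpenMap
      · rw [← Category.assoc, IsOpenImmersion.isoOfRangeEq_hom_fac, Category.assoc]
      · rw [← Category.assoc, IsOpenImmersion.isoOfRangeEq_hom_fac, Category.assoc]
  obtain ⟨O, -, hOs, hO⟩ := key t
  have hO' : O = ⊤ := top_le_iff.mp fun y _ => by
    obtain ⟨x, hx, hy⟩ := Set.mem_iUnion₂.mp (ht.ge (Set.mem_univ y))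
    exact hOs x hx hy
  subst hO'
  exact exists_compactification_of_iso _ _ X.topIso.symm (by simp) hO

end GrothLib.Nagata6
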