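import Groth.Agent.Lib.Nagata6.Common

/-!
# Consequences of the common target theorem
-/

universe u

open CategoryTheory Limits AlgebraicGeometry Opposite TopologicalSpace

namespace GrothLib.Nagata6

theorem range_iso_comp {P Q R : Scheme.{u}} (e : P ⟶ Q) [IsIso e] (f : Q ⟶ R) :
    Set.range (e ≫ f) = Set.range f := by
  rw [Scheme.Hom.comp_base, TopCat.coe_comp, Set.range_comp,
    show Set.range e = Set.univ from Set.range_eq_univ.mpr e.homeomorph.surjective, Set.image_univ]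

theorem cond_range_fst {S U X₁ X₂ : Scheme.{u}} (g₁ : X₁ ⟶ S) (g₂ : X₂ ⟶ S) [IsSeparated g₂]
    (j₁ : U ⟶ X₁) (j₂ : U ⟶ X₂) [IsOpenImmersion j₁] (h : j₁ ≫ g₁ = j₂ ≫ g₂) :
    closure (Set.range (pullback.lift j₁ j₂ h)) ∩ ((pullback.fst g₁ g₂) ⁻¹ᵁ j₁.opensRange : Set ↥(pullback g₁ g₂)) ⊆
      Set.range (pullback.lift j₁ j₂ h) := by
  have hf : j₁.opensRange.ι ≫ g₁ = (j₁.isoOpensRange.inv ≫ j₂) ≫ g₂ := by
    rw [Category.assoc, ← h, ← Scheme.Hom.isoOpensRange_inv_comp j₁, Category.assoc]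
  have he : Set.range (pullback.lift j₁.opensRange.ι (j₁.isoOpensRange.inv ≫ j₂) hf) = Set.range (pullback.lift j₁ j₂ h) := by
    rw [show pullback.lift j₁.opensRange.ι (j₁.isoOpensRange.inv ≫ j₂) hf =
        j₁.isoOpensRange.inv ≫ pullback.lift j₁ j₂ h by
      refine pullback.hom_ext ?_ ?_ <;> simp only [Category.assoc, pullback.lift_fst, pullback.lift_snd, Scheme.Hom.isoOpensRange_inv_comp], range_iso_comp]
  rw [← he]
  exact closure_graph_inter_subset g₁ g₂ j₁.opensRange _ hf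

theorem cond_range_snd {S U X₁ X₂ : Scheme.{u}} (g₁ : X₁ ⟶ S) (g₂ : X₂ ⟶ S) [IsSeparated g₁]
    (j₁ : U ⟶ X₁) (j₂ : U ⟶ X₂) [IsOpenImmersion j₂] (h : j₁ ≫ g₁ = j₂ ≫ g₂) :
    closure (Set.range (pullback.lift j₁ j₂ h)) ∩ ((pullback.snd g₁ g₂) ⁻¹ᵁ j₂.opensRange : Set ↥(pullback g₁ g₂)) ⊆
      Set.range (pullback.lift j₁ j₂ h) := by
  rintro z ⟨hz, hz'⟩
  let e := (pullbackSymmetry g₁ g₂).hom
  have he : pullback.lift j₁ j₂ h ≫ e = pullback.lift j₂ j₁ h.symm := by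
    refine pullback.hom_ext ?_ ?_ <;> simp only [e, Category.assoc, pullback.lift_fst, pullback.lift_snd, pullbackSymmetry_hom_comp_fst, pullbackSymmetry_hom_comp_snd]
  have h1 : e z ∈ closure (Set.range (pullback.lift j₂ j₁ h.symm)) := by
    rw [← he, Scheme.Hom.comp_base, TopCat.coe_comp, Set.range_comp]
    exact image_closure_subset_closure_image e.continuous ⟨z, hz, rfl⟩
  obtain ⟨u, hu⟩ := cond_range_fst g₂ g₁ j₂ j₁ h.symm ⟨h1, by
    show pullback.fst g₂ g₁ (e z) ∈ j₂.opensRange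
    rw [← Scheme.Hom.comp_apply, pullbackSymmetry_hom_comp_fst]
    exact hz'⟩
  refine ⟨u, e.homeomorph.injective ?_⟩
  show e (pullback.lift j₁ j₂ h u) = e z
  rw [← Scheme.Hom.comp_apply, he, hu]

/-- Scheme-theoretic dominance is local on a cover of the target by open immersions. -/
theorem isSchemeTheoreticallyDominant_of_cover {U X : Scheme.{u}} (j : U ⟶ X) [QuasiCompact j] {ι : Type*}
    {Y : ι → Scheme.{u}} (o : ∀ i, Y i ⟶ X) [∀ i, IsOpenImmersion (o i)]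
    (hcov : ∀ x : X, ∃ i y, o i y = x) (u : ∀ i, U ⟶ Y i) (hu : ∀ i, u i ≫ o i = j)
    [∀ i, IsSchemeTheoreticallyDominant (u i)] [∀ i, QuasiCompact (u i)] :
    IsSchemeTheoreticallyDominant j := by
  refine ⟨le_bot_iff.mp (Scheme.IdealSheafData.le_of_iSup_eq_top
    (fun W : {W : X.affineOpens // ∃ i, W.1 ≤ (o i).opensRange} => W.1) (top_unique fun x _ => ?_)
    fun W s hs => ?_)⟩
  · obtain ⟨i, y, rfl⟩ := hcov x
    obtain ⟨W, hW, hxW, hWle⟩ := exists_isAffineOpen_mem_and_subset (show o i y ∈ (o i).opensRange from ⟨y, rfl⟩)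
    exact Opens.mem_iSup.mpr ⟨⟨⟨W, hW⟩, i, hWle⟩, hxW⟩
  · obtain ⟨W, i, hW⟩ := W
    rw [Scheme.Hom.ker_apply, RingHom.mem_ker] at hs
    rw [Scheme.IdealSheafData.ideal_bot, Pi.bot_apply, Ideal.mem_bot]
    have h0 : (u i).app _ ((o i).app W.1 s) = 0 := by
      obtain rfl := hu i
      exact hs
    have h1 : (o i).app W.1 s = 0 := (u i).app_injective _ (h0.trans (map_zero _).symm)
    have : IsIso ((o i).app W.1) := (o i).isIso_app _ hW
    exact (ConcreteCategory.bijective_of_isIso ((o i).app W.1)).1 (h1.trans (map_zero _).symm)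

/-- The lift of an open missing exactly the centre is scheme-theoretically dominant in the blow-up. -/
theorem isSchemeTheoreticallyDominant_lift {U Z Zt : Scheme.{u}} {Q : Z.IdealSheafData} {b : Zt ⟶ Z}
    (hb : BlowUp.IsBlowUp b Q) (j : U ⟶ Z) [IsOpenImmersion j]
    (hs : (Q.support : Set Z) = (Set.range j)ᶜ) (u : U ⟶ Zt) (hu : u ≫ b = j) :
    IsSchemeTheoreticallyDominant u := by
  obtain ⟨u', hu'o, hu', hr⟩ := exists_lift_off hb j (by rw [hs]; exact disjoint_compl_left)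
  have hcart : BlowUp.IsEffCartierIdeal (Q.comap j) := by
    have : Q.comap j = ⊤ := by
      rw [← Scheme.IdealSheafData.support_eq_bot_iff, Scheme.IdealSheafData.support_comap]
      ext1; ext x
      simp only [Closeds.coe_preimage, Set.mem_preimage, Closeds.coe_bot, Set.mem_empty_iff_false, iff_false]
      exact fun hx => (hs.le hx) ⟨x, rfl⟩
    rw [this]
    exact GrothLib.BlowUp.isEffCartierIdeal_top
  obtain rfl : u = u' :=
    GrothLib.BlowUp.hom_ext hb (hu.trans hu'.symm) (by rw [hu]; exact hcart)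
  have := QuasiDom6.isSchemeTheoreticallyDominant_compl_support hb.1
  have heq : u.opensRange = (Q.comap b).support.compl := by
    ext x
    constructor
    · rintro ⟨y, rfl⟩ hx
      rw [Scheme.IdealSheafData.support_comap] at hx
      refine hs.le hx ⟨y, ?_⟩
      rw [← Scheme.Hom.comp_apply u b, hu]
    · intro hx
      refine hr x ?_
      by_contra hn
      apply hx
      rw [Scheme.IdealSheafData.support_comap]
      exact hs.ge hn
  have : IsSchemeTheoreticallyDominant u.opensRange.ι := heq ▸ this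
  rw [← Scheme.Hom.isoOpensRange_hom_ι u]
  infer_instance

theorem exists_proper_quasiDominations {S U X₁ X₂ : Scheme.{u}} [QuasiSeparatedSpace S]
    [CompactSpace U] [CompactSpace X₁] [CompactSpace X₂]
    (g₁ : X₁ ⟶ S) (g₂ : X₂ ⟶ S) [IsSeparated g₁] [LocallyOfFiniteType g₁]
    [IsSeparated g₂] [LocallyOfFiniteType g₂]
    (j₁ : U ⟶ X₁) (j₂ : U ⟶ X₂) [IsOpenImmersion j₁] [IsOpenImmersion j₂] (h : j₁ ≫ g₁ = j₂ ≫ g₂) :
    ∃ (X : Scheme.{u}) (q : X ⟶ S) (_ : IsSeparated q) (_ : QuasiCompact q) (_ : LocallyOfFiniteType q)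
      (j : U ⟶ X) (_ : IsOpenImmersion j) (_ : IsSchemeTheoreticallyDominant j) (_ : j ≫ q = j₁ ≫ g₁),
      (∃ (W : X.Opens) (l : U ⟶ (W : Scheme.{u})) (p : (W : Scheme.{u}) ⟶ X₁) (hp : W.ι ≫ q = p ≫ g₁),
        l ≫ W.ι = j ∧ l ≫ p = j₁ ∧ IsProper p ∧
        IsClosed (Set.range (fun x => pullback.lift W.ι p hp x))) ∧
      (∃ (W : X.Opens) (l : U ⟶ (W : Scheme.{u})) (p : (W : Scheme.{u}) ⟶ X₂) (hp : W.ι ≫ q = p ≫ g₂),
        l ≫ W.ι = j ∧ l ≫ p = j₂ ∧ IsProper p ∧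
        IsClosed (Set.range (fun x => pullback.lift W.ι p hp x))) := by
  obtain ⟨X, q, hq, hqc, hql, P₁, P₂, Y₁, Y₂, c₁, c₂, o₁, o₂, u₁, u₂, hc₁, hP₁, hP₁s, hc₂, hP₂, hP₂s, ho₁, ho₂,
      hq₁, hq₂, hu₁o, hu₂o, hu₁, hu₂, huo, hcov, -, -⟩ :=
    exists_common_target g₁ g₂ j₁ j₂ h j₁.opensRange j₂.opensRange (isCompact_range j₁.continuous)
      (isCompact_range j₂.continuous) le_rfl le_rfl subset_closure subset_closure
      (cond_range_fst g₁ g₂ j₁ j₂ h) (cond_range_snd g₁ g₂ j₁ j₂ h)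
  have : QuasiSeparatedSpace X := quasiSeparatedSpace_of_quasiSeparated q
  have hj : QuasiCompact (u₁ ≫ o₁) := by
    have : QuasiCompact ((u₁ ≫ o₁) ≫ terminal.from X) := inferInstance
    have : QuasiSeparated (terminal.from X) := quasiSeparated_iff_quasiSeparatedSpace _ |>.mpr ‹_›
    exact QuasiCompact.of_comp _ (terminal.from X)
  have hqu : ∀ {Y : Scheme.{u}} (u : U ⟶ Y) (o : Y ⟶ X), u ≫ o = u₁ ≫ o₁ → IsOpenImmersion o → QuasiCompact u :=
    fun {Y} u o e ho => by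
      have : QuasiCompact (u ≫ o) := by rw [e]; exact hj
      exact QuasiCompact.of_comp u o
  have := hqu u₁ o₁ rfl ho₁
  have := hqu u₂ o₂ huo.symm ho₂
  have hd₁ := isSchemeTheoreticallyDominant_lift hc₁ j₁ hP₁s u₁ hu₁
  have hd₂ := isSchemeTheoreticallyDominant_lift hc₂ j₂ hP₂s u₂ hu₂
  have hdom : IsSchemeTheoreticallyDominant (u₁ ≫ o₁) := by
    let Y : Bool → Scheme.{u} := fun b => if b then Y₁ else Y₂
    let o : ∀ b, Y b ⟶ X := fun b => match b with | true => o₁ | false => o₂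
    let u : ∀ b, U ⟶ Y b := fun b => match b with | true => u₁ | false => u₂
    have : ∀ b, IsOpenImmersion (o b) := fun b => by cases b <;> assumption
    have : ∀ b, IsSchemeTheoreticallyDominant (u b) := fun b => by cases b <;> assumption
    have : ∀ b, QuasiCompact (u b) := fun b => by cases b <;> assumption
    refine isSchemeTheoreticallyDominant_of_cover _ o (fun x => ?_) u (fun b => ?_)
    · rcases hcov.ge (Set.mem_univ x) with ⟨y, hy⟩ | ⟨y, hy⟩
      · exact ⟨true, y, hy⟩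
      · exact ⟨false, y, hy⟩
    · cases b
      · exact huo.symm
      · rfl
  have key : ∀ {Y Xi : Scheme.{u}} (gi : Xi ⟶ S) (ji : U ⟶ Xi) (c : Y ⟶ Xi) (o : Y ⟶ X) (u : U ⟶ Y),
      IsSeparated gi → IsProper c → IsOpenImmersion o → o ≫ q = c ≫ gi → u ≫ c = ji → u ≫ o = u₁ ≫ o₁ →
      ∃ (W : X.Opens) (l : U ⟶ (W : Scheme.{u})) (p : (W : Scheme.{u}) ⟶ Xi) (hp : W.ι ≫ q = p ≫ gi),
        l ≫ W.ι = u₁ ≫ o₁ ∧ l ≫ p = ji ∧ IsProper p ∧
        IsClosed (Set.range (fun x => pullback.lift W.ι p hp x)) := by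
    intro Y Xi gi ji c o u _ _ _ hoq huc huo'
    have hp : o.opensRange.ι ≫ q = (o.isoOpensRange.inv ≫ c) ≫ gi := by
      rw [← Scheme.Hom.isoOpensRange_inv_comp o, Category.assoc, hoq, Category.assoc]
    refine ⟨o.opensRange, u ≫ o.isoOpensRange.hom, o.isoOpensRange.inv ≫ c, hp, ?_, ?_, inferInstance, ?_⟩
    · rw [Category.assoc, Scheme.Hom.isoOpensRange_hom_ι, huo']
    · rw [Category.assoc, Iso.hom_inv_id_assoc, huc]
    · let L := pullback.lift o.opensRange.ι (o.isoOpensRange.inv ≫ c) hp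
      have : IsProper (L ≫ pullback.snd q gi) := by rw [pullback.lift_snd]; infer_instance
      have : IsProper L := IsProper.of_comp L (pullback.snd q gi)
      exact L.isClosedMap.isClosed_range
  refine ⟨X, q, hq, hqc, hql, u₁ ≫ o₁, inferInstance, hdom, ?_,
    key g₁ j₁ c₁ o₁ u₁ ‹_› (isProper_of_isBlowUp hP₁.1 hc₁) ho₁ hq₁ hu₁ rfl,
    key g₂ j₂ c₂ o₂ u₂ ‹_› (isProper_of_isBlowUp hP₂.1 hc₂) ho₂ hq₂ hu₂ huo.symm⟩
  rw [Category.assoc, hq₁, ← Category.assoc, hu₁]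

end GrothLib.Nagata6
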