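import Groth.Agent.Lib.Nagata6.UnionSeparate2
import Groth.Agent.Lib.RedSub.Basic

/-!
# A union of two compactifiable opens with dense overlap is compactifiable
-/

universe u

open CategoryTheory Limits AlgebraicGeometry Opposite TopologicalSpace

namespace GrothLib.Nagata6

theorem isEffCartierIdeal_comap_of_disjoint {X T : Scheme.{u}} (I : X.IdealSheafData) (f : T ⟶ X)
    (h : Disjoint (I.support : Set X) (Set.range f)) : BlowUp.IsEffCartierIdeal (I.comap f) := by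
  have : I.comap f = ⊤ := by
    rw [← Scheme.IdealSheafData.support_eq_bot_iff, Scheme.IdealSheafData.support_comap]
    ext1; ext x
    simp only [Closeds.coe_preimage, Set.mem_preimage, Closeds.coe_bot, Set.mem_empty_iff_false, iff_false]
    exact fun hx => Set.disjoint_left.mp h hx ⟨x, rfl⟩
  rw [this]
  exact GrothLib.BlowUp.isEffCartierIdeal_top

theorem exists_glue_two {X Y : Scheme.{u}} (A B : X.Opens) (h : A ⊔ B = ⊤) (f : (A : Scheme.{u}) ⟶ Y)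
    (f' : (B : Scheme.{u}) ⟶ Y)
    (hf : X.homOfLE (inf_le_left : A ⊓ B ≤ A) ≫ f = X.homOfLE (inf_le_right : A ⊓ B ≤ B) ≫ f') :
    ∃ φ : X ⟶ Y, A.ι ≫ φ = f ∧ B.ι ≫ φ = f' := by
  let W : Bool → X.Opens := fun b => if b then A else B
  have hcov : IsOpenCover W := top_unique fun x _ => by
    have hx : x ∈ A ⊔ B := by rw [h]; trivial
    rcases hx with hx | hx
    · exact Opens.mem_iSup.mpr ⟨true, hx⟩
    · exact Opens.mem_iSup.mpr ⟨false, hx⟩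
  let F : ∀ b, (W b : Scheme.{u}) ⟶ Y := fun b => match b with | true => f | false => f'
  have key : pullback.fst A.ι B.ι ≫ f = pullback.snd A.ι B.ι ≫ f' := by
    rw [← cancel_epi (isPullback_opens_inf A B).isoPullback.hom, IsPullback.isoPullback_hom_fst_assoc,
      IsPullback.isoPullback_hom_snd_assoc]
    exact hf
  have hdiag : ∀ (C : X.Opens) (k : (C : Scheme.{u}) ⟶ Y), pullback.fst C.ι C.ι ≫ k = pullback.snd C.ι C.ι ≫ k :=
    fun C k => by rw [fst_eq_snd_of_mono_eq]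
  let 𝒰 := Scheme.openCoverOfIsOpenCover X W hcov
  let φ := 𝒰.glueMorphisms F fun a b => by
    cases a <;> cases b
    · exact hdiag B f'
    · show pullback.fst B.ι A.ι ≫ f' = pullback.snd B.ι A.ι ≫ f
      rw [← cancel_epi (pullbackSymmetry A.ι B.ι).hom, pullbackSymmetry_hom_comp_fst_assoc,
        pullbackSymmetry_hom_comp_snd_assoc]
      exact key.symm
    · exact key
    · exact hdiag A f
  exact ⟨φ, Scheme.Cover.ι_glueMorphisms 𝒰 F _ true, Scheme.Cover.ι_glueMorphisms 𝒰 F _ false⟩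

theorem dense_preimage_open {X : Type*} [TopologicalSpace X] {O : Opens X} {A : Set X} (hA : Dense A) :
    Dense ((Subtype.val : O → X) ⁻¹' A) :=
  hA.preimage O.2.isOpenMap_subtype_val

variable {U S : Scheme.{u}}

/-- The union of two compactifiable opens with dense overlap is compactifiable. -/
theorem exists_compactification_union [IsNoetherian S] (g : U ⟶ S) [IsSeparated g] [LocallyOfFiniteType g]
    [QuasiCompact g] (U₁ U₂ : U.Opens) (hcov : U₁ ⊔ U₂ = ⊤) (hdense : Dense ((U₁ ⊓ U₂ : U.Opens) : Set U))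
    (h₁ : ∃ (Y : Scheme.{u}) (j : (U₁ : Scheme.{u}) ⟶ Y) (p : Y ⟶ S), IsOpenImmersion j ∧ QuasiCompact j ∧ IsProper p ∧ j ≫ p = U₁.ι ≫ g)
    (h₂ : ∃ (Y : Scheme.{u}) (j : (U₂ : Scheme.{u}) ⟶ Y) (p : Y ⟶ S), IsOpenImmersion j ∧ QuasiCompact j ∧ IsProper p ∧ j ≫ p = U₂.ι ≫ g) :
    ∃ (Y : Scheme.{u}) (j : U ⟶ Y) (p : Y ⟶ S), IsOpenImmersion j ∧ QuasiCompact j ∧ IsProper p ∧ j ≫ p = g := by
  have := isNoetherian_of_ft g
  obtain ⟨D₁₀⟩ := exists_dominating g U₁ h₁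
  obtain ⟨D₁, hd₁⟩ := exists_bad_disjoint (O' := U₂) D₁₀ hcov
  obtain ⟨D₂₀⟩ := exists_dominating g U₂ h₂
  let Ω := U₁ ⊓ U₂
  have hΩ₁ : Ω ≤ U₁ := inf_le_left
  have hΩ₂ : Ω ≤ U₂ := inf_le_right
  obtain ⟨D₂, hsep⟩ := exists_pair_separated D₁ D₂₀ hd₁ hΩ₁ hΩ₂
  have := isNoetherian_of_ft D₁.p
  have := isNoetherian_of_ft D₂.p
  let N₁ : D₁.Y.Opens := ⟨(D₁.bad U₁)ᶜ, isClosed_closure.isOpen_compl⟩
  let N₂ : D₂.Y.Opens := ⟨(D₂.bad U₂)ᶜ, isClosed_closure.isOpen_compl⟩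
  have hκN : ∀ {O : U.Opens} (D : Dominating g O) (x : O), D.κ le_rfl x ∈ (D.bad O)ᶜ := fun {O} D x hx => by
    rw [Dominating.κ, Scheme.homOfLE_rfl, Category.id_comp, Scheme.Hom.comp_apply, D.mem_bad] at hx
    apply hx
    rw [← Scheme.Hom.comp_apply, D.hj]
    exact x.2
  let k₁ : (U₁ : Scheme.{u}) ⟶ (N₁ : Scheme.{u}) := IsOpenImmersion.lift N₁.ι (D₁.κ le_rfl) (by
    rintro _ ⟨x, rfl⟩; rw [Scheme.Opens.range_ι]; exact hκN D₁ x)
  let k₂ : (U₂ : Scheme.{u}) ⟶ (N₂ : Scheme.{u}) := IsOpenImmersion.lift N₂.ι (D₂.κ le_rfl) (by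
    rintro _ ⟨x, rfl⟩; rw [Scheme.Opens.range_ι]; exact hκN D₂ x)
  have hk₁ : k₁ ≫ N₁.ι = D₁.κ le_rfl := IsOpenImmersion.lift_fac _ _ _
  have hk₂ : k₂ ≫ N₂.ι = D₂.κ le_rfl := IsOpenImmersion.lift_fac _ _ _
  have hκo : ∀ {O : U.Opens} (D : Dominating g O), IsOpenImmersion (D.κ le_rfl) := fun {O} D => by
    rw [Dominating.κ]; infer_instance
  have : IsOpenImmersion (k₁ ≫ N₁.ι) := hk₁ ▸ hκo D₁
  have : IsOpenImmersion k₁ := IsOpenImmersion.of_comp k₁ N₁.ι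
  have : IsOpenImmersion (k₂ ≫ N₂.ι) := hk₂ ▸ hκo D₂
  have : IsOpenImmersion k₂ := IsOpenImmersion.of_comp k₂ N₂.ι
  let j₁ := U.homOfLE hΩ₁ ≫ k₁
  let j₂ := U.homOfLE hΩ₂ ≫ k₂
  have hκΩ : ∀ {O : U.Opens} (D : Dominating g O) (h : Ω ≤ O), U.homOfLE h ≫ D.κ le_rfl = D.κ h := fun {O} D h => by
    simp [Dominating.κ]
  have hj₁ι : j₁ ≫ N₁.ι = D₁.κ hΩ₁ := by rw [Category.assoc, hk₁, hκΩ]
  have hj₂ι : j₂ ≫ N₂.ι = D₂.κ hΩ₂ := by rw [Category.assoc, hk₂, hκΩ]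
  let g₁ := N₁.ι ≫ D₁.p
  let g₂ := N₂.ι ≫ D₂.p
  have hjg : j₁ ≫ g₁ = j₂ ≫ g₂ := by
    rw [← Category.assoc, hj₁ι, ← Category.assoc, hj₂ι, D₁.κ_p, D₂.κ_p]
  have hNc₁ : CompactSpace (N₁ : Scheme.{u}) := isCompact_iff_compactSpace.mp (NoetherianSpace.isCompact _)
  have hNc₂ : CompactSpace (N₂ : Scheme.{u}) := isCompact_iff_compactSpace.mp (NoetherianSpace.isCompact _)
  have hΩc : CompactSpace (Ω : Scheme.{u}) := isCompact_iff_compactSpace.mp (NoetherianSpace.isCompact _)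
  have hU₁c : CompactSpace (U₁ : Scheme.{u}) := isCompact_iff_compactSpace.mp (NoetherianSpace.isCompact _)
  have hU₂c : CompactSpace (U₂ : Scheme.{u}) := isCompact_iff_compactSpace.mp (NoetherianSpace.isCompact _)
  have hV₁ : IsCompact (k₁.opensRange : Set (N₁ : Scheme.{u})) := isCompact_range k₁.continuous
  have hV₂ : IsCompact (k₂.opensRange : Set (N₂ : Scheme.{u})) := isCompact_range k₂.continuous
  have hdO : ∀ (O : U.Opens) (h : Ω ≤ O), closure (Set.range (U.homOfLE h)) = Set.univ := fun O h => by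
    rw [O.ι.isOpenEmbedding.isInducing.closure_eq_preimage_closure_image, ← Set.range_comp, ← TopCat.coe_comp,
      ← Scheme.Hom.comp_base, Scheme.homOfLE_ι, Scheme.Opens.range_ι, hdense.closure_eq]
    rfl
  have hdV : ∀ {Y : Scheme.{u}} (O : U.Opens) (h : Ω ≤ O) (k : (O : Scheme.{u}) ⟶ Y),
      Set.range k ⊆ closure (Set.range (U.homOfLE h ≫ k)) := fun {Y} O h k => by
    rintro _ ⟨x, rfl⟩
    rw [Scheme.Hom.comp_base, TopCat.coe_comp, Set.range_comp]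
    exact image_closure_subset_closure_image k.continuous ⟨x, (hdO O h).ge (Set.mem_univ x), rfl⟩
  let μ : pullback g₁ g₂ ⟶ pullback D₁.p D₂.p :=
    pullback.map _ _ _ _ N₁.ι N₂.ι (𝟙 S) (by simp [g₁]) (by simp [g₂])
  have hμ : pullback.lift j₁ j₂ hjg ≫ μ = pairMap D₁ D₂ hΩ₁ hΩ₂ := by
    refine pullback.hom_ext ?_ ?_
    · simp only [μ, pairMap, pullback.map, Category.assoc, pullback.lift_fst, pullback.lift_fst_assoc, hj₁ι]
    · simp only [μ, pairMap, pullback.map, Category.assoc, pullback.lift_snd, pullback.lift_snd_assoc, hj₂ι]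
  have hμw : ∀ w ∈ closure (Set.range (pullback.lift j₁ j₂ hjg)), μ w ∈ closure (Set.range (pairMap D₁ D₂ hΩ₁ hΩ₂)) ∧
      pullback.fst D₁.p D₂.p (μ w) = N₁.ι (pullback.fst g₁ g₂ w) ∧
      pullback.snd D₁.p D₂.p (μ w) = N₂.ι (pullback.snd g₁ g₂ w) := fun w hw => by
    refine ⟨?_, ?_, ?_⟩
    · rw [← hμ, Scheme.Hom.comp_base, TopCat.coe_comp, Set.range_comp]
      exact image_closure_subset_closure_image μ.continuous ⟨w, hw, rfl⟩
    · rw [← Scheme.Hom.comp_apply, ← Scheme.Hom.comp_apply]; simp only [μ, pullback.map, pullback.lift_fst]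
    · rw [← Scheme.Hom.comp_apply, ← Scheme.Hom.comp_apply]; simp only [μ, pullback.map, pullback.lift_snd]
  have hjk : ∀ {O : U.Opens} (D : Dominating g O) (x : O), D.h (D.j x) = x.1 := fun {O} D x => by
    rw [← Scheme.Hom.comp_apply, D.hj]; rfl
  have hC₁ : closure (Set.range (pullback.lift j₁ j₂ hjg)) ∩ ((pullback.fst g₁ g₂) ⁻¹ᵁ k₁.opensRange : Set ↥(pullback g₁ g₂)) ⊆
      Set.range (pullback.lift j₁ j₂ hjg) := by
    rintro w ⟨hw, u, hu⟩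
    obtain ⟨hw', hf, hs⟩ := hμw w hw
    obtain ⟨v', hv', hvh⟩ := exists_snd_of_fst_mem D₁ D₂ hΩ₁ hΩ₂ (μ w) hw' (D₁.j u) (by
      rw [hf, ← hu, ← Scheme.Hom.comp_apply k₁ N₁.ι, hk₁, Dominating.κ, Scheme.homOfLE_rfl, Category.id_comp]
      rfl)
    rw [hjk] at hvh
    have hu₂ : u.1 ∈ U₂ := by
      by_contra hn
      have h1 : D₂.V.ι v' ∈ D₂.bad U₂ := (D₂.mem_bad U₂ v').mpr (by rw [hvh]; exact hn)
      rw [hv', hs] at h1
      exact (pullback.snd g₁ g₂ w).2 h1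
    refine cond_range_fst g₁ g₂ j₁ j₂ hjg ⟨hw, ?_⟩
    refine ⟨⟨u.1, u.2, hu₂⟩, ?_⟩
    rw [← hu, Scheme.Hom.comp_apply]
    congr 1
    apply U₁.ι.isOpenEmbedding.injective
    rw [← Scheme.Hom.comp_apply, Scheme.homOfLE_ι]
    rfl
  have hC₂ : closure (Set.range (pullback.lift j₁ j₂ hjg)) ∩ ((pullback.snd g₁ g₂) ⁻¹ᵁ k₂.opensRange : Set ↥(pullback g₁ g₂)) ⊆
      Set.range (pullback.lift j₁ j₂ hjg) := by
    rintro w ⟨hw, u, hu⟩
    obtain ⟨hw', hf, hs⟩ := hμw w hw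
    obtain ⟨v, hv, hvh⟩ := exists_fst_of_snd_mem D₁ D₂ hΩ₁ hΩ₂ (μ w) hw' (D₂.j u) (by
      rw [hs, ← hu, ← Scheme.Hom.comp_apply k₂ N₂.ι, hk₂, Dominating.κ, Scheme.homOfLE_rfl, Category.id_comp]
      rfl)
    rw [hjk] at hvh
    have hu₁ : u.1 ∈ U₁ := by
      by_contra hn
      have h1 : D₁.V.ι v ∈ D₁.bad U₁ := (D₁.mem_bad U₁ v).mpr (by rw [hvh]; exact hn)
      rw [hv, hf] at h1
      exact (pullback.fst g₁ g₂ w).2 h1
    refine cond_range_snd g₁ g₂ j₁ j₂ hjg ⟨hw, ?_⟩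
    refine ⟨⟨u.1, hu₁, u.2⟩, ?_⟩
    rw [← hu, Scheme.Hom.comp_apply]
    congr 1
    apply U₂.ι.isOpenEmbedding.injective
    rw [← Scheme.Hom.comp_apply, Scheme.homOfLE_ι]
    rfl
  obtain ⟨X, q, hq, hqc, hql, P₁, P₂, Y₁, Y₂, c₁, c₂, o₁, o₂, u₁, u₂, hc₁, hP₁, hP₁s, hc₂, hP₂, hP₂s, ho₁, ho₂,
      hq₁, hq₂, hu₁o, hu₂o, hu₁, hu₂, huo, hXcov, hint, -⟩ :=
    exists_common_target g₁ g₂ j₁ j₂ hjg k₁.opensRange k₂.opensRange hV₁ hV₂
      (by rintro _ ⟨x, rfl⟩; exact ⟨U.homOfLE hΩ₁ x, rfl⟩) (by rintro _ ⟨x, rfl⟩; exact ⟨U.homOfLE hΩ₂ x, rfl⟩)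
      (hdV U₁ hΩ₁ k₁) (hdV U₂ hΩ₂ k₂) hC₁ hC₂
  -- the open immersion
  obtain ⟨t₁, ht₁o, ht₁, -⟩ := exists_lift_off hc₁ k₁ (Set.disjoint_left.mpr fun x hx hx' =>
    Set.disjoint_left.mp hP₁.2 hx hx')
  obtain ⟨t₂, ht₂o, ht₂, -⟩ := exists_lift_off hc₂ k₂ (Set.disjoint_left.mpr fun x hx hx' =>
    Set.disjoint_left.mp hP₂.2 hx hx')
  have htu₁ : U.homOfLE hΩ₁ ≫ t₁ = u₁ := by
    refine GrothLib.BlowUp.hom_ext hc₁ ?_ (isEffCartierIdeal_comap_of_disjoint _ _ (Set.disjoint_left.mpr fun x hx hx' => ?_))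
    · rw [Category.assoc, ht₁, hu₁]
    · rw [Category.assoc, ht₁] at hx'
      obtain ⟨z, rfl⟩ := hx'
      exact Set.disjoint_left.mp hP₁.2 hx ⟨U.homOfLE hΩ₁ z, rfl⟩
  have htu₂ : U.homOfLE hΩ₂ ≫ t₂ = u₂ := by
    refine GrothLib.BlowUp.hom_ext hc₂ ?_ (isEffCartierIdeal_comap_of_disjoint _ _ (Set.disjoint_left.mpr fun x hx hx' => ?_))
    · rw [Category.assoc, ht₂, hu₂]
    · rw [Category.assoc, ht₂] at hx'
      obtain ⟨z, rfl⟩ := hx'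
      exact Set.disjoint_left.mp hP₂.2 hx ⟨U.homOfLE hΩ₂ z, rfl⟩
  obtain ⟨φ, hφ₁, hφ₂⟩ := exists_glue_two U₁ U₂ hcov (t₁ ≫ o₁) (t₂ ≫ o₂) (by
    rw [← Category.assoc, ← Category.assoc]
    show (U.homOfLE hΩ₁ ≫ t₁) ≫ o₁ = (U.homOfLE hΩ₂ ≫ t₂) ≫ o₂
    rw [htu₁, htu₂, huo])
  have hφq : φ ≫ q = g := by
    refine Scheme.Cover.hom_ext (Scheme.openCoverOfIsOpenCover U (fun b : Bool => if b then U₁ else U₂)
      (top_unique fun x _ => by
        have hx : x ∈ U₁ ⊔ U₂ := by rw [hcov]; trivial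
        rcases hx with hx | hx
        · exact Opens.mem_iSup.mpr ⟨true, hx⟩
        · exact Opens.mem_iSup.mpr ⟨false, hx⟩)) _ _ fun b => ?_
    cases b
    · show U₂.ι ≫ φ ≫ q = U₂.ι ≫ g
      rw [reassoc_of% hφ₂, hq₂, reassoc_of% ht₂]
      show k₂ ≫ N₂.ι ≫ D₂.p = _
      rw [reassoc_of% hk₂, D₂.κ_p]
    · show U₁.ι ≫ φ ≫ q = U₁.ι ≫ g
      rw [reassoc_of% hφ₁, hq₁, reassoc_of% ht₁]
      show k₁ ≫ N₁.ι ≫ D₁.p = _
      rw [reassoc_of% hk₁, D₁.κ_p]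
  have hinj₁₂ : ∀ (x : U₁) (x' : U₂), o₁ (t₁ x) = o₂ (t₂ x') → x.1 = x'.1 := by
    intro x x' h
    obtain ⟨w, hw, hwf, hws⟩ := hint _ _ h
    rw [← Scheme.Hom.comp_apply, ht₁] at hwf
    rw [← Scheme.Hom.comp_apply, ht₂] at hws
    obtain ⟨z, rfl⟩ := hC₁ ⟨hw, ⟨x, hwf.symm⟩⟩
    rw [← Scheme.Hom.comp_apply, pullback.lift_fst, Scheme.Hom.comp_apply] at hwf
    rw [← Scheme.Hom.comp_apply, pullback.lift_snd, Scheme.Hom.comp_apply] at hws
    have e₁ := congrArg (fun t => U₁.ι t) (k₁.isOpenEmbedding.injective hwf)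
    have e₂ := congrArg (fun t => U₂.ι t) (k₂.isOpenEmbedding.injective hws)
    simp only [← Scheme.Hom.comp_apply, Scheme.homOfLE_ι] at e₁ e₂
    exact e₁.symm.trans e₂
  have hφinj : Function.Injective φ := by
    intro a b hab
    have ha : a ∈ U₁ ⊔ U₂ := by rw [hcov]; trivial
    have hb : b ∈ U₁ ⊔ U₂ := by rw [hcov]; trivial
    have e₁ : ∀ x : U₁, φ x.1 = o₁ (t₁ x) := fun x => by
      rw [← Scheme.Hom.comp_apply t₁, ← hφ₁]; rfl
    have e₂ : ∀ x : U₂, φ x.1 = o₂ (t₂ x) := fun x => by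
      rw [← Scheme.Hom.comp_apply t₂, ← hφ₂]; rfl
    rcases ha with ha | ha <;> rcases hb with hb | hb
    · exact congrArg Subtype.val ((t₁ ≫ o₁).isOpenEmbedding.injective (a₁ := ⟨a, ha⟩) (a₂ := ⟨b, hb⟩)
        ((e₁ ⟨a, ha⟩).symm.trans (hab.trans (e₁ ⟨b, hb⟩))))
    · exact hinj₁₂ ⟨a, ha⟩ ⟨b, hb⟩ ((e₁ ⟨a, ha⟩).symm.trans (hab.trans (e₂ ⟨b, hb⟩)))
    · exact (hinj₁₂ ⟨b, hb⟩ ⟨a, ha⟩ ((e₁ ⟨b, hb⟩).symm.trans (hab.symm.trans (e₂ ⟨a, ha⟩)))).symm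
    · exact congrArg Subtype.val ((t₂ ≫ o₂).isOpenEmbedding.injective (a₁ := ⟨a, ha⟩) (a₂ := ⟨b, hb⟩)
        ((e₂ ⟨a, ha⟩).symm.trans (hab.trans (e₂ ⟨b, hb⟩))))
  have : IsOpenImmersion φ := by
    refine IsOpenImmersion.of_forall_source_exists φ hφinj fun x => ?_
    have hx : x ∈ U₁ ⊔ U₂ := by rw [hcov]; trivial
    rcases hx with hx | hx
    · exact ⟨_, U₁.ι, inferInstance, by rw [Scheme.Opens.opensRange_ι]; exact hx, hφ₁ ▸ inferInstance⟩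
    · exact ⟨_, U₂.ι, inferInstance, by rw [Scheme.Opens.opensRange_ι]; exact hx, hφ₂ ▸ inferInstance⟩
  have : QuasiSeparatedSpace X := quasiSeparatedSpace_of_quasiSeparated q
  have : QuasiCompact φ := by
    have : CompactSpace U := QuasiCompact.compactSpace_of_compactSpace g
    have : QuasiCompact (φ ≫ terminal.from X) := inferInstance
    have : QuasiSeparated (terminal.from X) := quasiSeparated_iff_quasiSeparatedSpace _ |>.mpr ‹_›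
    exact QuasiCompact.of_comp _ (terminal.from X)
  refine ⟨X, φ, q, inferInstance, inferInstance, ?_, hφq⟩
  -- properness
  have hdY : ∀ {O : U.Opens} {N Y : Scheme.{u}} (k : (O : Scheme.{u}) ⟶ N) [IsOpenImmersion k] (h : Ω ≤ O)
      (P : N.IdealSheafData) (c : Y ⟶ N) (t : (O : Scheme.{u}) ⟶ Y) (u : (Ω : Scheme.{u}) ⟶ Y),
      BlowUp.IsBlowUp c P → (P.support : Set N) = (k.opensRange : Set N)ᶜ → t ≫ c = k → U.homOfLE h ≫ t = u →
      DenseRange u := by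
    intro O N Y k _ h P c t u hc hs htc htu y
    have hD := QuasiDom6.dense_compl_support hc.1
    refine closure_minimal ?_ isClosed_closure (hD y)
    intro z hz
    rw [Set.mem_compl_iff, Scheme.IdealSheafData.support_comap] at hz
    obtain ⟨t', -, ht'c, ht'r⟩ := exists_lift_off hc k (by rw [hs]; exact disjoint_compl_left)
    obtain rfl : t = t' := GrothLib.BlowUp.hom_ext hc (htc.trans ht'c.symm)
      (by rw [htc]; exact isEffCartierIdeal_comap_of_disjoint _ _ (by rw [hs]; exact disjoint_compl_left))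
    have hz' : c z ∈ Set.range k := by
      by_contra hn
      exact hz (hs.ge hn)
    rw [← htu]
    exact hdV O h t (ht'r z hz')
  have hu₁d := hdY k₁ hΩ₁ P₁ c₁ t₁ u₁ hc₁ hP₁s ht₁ htu₁
  have hu₂d := hdY k₂ hΩ₂ P₂ c₂ t₂ u₂ hc₂ hP₂s ht₂ htu₂
  -- extend the blow-ups to the compactifications
  have hext : ∀ {O : U.Opens} (D : Dominating g O) [IsNoetherian D.Y] (N : D.Y.Opens) (k : (O : Scheme.{u}) ⟶ (N : Scheme.{u}))
      (_ : IsOpenImmersion k) (hk : k ≫ N.ι = D.κ le_rfl) (h : Ω ≤ O) (P : (N : Scheme.{u}).IdealSheafData)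
      (Y : Scheme.{u}) (c : Y ⟶ (N : Scheme.{u})) (u : (Ω : Scheme.{u}) ⟶ Y),
      BlowUp.IsBlowUp c P → BlowUp.IsAdmissibleFor k.opensRange P → u ≫ c = U.homOfLE h ≫ k →
      ∃ (Y' : Scheme.{u}) (c' : Y' ⟶ D.Y) (e : ((c' ⁻¹ᵁ N : Y'.Opens) : Scheme.{u}) ⟶ Y) (u' : (Ω : Scheme.{u}) ⟶ (c' ⁻¹ᵁ N : Scheme.{u})),
        IsProper c' ∧ e ≫ c = c' ∣_ N ∧ u' ≫ e = u ∧ u' ≫ (c' ⁻¹ᵁ N).ι ≫ c' = D.κ h := by
    intro O D _ N k _ hk h P Y c u hc hP hu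
    obtain ⟨A, hA, hAN⟩ := exists_extension ((k ≫ N.ι).opensRange) N (NoetherianSpace.isCompact _)
      (NoetherianSpace.isCompact _) P ⟨hP.1, hP.2.mono_right (by
        rintro x ⟨z, hz⟩
        exact ⟨z, N.ι.isOpenEmbedding.injective (by rw [← Scheme.Hom.comp_apply]; exact hz)⟩)⟩
    obtain ⟨Y', c', hc'⟩ := GrothLib.BlowUp.exists_isBlowUp D.Y A
    obtain ⟨e, he⟩ := GrothLib.BlowUp.exists_iso_of_isBlowUp (hAN ▸ isBlowUp_restrict hc' N) hc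
    refine ⟨Y', c', e.hom, u ≫ e.inv, isProper_of_isBlowUp hA.1 hc', he, by simp, ?_⟩
    rw [← morphismRestrict_ι, ← he, Category.assoc, Category.assoc, Iso.inv_hom_id_assoc, reassoc_of% hu, hk]
    simp [Dominating.κ]
  obtain ⟨E₁, d₁, e₁, w₁, _, he₁, hw₁e, hw₁⟩ := hext D₁ N₁ k₁ inferInstance hk₁ hΩ₁ P₁ Y₁ c₁ u₁ hc₁ hP₁ hu₁
  obtain ⟨E₂, d₂, e₂, w₂, _, he₂, hw₂e, hw₂⟩ := hext D₂ N₂ k₂ inferInstance hk₂ hΩ₂ P₂ Y₂ c₂ u₂ hc₂ hP₂ hu₂
  let a₁ := w₁ ≫ (d₁ ⁻¹ᵁ N₁).ι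
  let a₂ := w₂ ≫ (d₂ ⁻¹ᵁ N₂).ι
  have ha₁ : a₁ ≫ d₁ = D₁.κ hΩ₁ := by rw [Category.assoc, hw₁]
  have ha₂ : a₂ ≫ d₂ = D₂.κ hΩ₂ := by rw [Category.assoc, hw₂]
  have haa : a₁ ≫ d₁ ≫ D₁.p = a₂ ≫ d₂ ≫ D₂.p := by
    rw [reassoc_of% ha₁, reassoc_of% ha₂, D₁.κ_p, D₂.κ_p]
  let PE := (pullback (d₁ ≫ D₁.p) (d₂ ≫ D₂.p) : Scheme.{u})
  let l := pullback.lift (f := d₁ ≫ D₁.p) (g := d₂ ≫ D₂.p) a₁ a₂ haa
  let IZ := Scheme.IdealSheafData.vanishingIdeal (X := PE) ⟨closure (Set.range l), isClosed_closure⟩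
  let Z := IZ.subscheme
  have : IsReduced Z := RedSub.isReduced_subscheme_vanishingIdeal _
  let zf := IZ.subschemeι ≫ pullback.fst (d₁ ≫ D₁.p) (d₂ ≫ D₂.p)
  let zs := IZ.subschemeι ≫ pullback.snd (d₁ ≫ D₁.p) (d₂ ≫ D₂.p)
  have hzw : zf ≫ d₁ ≫ D₁.p = zs ≫ d₂ ≫ D₂.p := by
    simp only [zf, zs, Category.assoc, pullback.condition]
  let A₁ : Z.Opens := zf ⁻¹ᵁ (d₁ ⁻¹ᵁ N₁)
  let A₂ : Z.Opens := zs ⁻¹ᵁ (d₂ ⁻¹ᵁ N₂)
  have hrange : Set.range IZ.subschemeι = closure (Set.range l) := by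
    rw [Scheme.IdealSheafData.range_subschemeι, Scheme.IdealSheafData.coe_support_vanishingIdeal]; rfl
  have hAcov : A₁ ⊔ A₂ = ⊤ := by
    refine top_unique fun z _ => ?_
    let M : PE ⟶ pullback D₁.p D₂.p := pullback.map _ _ _ _ d₁ d₂ (𝟙 S) (by simp) (by simp)
    have hM : l ≫ M = pairMap D₁ D₂ hΩ₁ hΩ₂ := by
      refine pullback.hom_ext ?_ ?_
      · simp only [M, l, pairMap, pullback.map, Category.assoc, pullback.lift_fst, pullback.lift_fst_assoc, ha₁]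
      · simp only [M, l, pairMap, pullback.map, Category.assoc, pullback.lift_snd, pullback.lift_snd_assoc, ha₂]
    have hMz : M (IZ.subschemeι z) ∈ closure (Set.range (pairMap D₁ D₂ hΩ₁ hΩ₂)) := by
      rw [← hM, Scheme.Hom.comp_base, TopCat.coe_comp, Set.range_comp]
      exact image_closure_subset_closure_image M.continuous ⟨_, hrange.le ⟨z, rfl⟩, rfl⟩
    by_cases hz₁ : z ∈ A₁
    · exact Or.inl hz₁
    · refine Or.inr ?_
      have h1 : pullback.fst D₁.p D₂.p (M (IZ.subschemeι z)) ∈ D₁.bad U₁ := by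
        by_contra hn
        apply hz₁
        show d₁ (zf z) ∈ N₁
        rw [← Scheme.Hom.comp_apply] at hn
        simp only [M, pullback.map, pullback.lift_fst] at hn
        exact hn
      have h2 := hsep _ hMz h1
      show d₂ (zs z) ∈ N₂
      rw [← Scheme.Hom.comp_apply] at h2
      simp only [M, pullback.map, pullback.lift_snd] at h2
      exact h2
  let b₁ : (A₁ : Scheme.{u}) ⟶ (d₁ ⁻¹ᵁ N₁ : Scheme.{u}) := IsOpenImmersion.lift (d₁ ⁻¹ᵁ N₁).ι (A₁.ι ≫ zf) (by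
    rintro _ ⟨x, rfl⟩; rw [Scheme.Opens.range_ι]; exact x.2)
  let b₂ : (A₂ : Scheme.{u}) ⟶ (d₂ ⁻¹ᵁ N₂ : Scheme.{u}) := IsOpenImmersion.lift (d₂ ⁻¹ᵁ N₂).ι (A₂.ι ≫ zs) (by
    rintro _ ⟨x, rfl⟩; rw [Scheme.Opens.range_ι]; exact x.2)
  have hb₁ : b₁ ≫ (d₁ ⁻¹ᵁ N₁).ι = A₁.ι ≫ zf := IsOpenImmersion.lift_fac _ _ _
  have hb₂ : b₂ ≫ (d₂ ⁻¹ᵁ N₂).ι = A₂.ι ≫ zs := IsOpenImmersion.lift_fac _ _ _
  let f₁ := b₁ ≫ e₁ ≫ o₁
  let f₂ := b₂ ≫ e₂ ≫ o₂
  have hf₁q : f₁ ≫ q = A₁.ι ≫ zf ≫ d₁ ≫ D₁.p := by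
    simp only [f₁, g₁, Category.assoc, hq₁, reassoc_of% he₁, morphismRestrict_ι_assoc, reassoc_of% hb₁]
  have hf₂q : f₂ ≫ q = A₂.ι ≫ zs ≫ d₂ ≫ D₂.p := by
    simp only [f₂, g₂, Category.assoc, hq₂, reassoc_of% he₂, morphismRestrict_ι_assoc, reassoc_of% hb₂]
  -- the overlap of the two charts
  let A := A₁ ⊓ A₂
  have hlker : ∀ x, l x ∈ Set.range IZ.subschemeι := fun x => hrange.ge (subset_closure ⟨x, rfl⟩)
  have : IsReduced (Ω : Scheme.{u}) ∨ True := Or.inr trivial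
  have : CompactSpace E₁ := QuasiCompact.compactSpace_of_compactSpace d₁
  have : CompactSpace E₂ := QuasiCompact.compactSpace_of_compactSpace d₂
  let IR := Scheme.IdealSheafData.vanishingIdeal (X := (Ω : Scheme.{u})) ⟨Set.univ, isClosed_univ⟩
  have : IsReduced IR.subscheme := RedSub.isReduced_subscheme_vanishingIdeal _
  have hIR : Set.range IR.subschemeι = Set.univ := by
    rw [Scheme.IdealSheafData.range_subschemeι, Scheme.IdealSheafData.coe_support_vanishingIdeal]; rfl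
  obtain ⟨lz, hlz⟩ : ∃ lz : IR.subscheme ⟶ Z, lz ≫ IZ.subschemeι = IR.subschemeι ≫ l := by
    refine ⟨IsClosedImmersion.lift IZ.subschemeι (IR.subschemeι ≫ l) ?_, IsClosedImmersion.lift_fac _ _ _⟩
    rw [Scheme.IdealSheafData.ker_subschemeι]
    refine le_of_le_of_eq (?_ : IZ ≤ Scheme.IdealSheafData.map ⊥ (IR.subschemeι ≫ l)) (Scheme.IdealSheafData.map_bot _)
    rw [Scheme.IdealSheafData.le_map_iff_comap_le, le_bot_iff, ← Scheme.IdealSheafData.support_eq_top_iff,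
      Scheme.IdealSheafData.support_comap]
    ext1
    refine Set.eq_univ_of_forall fun x => ?_
    show (IR.subschemeι ≫ l) x ∈ (IZ.support : Set PE)
    rw [Scheme.IdealSheafData.coe_support_vanishingIdeal, Scheme.Hom.comp_apply]
    exact subset_closure ⟨_, rfl⟩
  have hlzA : ∀ x, lz x ∈ A := fun x => by
    refine ⟨?_, ?_⟩
    · show zf (lz x) ∈ d₁ ⁻¹ᵁ N₁
      rw [← Scheme.Hom.comp_apply, reassoc_of% hlz, pullback.lift_fst, Scheme.Hom.comp_apply, Scheme.Hom.comp_apply]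
      exact (w₁ _).2
    · show zs (lz x) ∈ d₂ ⁻¹ᵁ N₂
      rw [← Scheme.Hom.comp_apply, reassoc_of% hlz, pullback.lift_snd, Scheme.Hom.comp_apply, Scheme.Hom.comp_apply]
      exact (w₂ _).2
  let la : IR.subscheme ⟶ (A : Scheme.{u}) := IsOpenImmersion.lift A.ι lz (by
    rintro _ ⟨x, rfl⟩; rw [Scheme.Opens.range_ι]; exact hlzA x)
  have hla : la ≫ A.ι = lz := IsOpenImmersion.lift_fac _ _ _
  have hlzd : Dense (Set.range lz) := fun z => by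
    rw [IZ.subschemeι.isClosedEmbedding.isInducing.closure_eq_preimage_closure_image]
    show IZ.subschemeι z ∈ closure _
    rw [← Set.range_comp, ← TopCat.coe_comp, ← Scheme.Hom.comp_base, hlz, Scheme.Hom.comp_base, TopCat.coe_comp,
      Set.range_comp, hIR, Set.image_univ]
    exact hrange.le ⟨z, rfl⟩
  have : IsDominant la := ⟨by
    have h1 : Set.range la = (Subtype.val : A → Z) ⁻¹' Set.range lz := by
      ext x
      constructor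
      · rintro ⟨y, rfl⟩; exact ⟨y, by rw [← hla]; rfl⟩
      · rintro ⟨y, hy⟩
        refine ⟨y, A.ι.isOpenEmbedding.injective ?_⟩
        rw [← Scheme.Hom.comp_apply, hla]; exact hy
    show Dense (Set.range la)
    rw [h1]
    exact dense_preimage_open hlzd⟩
  have hagree : Z.homOfLE (inf_le_left : A ≤ A₁) ≫ f₁ = Z.homOfLE (inf_le_right : A ≤ A₂) ≫ f₂ := by
    have : IsReduced (A : Scheme.{u}) := isReduced_of_isOpenImmersion A.ι
    refine ext_of_isDominant_of_isSeparated q ?_ la ?_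
    · simp only [Category.assoc, hf₁q, hf₂q, Scheme.homOfLE_ι_assoc, hzw]
    · have k₁' : la ≫ Z.homOfLE (inf_le_left : A ≤ A₁) ≫ b₁ = IR.subschemeι ≫ w₁ := by
        rw [← cancel_mono (d₁ ⁻¹ᵁ N₁).ι]
        simp only [Category.assoc, hb₁, Scheme.homOfLE_ι_assoc, reassoc_of% hla, zf, reassoc_of% hlz]
        rw [pullback.lift_fst]
      have k₂' : la ≫ Z.homOfLE (inf_le_right : A ≤ A₂) ≫ b₂ = IR.subschemeι ≫ w₂ := by
        rw [← cancel_mono (d₂ ⁻¹ᵁ N₂).ι]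
        simp only [Category.assoc, hb₂, Scheme.homOfLE_ι_assoc, reassoc_of% hla, zs, reassoc_of% hlz]
        rw [pullback.lift_snd]
      simp only [f₁, f₂, reassoc_of% k₁', reassoc_of% k₂', reassoc_of% hw₁e, reassoc_of% hw₂e, huo]
  obtain ⟨Φ, hΦ₁, hΦ₂⟩ := exists_glue_two A₁ A₂ hAcov f₁ f₂ hagree
  have hΦq : Φ ≫ q = zf ≫ d₁ ≫ D₁.p := by
    refine Scheme.Cover.hom_ext (Scheme.openCoverOfIsOpenCover Z (fun b : Bool => if b then A₁ else A₂)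
      (top_unique fun x _ => by
        have hx : x ∈ A₁ ⊔ A₂ := by rw [hAcov]; trivial
        rcases hx with hx | hx
        · exact Opens.mem_iSup.mpr ⟨true, hx⟩
        · exact Opens.mem_iSup.mpr ⟨false, hx⟩)) _ _ fun b => ?_
    cases b
    · show A₂.ι ≫ Φ ≫ q = A₂.ι ≫ zf ≫ d₁ ≫ D₁.p
      rw [reassoc_of% hΦ₂, hf₂q, hzw]
    · show A₁.ι ≫ Φ ≫ q = A₁.ι ≫ zf ≫ d₁ ≫ D₁.p
      rw [reassoc_of% hΦ₁, hf₁q]
  have : IsProper (Φ ≫ q) := by rw [hΦq]; infer_instance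
  have : IsProper Φ := IsProper.of_comp Φ q
  have : Surjective Φ := ⟨fun x => by
    have hsub : Set.range (u₁ ≫ o₁) ⊆ Set.range Φ := by
      rintro _ ⟨y, rfl⟩
      obtain ⟨r, rfl⟩ := hIR.ge (Set.mem_univ y)
      refine ⟨lz r, ?_⟩
      have key : lz ≫ Φ = IR.subschemeι ≫ u₁ ≫ o₁ := by
        rw [← hla, Category.assoc, ← Scheme.homOfLE_ι Z (inf_le_left : A ≤ A₁), Category.assoc, hΦ₁]
        have k₁' : la ≫ Z.homOfLE (inf_le_left : A ≤ A₁) ≫ b₁ = IR.subschemeι ≫ w₁ := by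
          rw [← cancel_mono (d₁ ⁻¹ᵁ N₁).ι]
          simp only [Category.assoc, hb₁, Scheme.homOfLE_ι_assoc, reassoc_of% hla, zf, reassoc_of% hlz]
          rw [pullback.lift_fst]
        simp only [f₁, reassoc_of% k₁', reassoc_of% hw₁e]
      rw [← Scheme.Hom.comp_apply, key]
      rfl
    have hcl : closure (Set.range (u₁ ≫ o₁)) = Set.univ := by
      refine Set.eq_univ_of_forall fun x => ?_
      have hden : ∀ {Y : Scheme.{u}} (o : Y ⟶ X) (u : (Ω : Scheme.{u}) ⟶ Y), DenseRange u → u ≫ o = u₁ ≫ o₁ →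
          ∀ y, o y ∈ closure (Set.range (u₁ ≫ o₁)) := fun {Y} o u hu e y => by
        rw [← e, Scheme.Hom.comp_base, TopCat.coe_comp, Set.range_comp]
        exact image_closure_subset_closure_image o.continuous ⟨y, hu y, rfl⟩
      rcases hXcov.ge (Set.mem_univ x) with ⟨y, rfl⟩ | ⟨y, rfl⟩
      · exact hden o₁ u₁ hu₁d rfl y
      · exact hden o₂ u₂ hu₂d huo.symm y
    exact (Φ.isClosedMap.isClosed_range.closure_subset_iff.mpr hsub) (hcl.ge (Set.mem_univ x))⟩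
  have : UniversallyClosed q := UniversallyClosed.of_comp_surjective Φ q
  exact {}

end GrothLib.Nagata6
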