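import Groth.Agent.Lib.Nagata6.Glue
import Groth.Agent.Lib.Nagata6.CommonCor
import Groth.Agent.Lib.SchDense.Basic
import Mathlib.AlgebraicGeometry.Noetherian

/-!
# Gluing along mutual quasi-dominations
-/

universe u

open CategoryTheory Limits AlgebraicGeometry Opposite TopologicalSpace

namespace GrothLib.Nagata6

theorem dominant_of_factor {U X : Scheme.{u}} (j : U ⟶ X) [IsSchemeTheoreticallyDominant j]
    [QuasiCompact j] (V : X.Opens) (k : U ⟶ (V : Scheme.{u})) (hk : k ≫ V.ι = j) :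
    IsSchemeTheoreticallyDominant k ∧ QuasiCompact k := by
  have sq : IsPullback (𝟙 U) k j V.ι := by
    refine IsPullback.of_isLimit' ⟨by rw [Category.id_comp, hk]⟩
      (PullbackCone.IsLimit.mk _ (fun s => s.fst) (fun s => Category.comp_id _) (fun s => ?_)
        (fun s m h₁ _ => by simpa using h₁))
    rw [← cancel_mono V.ι, Category.assoc, hk]
    exact s.condition
  exact ⟨IsSchemeTheoreticallyDominant.of_isPullback sq,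
    MorphismProperty.of_isPullback (P := @QuasiCompact) sq ‹_›⟩

/-- A quasi-domination sends the preimage of the opposite domain into the opposite domain. -/
theorem exists_restrict_quasiDomination {S X₁ X₂ U : Scheme.{u}} (p₁ : X₁ ⟶ S) (p₂ : X₂ ⟶ S)
    [IsSeparated p₁] (j₁ : U ⟶ X₁) (j₂ : U ⟶ X₂) [IsSchemeTheoreticallyDominant j₁] [QuasiCompact j₁]
    (W₁ : X₁.Opens) (φ : (W₁ : Scheme.{u}) ⟶ X₂) (hφ : W₁.ι ≫ p₁ = φ ≫ p₂)
    (k₁ : U ⟶ (W₁ : Scheme.{u})) (hk₁ : k₁ ≫ W₁.ι = j₁) (hk₁' : k₁ ≫ φ = j₂)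
    (W₂ : X₂.Opens) (ψ : (W₂ : Scheme.{u}) ⟶ X₁) (hψ : W₂.ι ≫ p₂ = ψ ≫ p₁)
    (k₂ : U ⟶ (W₂ : Scheme.{u})) (hk₂ : k₂ ≫ W₂.ι = j₂) (hk₂' : k₂ ≫ ψ = j₁) :
    ∃ e : ((φ ⁻¹ᵁ W₂ : (W₁ : Scheme.{u}).Opens) : Scheme.{u}) ⟶ (ψ ⁻¹ᵁ W₁ : (W₂ : Scheme.{u}).Opens),
      e ≫ (ψ ⁻¹ᵁ W₁).ι = φ ∣_ W₂ ∧ (φ ∣_ W₂) ≫ ψ = (φ ⁻¹ᵁ W₂).ι ≫ W₁.ι := by
  obtain ⟨d₁, q₁⟩ := dominant_of_factor j₁ W₁ k₁ hk₁
  have hr : Set.range k₁ ⊆ (φ ⁻¹ᵁ W₂ : Set ↥W₁.toScheme) := by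
    rintro _ ⟨x, rfl⟩
    show φ (k₁ x) ∈ W₂
    rw [← Scheme.Hom.comp_apply, hk₁', ← hk₂]
    exact (k₂ x).2
  let k : U ⟶ ((φ ⁻¹ᵁ W₂ : (W₁ : Scheme.{u}).Opens) : Scheme.{u}) :=
    IsOpenImmersion.lift (φ ⁻¹ᵁ W₂).ι k₁ (by rw [Scheme.Opens.range_ι]; exact hr)
  have hk : k ≫ (φ ⁻¹ᵁ W₂).ι = k₁ := IsOpenImmersion.lift_fac _ _ _
  obtain ⟨d, -⟩ := dominant_of_factor k₁ _ k hk
  have hkφ : k ≫ (φ ∣_ W₂) = k₂ := by
    rw [← cancel_mono W₂.ι, Category.assoc, morphismRestrict_ι, reassoc_of% hk, hk₁', hk₂]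
  have hid : (φ ∣_ W₂) ≫ ψ = (φ ⁻¹ᵁ W₂).ι ≫ W₁.ι := by
    refine SchDense.ext_of_schDominant p₁ ?_ k ?_
    · simp only [Category.assoc, ← hψ, hφ, morphismRestrict_ι_assoc]
    · rw [reassoc_of% hkφ, hk₂', reassoc_of% hk, hk₁]
  refine ⟨IsOpenImmersion.lift (ψ ⁻¹ᵁ W₁).ι (φ ∣_ W₂) ?_, IsOpenImmersion.lift_fac _ _ _, hid⟩
  rw [Scheme.Opens.range_ι]
  rintro _ ⟨x, rfl⟩
  show ψ ((φ ∣_ W₂) x) ∈ W₁
  rw [← Scheme.Hom.comp_apply, hid]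
  exact ((φ ⁻¹ᵁ W₂).ι x).2

theorem exists_glue_mutual {S X₁ X₂ U : Scheme.{u}} [IsNoetherian S]
    (p₁ : X₁ ⟶ S) (p₂ : X₂ ⟶ S) [IsSeparated p₁] [QuasiCompact p₁] [LocallyOfFiniteType p₁]
    [IsSeparated p₂] [QuasiCompact p₂] [LocallyOfFiniteType p₂]
    (j₁ : U ⟶ X₁) (j₂ : U ⟶ X₂) [IsOpenImmersion j₁] [IsOpenImmersion j₂]
    [IsSchemeTheoreticallyDominant j₁] [IsSchemeTheoreticallyDominant j₂]
    (W₁ : X₁.Opens) (φ : (W₁ : Scheme.{u}) ⟶ X₂) (hφ : W₁.ι ≫ p₁ = φ ≫ p₂)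
    (hφc : IsClosed (Set.range (fun w => pullback.lift W₁.ι φ hφ w)))
    (k₁ : U ⟶ (W₁ : Scheme.{u})) (hk₁ : k₁ ≫ W₁.ι = j₁) (hk₁' : k₁ ≫ φ = j₂)
    (W₂ : X₂.Opens) (ψ : (W₂ : Scheme.{u}) ⟶ X₁) (hψ : W₂.ι ≫ p₂ = ψ ≫ p₁)
    (hψc : IsClosed (Set.range (fun w => pullback.lift W₂.ι ψ hψ w)))
    (k₂ : U ⟶ (W₂ : Scheme.{u})) (hk₂ : k₂ ≫ W₂.ι = j₂) (hk₂' : k₂ ≫ ψ = j₁) :
    ∃ (Y : Scheme.{u}) (q : Y ⟶ S) (i₁ : X₁ ⟶ Y) (i₂ : X₂ ⟶ Y), IsSeparated q ∧ QuasiCompact q ∧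
      LocallyOfFiniteType q ∧ IsOpenImmersion i₁ ∧ IsOpenImmersion i₂ ∧ i₁ ≫ q = p₁ ∧ i₂ ≫ q = p₂ ∧
      j₁ ≫ i₁ = j₂ ≫ i₂ ∧ QuasiCompact (j₁ ≫ i₁) ∧ IsSchemeTheoreticallyDominant (j₁ ≫ i₁) := by
  have : CompactSpace X₁ := QuasiCompact.compactSpace_of_compactSpace p₁
  have : CompactSpace X₂ := QuasiCompact.compactSpace_of_compactSpace p₂
  have : IsLocallyNoetherian X₁ := LocallyOfFiniteType.isLocallyNoetherian p₁
  have : IsLocallyNoetherian X₂ := LocallyOfFiniteType.isLocallyNoetherian p₂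
  obtain ⟨e, he, hid₁⟩ := exists_restrict_quasiDomination p₁ p₂ j₁ j₂ W₁ φ hφ k₁ hk₁ hk₁' W₂ ψ hψ k₂ hk₂ hk₂'
  obtain ⟨e', he', hid₂⟩ := exists_restrict_quasiDomination p₂ p₁ j₂ j₁ W₂ ψ hψ k₂ hk₂ hk₂' W₁ φ hφ k₁ hk₁ hk₁'
  let a := (φ ⁻¹ᵁ W₂).ι ≫ W₁.ι
  let b := (φ ∣_ W₂) ≫ W₂.ι
  have hee' : e ≫ e' = 𝟙 _ := by
    rw [← cancel_mono (φ ⁻¹ᵁ W₂).ι, ← cancel_mono W₁.ι]
    simp only [Category.assoc, Category.id_comp]
    rw [reassoc_of% he', morphismRestrict_ι, reassoc_of% he, hid₁]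
  have he'e : e' ≫ e = 𝟙 _ := by
    rw [← cancel_mono (ψ ⁻¹ᵁ W₁).ι, ← cancel_mono W₂.ι]
    simp only [Category.assoc, Category.id_comp]
    rw [reassoc_of% he, morphismRestrict_ι, reassoc_of% he', hid₂]
  have : IsIso e := ⟨e', hee', he'e⟩
  have : IsOpenImmersion b := by
    dsimp only [b]; rw [← he]; infer_instance
  have hab : a ≫ p₁ = b ≫ p₂ := by
    simp only [a, b, Category.assoc, hφ, morphismRestrict_ι_assoc]
  have hcl : IsClosed (Set.range (fun z => pullback.lift a b hab z)) := by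
    let σ := (pullbackSymmetry p₂ p₁).hom
    have e1 : (φ ⁻¹ᵁ W₂).ι ≫ pullback.lift W₁.ι φ hφ = pullback.lift a b hab := by
      refine pullback.hom_ext ?_ ?_
      · simp only [a, Category.assoc, pullback.lift_fst]
      · simp only [b, Category.assoc, pullback.lift_snd, morphismRestrict_ι]
    have e2 : (φ ∣_ W₂) ≫ pullback.lift W₂.ι ψ hψ ≫ σ = pullback.lift a b hab := by
      refine pullback.hom_ext ?_ ?_
      · simp only [a, σ, Category.assoc, pullbackSymmetry_hom_comp_fst, pullback.lift_snd, pullback.lift_fst, hid₁]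
      · simp only [b, σ, Category.assoc, pullbackSymmetry_hom_comp_snd, pullback.lift_snd, pullback.lift_fst]
    have hσ : IsClosed (σ '' Set.range (fun w => pullback.lift W₂.ι ψ hψ w)) :=
      σ.homeomorph.isClosedMap _ hψc
    convert hφc.inter hσ using 1
    refine Set.Subset.antisymm ?_ ?_
    · rintro _ ⟨z, rfl⟩
      refine ⟨⟨(φ ⁻¹ᵁ W₂).ι z, ?_⟩, ⟨_, ⟨(φ ∣_ W₂) z, rfl⟩, ?_⟩⟩
      · show pullback.lift W₁.ι φ hφ _ = pullback.lift a b hab z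
        rw [← Scheme.Hom.comp_apply, e1]
      · show σ (pullback.lift W₂.ι ψ hψ ((φ ∣_ W₂) z)) = pullback.lift a b hab z
        rw [← Scheme.Hom.comp_apply, ← Scheme.Hom.comp_apply, e2]
    · rintro _ ⟨⟨w, rfl⟩, ⟨_, ⟨w', rfl⟩, hw'⟩⟩
      have hsnd : φ w = W₂.ι w' := by
        have h := congr(pullback.snd p₁ p₂ $hw')
        simp only [σ, ← Scheme.Hom.comp_apply, Category.assoc, pullbackSymmetry_hom_comp_snd,
          pullback.lift_fst, pullback.lift_snd] at h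
        exact h.symm
      have hw : w ∈ φ ⁻¹ᵁ W₂ := by
        show φ w ∈ W₂
        rw [hsnd]; exact w'.2
      exact ⟨⟨w, hw⟩, by
        show pullback.lift a b hab _ = pullback.lift W₁.ι φ hφ w
        rw [← e1, Scheme.Hom.comp_apply]; rfl⟩
  obtain ⟨Y, q, i₁, i₂, hsep, hqc, hft, hi₁, hi₂, hq₁, hq₂, hglue, hcov, -⟩ :=
    exists_separated_glue p₁ p₂ a b hab hcl
  have hk : j₁ ≫ i₁ = j₂ ≫ i₂ := by
    have hr : Set.range k₁ ⊆ (φ ⁻¹ᵁ W₂ : Set ↥W₁.toScheme) := by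
      rintro _ ⟨x, rfl⟩
      show φ (k₁ x) ∈ W₂
      rw [← Scheme.Hom.comp_apply, hk₁', ← hk₂]
      exact (k₂ x).2
    let k : U ⟶ ((φ ⁻¹ᵁ W₂ : (W₁ : Scheme.{u}).Opens) : Scheme.{u}) :=
      IsOpenImmersion.lift (φ ⁻¹ᵁ W₂).ι k₁ (by rw [Scheme.Opens.range_ι]; exact hr)
    have hk : k ≫ (φ ⁻¹ᵁ W₂).ι = k₁ := IsOpenImmersion.lift_fac _ _ _
    have := congr(k ≫ $hglue)
    simp only [a, b, Category.assoc, reassoc_of% hk, reassoc_of% hk₁, morphismRestrict_ι_assoc,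
      reassoc_of% hk₁'] at this
    exact this
  have : IsLocallyNoetherian Y := LocallyOfFiniteType.isLocallyNoetherian q
  have hjqc : QuasiCompact (j₁ ≫ i₁) := inferInstance
  refine ⟨Y, q, i₁, i₂, hsep, hqc, hft, hi₁, hi₂, hq₁, hq₂, hk, hjqc, ?_⟩
  let o : ∀ c : Bool, (if c then X₁ else X₂) ⟶ Y := fun c => match c with
    | true => i₁
    | false => i₂
  let v : ∀ c : Bool, U ⟶ (if c then X₁ else X₂) := fun c => match c with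
    | true => j₁
    | false => j₂
  have : ∀ c, IsOpenImmersion (o c) := fun c => by cases c <;> assumption
  have : ∀ c, IsSchemeTheoreticallyDominant (v c) := fun c => by cases c <;> assumption
  have : ∀ c, QuasiCompact (v c) := fun c => by
    cases c
    · show QuasiCompact j₂; infer_instance
    · show QuasiCompact j₁; infer_instance
  refine isSchemeTheoreticallyDominant_of_cover (j₁ ≫ i₁) o (fun x => ?_) v (fun c => ?_)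
  · have hx : x ∈ Set.range i₁ ∪ Set.range i₂ := hcov ▸ Set.mem_univ x
    rcases hx with ⟨y, hy⟩ | ⟨y, hy⟩
    · exact ⟨true, y, hy⟩
    · exact ⟨false, y, hy⟩
  · cases c
    · exact hk.symm
    · rfl

end GrothLib.Nagata6
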