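import Mathlib.AlgebraicGeometry.Limits
import Mathlib.AlgebraicGeometry.Morphisms.Separated
import Mathlib.AlgebraicGeometry.Morphisms.Immersion
import Mathlib.AlgebraicGeometry.Morphisms.FiniteType

/-!
# Separated gluing of two schemes along an open
-/

universe u

open CategoryTheory Limits AlgebraicGeometry Opposite TopologicalSpace

namespace GrothLib.Nagata6

/-- Separatedness from an open cover with closed graphs of the overlaps. -/
theorem isSeparated_of_cover {X S : Scheme.{u}} (q : X ⟶ S) {ι : Type*} {Y : ι → Scheme.{u}}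
    (o : ∀ i, Y i ⟶ X) [∀ i, IsOpenImmersion (o i)] (hcov : ∀ x : X, ∃ i y, o i y = x)
    (h : ∀ i j, ∃ (Z : Scheme.{u}) (a : Z ⟶ Y i) (b : Z ⟶ Y j) (hab : a ≫ o i = b ≫ o j),
      (∀ y y', o i y = o j y' → ∃ z, a z = y) ∧
      IsClosed (Set.range (fun z => pullback.lift (f := o i ≫ q) (g := o j ≫ q) a b
        (by rw [← Category.assoc, hab, Category.assoc]) z))) :
    IsSeparated q := by
  constructor
  have : IsImmersion (pullback.diagonal q) := inferInstance
  refine IsClosedImmersion.of_isPreimmersion _ ?_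
  rw [← closure_subset_iff_isClosed]
  intro z hz
  obtain ⟨i, y, hy⟩ := hcov (pullback.fst q q z)
  obtain ⟨j, y', hy'⟩ := hcov (pullback.snd q q z)
  obtain ⟨Z, a, b, hab, hZ, hcl⟩ := h i j
  let m : pullback (o i ≫ q) (o j ≫ q) ⟶ pullback q q :=
    pullback.map _ _ _ _ (o i) (o j) (𝟙 S) (by simp) (by simp)
  have : IsOpenImmersion m := by
    dsimp only [m]; infer_instance
  let l : Z ⟶ pullback (o i ≫ q) (o j ≫ q) :=
    pullback.lift a b (by rw [← Category.assoc, hab, Category.assoc])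
  have hlm : l ≫ m = (a ≫ o i) ≫ pullback.diagonal q := by
    refine pullback.hom_ext ?_ ?_
    · simp only [l, m, pullback.map, Category.assoc, pullback.lift_fst, pullback.lift_fst_assoc,
        pullback.diagonal_fst, Category.comp_id]
    · simp only [l, m, pullback.map, Category.assoc, pullback.lift_snd, pullback.lift_snd_assoc,
        pullback.diagonal_snd, Category.comp_id]
      exact hab.symm
  have hzm : z ∈ Set.range m := by
    rw [Scheme.Pullback.range_map]
    exact ⟨⟨y, hy⟩, ⟨y', hy'⟩⟩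
  obtain ⟨w, rfl⟩ := hzm
  have hpre : m ⁻¹' Set.range (pullback.diagonal q) ⊆ Set.range l := by
    rintro v ⟨x, hx⟩
    have h1 : o i (pullback.fst (o i ≫ q) (o j ≫ q) v) = x := by
      have := congr(pullback.fst q q $hx)
      simp only [← Scheme.Hom.comp_apply, pullback.diagonal_fst] at this
      rw [show m ≫ pullback.fst q q = pullback.fst _ _ ≫ o i from pullback.lift_fst _ _ _] at this
      exact this.symm
    have h2 : o j (pullback.snd (o i ≫ q) (o j ≫ q) v) = x := by
      have := congr(pullback.snd q q $hx)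
      simp only [← Scheme.Hom.comp_apply, pullback.diagonal_snd] at this
      rw [show m ≫ pullback.snd q q = pullback.snd _ _ ≫ o j from pullback.lift_snd _ _ _] at this
      exact this.symm
    obtain ⟨u, hu⟩ := hZ _ _ (h1.trans h2.symm)
    refine ⟨u, m.isOpenEmbedding.injective ?_⟩
    rw [← hx, ← Scheme.Hom.comp_apply, hlm, Scheme.Hom.comp_apply, Scheme.Hom.comp_apply, hu, h1]
  have hw : w ∈ closure (Set.range l) := by
    refine closure_mono hpre ?_
    rw [← m.isOpenEmbedding.isOpenMap.preimage_closure_eq_closure_preimage m.continuous]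
    exact hz
  have hl : IsClosed (Set.range l) := hcl
  rw [hl.closure_eq] at hw
  obtain ⟨u, rfl⟩ := hw
  exact ⟨o i (a u), by
    show pullback.diagonal q (o i (a u)) = m (l u)
    rw [← Scheme.Hom.comp_apply, ← Scheme.Hom.comp_apply, ← Scheme.Hom.comp_apply, hlm]
    rfl⟩

/-- Two separated schemes glue to a separated scheme along an open with closed graph. -/
theorem exists_separated_glue {S Z Y₁ Y₂ : Scheme.{u}} [QuasiSeparatedSpace S]
    (p₁ : Y₁ ⟶ S) (p₂ : Y₂ ⟶ S) [IsSeparated p₁] [IsSeparated p₂]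
    [LocallyOfFiniteType p₁] [LocallyOfFiniteType p₂] [CompactSpace Y₁] [CompactSpace Y₂]
    (j₁ : Z ⟶ Y₁) (j₂ : Z ⟶ Y₂) [IsOpenImmersion j₁] [IsOpenImmersion j₂]
    (hp : j₁ ≫ p₁ = j₂ ≫ p₂) (hcl : IsClosed (Set.range (fun z => pullback.lift j₁ j₂ hp z))) :
    ∃ (X : Scheme.{u}) (q : X ⟶ S) (o₁ : Y₁ ⟶ X) (o₂ : Y₂ ⟶ X),
      IsSeparated q ∧ QuasiCompact q ∧ LocallyOfFiniteType q ∧ IsOpenImmersion o₁ ∧ IsOpenImmersion o₂ ∧
      o₁ ≫ q = p₁ ∧ o₂ ≫ q = p₂ ∧ j₁ ≫ o₁ = j₂ ≫ o₂ ∧
      Set.range o₁ ∪ Set.range o₂ = Set.univ ∧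
      (∀ y₁ y₂, o₁ y₁ = o₂ y₂ → ∃ z, j₁ z = y₁ ∧ j₂ z = y₂) := by
  let X := pushout j₁ j₂
  let q : X ⟶ S := pushout.desc p₁ p₂ hp
  have io₁ : IsOpenImmersion (pushout.inl j₁ j₂) :=
    inferInstanceAs (IsOpenImmersion (colimit.ι (span j₁ j₂) WalkingSpan.left))
  have io₂ : IsOpenImmersion (pushout.inr j₁ j₂) :=
    inferInstanceAs (IsOpenImmersion (colimit.ι (span j₁ j₂) WalkingSpan.right))
  have hjoint : ∀ x : X, (∃ y, pushout.inl j₁ j₂ y = x) ∨ (∃ y, pushout.inr j₁ j₂ y = x) := by
    intro x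
    obtain ⟨i, xi, rfl⟩ := Scheme.IsLocallyDirected.ι_jointly_surjective (span j₁ j₂) x
    obtain (_ | (_ | _)) := i
    · refine Or.inl ⟨j₁ xi, ?_⟩
      show colimit.ι (span j₁ j₂) WalkingSpan.left ((span j₁ j₂).map WalkingSpan.Hom.fst xi) = _
      rw [← Scheme.Hom.comp_apply, colimit.w]
    · exact Or.inl ⟨xi, rfl⟩
    · exact Or.inr ⟨xi, rfl⟩
  have hint : ∀ y₁ y₂, pushout.inl j₁ j₂ y₁ = pushout.inr j₁ j₂ y₂ → ∃ z, j₁ z = y₁ ∧ j₂ z = y₂ := by
    intro y₁ y₂ h
    obtain ⟨k, fi, fj, x, hx₁, hx₂⟩ :=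
      (Scheme.IsLocallyDirected.ι_eq_ι_iff (F := span j₁ j₂)).mp
        (show colimit.ι (span j₁ j₂) WalkingSpan.left y₁ = colimit.ι (span j₁ j₂) WalkingSpan.right y₂ from h)
    obtain (_ | (_ | _)) := k
    · refine ⟨x, ?_, ?_⟩
      · rw [← hx₁, Subsingleton.elim fi WalkingSpan.Hom.fst]; rfl
      · rw [← hx₂, Subsingleton.elim fj WalkingSpan.Hom.snd]; rfl
    · cases fj
    · cases fi
  have hq₁ : pushout.inl j₁ j₂ ≫ q = p₁ := pushout.inl_desc _ _ _
  have hq₂ : pushout.inr j₁ j₂ ≫ q = p₂ := pushout.inr_desc _ _ _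
  let Y : Bool → Scheme.{u} := fun b => if b then Y₁ else Y₂
  have hsep : IsSeparated q := by
    let o : ∀ b, Y b ⟶ X := fun b => match b with
      | true => pushout.inl j₁ j₂
      | false => pushout.inr j₁ j₂
    have : ∀ b, IsOpenImmersion (o b) := fun b => by cases b <;> assumption
    refine isSeparated_of_cover q o (fun x => ?_) ?_
    · rcases hjoint x with ⟨y, hy⟩ | ⟨y, hy⟩
      · exact ⟨true, y, hy⟩
      · exact ⟨false, y, hy⟩
    · have hd : ∀ b, IsSeparated (o b ≫ q) := fun b => by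
        cases b
        · show IsSeparated (pushout.inr j₁ j₂ ≫ q); rw [hq₂]; infer_instance
        · show IsSeparated (pushout.inl j₁ j₂ ≫ q); rw [hq₁]; infer_instance
      have hdiag : ∀ b, ∃ (Z : Scheme.{u}) (a : Z ⟶ Y b) (a' : Z ⟶ Y b) (hab : a ≫ o b = a' ≫ o b),
          (∀ y y', o b y = o b y' → ∃ z, a z = y) ∧
          IsClosed (Set.range (fun z => pullback.lift (f := o b ≫ q) (g := o b ≫ q) a a'
            (by rw [← Category.assoc, hab, Category.assoc]) z)) := fun b =>
        ⟨Y b, 𝟙 _, 𝟙 _, rfl, fun y _ _ => ⟨y, rfl⟩,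
          (pullback.diagonal (o b ≫ q)).isClosedEmbedding.isClosed_range⟩
      intro b b'
      cases b <;> cases b'
      · exact hdiag false
      · refine ⟨Z, j₂, j₁, pushout.condition.symm, fun y y' h => ?_, ?_⟩
        · obtain ⟨z, -, hz⟩ := hint y' y h.symm
          exact ⟨z, hz⟩
        · let e := (pullbackSymmetry p₁ p₂).hom ≫ (pullback.congrHom hq₂.symm hq₁.symm).hom
          have he : pullback.lift j₁ j₂ hp ≫ e =
              pullback.lift (f := pushout.inr j₁ j₂ ≫ q) (g := pushout.inl j₁ j₂ ≫ q) j₂ j₁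
                (by rw [hq₁, hq₂, hp]) := by
            refine pullback.hom_ext ?_ ?_ <;> simp only [e, Category.assoc, pullback.congrHom_hom, pullback.map, pullback.lift_fst, pullback.lift_snd, pullback.lift_fst_assoc, pullback.lift_snd_assoc, Category.comp_id, pullbackSymmetry_hom_comp_fst, pullbackSymmetry_hom_comp_snd]
          show IsClosed (Set.range (pullback.lift (f := pushout.inr j₁ j₂ ≫ q)
            (g := pushout.inl j₁ j₂ ≫ q) j₂ j₁ _))
          rw [← he, Scheme.Hom.comp_base, TopCat.coe_comp, Set.range_comp]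
          exact e.homeomorph.isClosedMap _ hcl
      · refine ⟨Z, j₁, j₂, pushout.condition, fun y y' h => ?_, ?_⟩
        · obtain ⟨z, hz, -⟩ := hint y y' h
          exact ⟨z, hz⟩
        · let e := (pullback.congrHom hq₁.symm hq₂.symm).hom
          have he : pullback.lift j₁ j₂ hp ≫ e =
              pullback.lift (f := pushout.inl j₁ j₂ ≫ q) (g := pushout.inr j₁ j₂ ≫ q) j₁ j₂
                (by rw [hq₁, hq₂, hp]) := by
            refine pullback.hom_ext ?_ ?_ <;> simp only [e, Category.assoc, pullback.congrHom_hom, pullback.map, pullback.lift_fst, pullback.lift_snd, pullback.lift_fst_assoc, pullback.lift_snd_assoc, Category.comp_id, pullbackSymmetry_hom_comp_fst, pullbackSymmetry_hom_comp_snd]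
          show IsClosed (Set.range (pullback.lift (f := pushout.inl j₁ j₂ ≫ q)
            (g := pushout.inr j₁ j₂ ≫ q) j₁ j₂ _))
          rw [← he, Scheme.Hom.comp_base, TopCat.coe_comp, Set.range_comp]
          exact e.homeomorph.isClosedMap _ hcl
      · exact hdiag true
  have hcov : Set.range (pushout.inl j₁ j₂) ∪ Set.range (pushout.inr j₁ j₂) = Set.univ :=
    Set.eq_univ_of_forall hjoint
  have : CompactSpace X := ⟨hcov ▸
    (isCompact_range (pushout.inl j₁ j₂).continuous).union (isCompact_range (pushout.inr j₁ j₂).continuous)⟩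
  have hqc : QuasiCompact q := by
    have : QuasiCompact (q ≫ terminal.from S) := inferInstance
    have : QuasiSeparated (terminal.from S) := quasiSeparated_iff_quasiSeparatedSpace _ |>.mpr ‹_›
    exact QuasiCompact.of_comp _ (terminal.from S)
  have hlft : LocallyOfFiniteType q := by
    refine (IsZariskiLocalAtSource.iff_of_iSup_eq_top (P := @LocallyOfFiniteType)
      (fun b : Bool => if b then (pushout.inl j₁ j₂).opensRange else (pushout.inr j₁ j₂).opensRange)
      (top_unique fun x _ => ?_)).mpr fun b => ?_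
    · rcases hjoint x with ⟨y, hy⟩ | ⟨y, hy⟩
      · exact Opens.mem_iSup.mpr ⟨true, ⟨y, hy⟩⟩
      · exact Opens.mem_iSup.mpr ⟨false, ⟨y, hy⟩⟩
    · cases b
      · show LocallyOfFiniteType ((pushout.inr j₁ j₂).opensRange.ι ≫ q)
        rw [← Scheme.Hom.isoOpensRange_inv_comp, Category.assoc, hq₂]
        infer_instance
      · show LocallyOfFiniteType ((pushout.inl j₁ j₂).opensRange.ι ≫ q)
        rw [← Scheme.Hom.isoOpensRange_inv_comp, Category.assoc, hq₁]
        infer_instance
  exact ⟨X, q, _, _, hsep, hqc, hlft, io₁, io₂, hq₁, hq₂, pushout.condition, hcov, hint⟩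

end GrothLib.Nagata6
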