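import Groth.Agent.Lib.Nagata6.Two
import Groth.Agent.Lib.Nagata6.Glue
import Groth.Agent.Lib.Nagata6.Consequences

/-!
# A common separated target of admissible blow-ups
-/

universe u

open CategoryTheory Limits AlgebraicGeometry Opposite TopologicalSpace

namespace GrothLib.Nagata6

/-- An open immersion missing the centre lifts to the blow-up as an open immersion. -/
theorem exists_lift_off {Z Zt U : Scheme.{u}} {Q : Z.IdealSheafData} {b : Zt ⟶ Z}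
    (hb : BlowUp.IsBlowUp b Q) (j : U ⟶ Z) [IsOpenImmersion j]
    (hd : Disjoint (Q.support : Set Z) (Set.range j)) :
    ∃ u : U ⟶ Zt, IsOpenImmersion u ∧ u ≫ b = j ∧ ∀ z, b z ∈ Set.range j → z ∈ Set.range u := by
  have := GrothLib.BlowUp.isIso_off_center hb
  let M : Z.Opens := Q.support.compl
  have hr : Set.range j ⊆ Set.range M.ι := by
    rw [Scheme.Opens.range_ι]
    exact fun x hx h => Set.disjoint_left.mp hd h hx
  let t := IsOpenImmersion.lift M.ι j hr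
  have ht : t ≫ M.ι = j := IsOpenImmersion.lift_fac _ _ _
  have : IsOpenImmersion (t ≫ M.ι) := by rw [ht]; infer_instance
  have : IsOpenImmersion t := IsOpenImmersion.of_comp t M.ι
  refine ⟨t ≫ inv (b ∣_ M) ≫ (b ⁻¹ᵁ M).ι, inferInstance, ?_, fun z hz => ?_⟩
  · rw [Category.assoc, Category.assoc, ← morphismRestrict_ι, IsIso.inv_hom_id_assoc, ht]
  · obtain ⟨x, hx⟩ := hz
    have hzM : z ∈ b ⁻¹ᵁ M := by
      show b z ∈ M
      rw [← hx, ← ht, Scheme.Hom.comp_apply]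
      exact (t x).2
    refine ⟨x, ?_⟩
    have h1 : (b ∣_ M) ⟨z, hzM⟩ = t x := by
      apply M.ι.isOpenEmbedding.injective
      rw [← Scheme.Hom.comp_apply, ← Scheme.Hom.comp_apply, ht, morphismRestrict_ι, hx]
      rfl
    rw [Scheme.Hom.comp_apply, Scheme.Hom.comp_apply, ← h1, ← Scheme.Hom.comp_apply (b ∣_ M),
      IsIso.hom_inv_id]
    rfl

/-- Common separated target of admissible blow-ups of two schemes sharing an open. -/
theorem exists_common_target {S U X₁ X₂ : Scheme.{u}} [QuasiSeparatedSpace S]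
    [CompactSpace U] [CompactSpace X₁] [CompactSpace X₂]
    (g₁ : X₁ ⟶ S) (g₂ : X₂ ⟶ S) [IsSeparated g₁] [LocallyOfFiniteType g₁]
    [IsSeparated g₂] [LocallyOfFiniteType g₂]
    (j₁ : U ⟶ X₁) (j₂ : U ⟶ X₂) [IsOpenImmersion j₁] [IsOpenImmersion j₂] (h : j₁ ≫ g₁ = j₂ ≫ g₂)
    (V₁ : X₁.Opens) (V₂ : X₂.Opens) (hV₁ : IsCompact (V₁ : Set X₁)) (hV₂ : IsCompact (V₂ : Set X₂))
    (hUV₁ : j₁.opensRange ≤ V₁) (hUV₂ : j₂.opensRange ≤ V₂)
    (hd₁ : (V₁ : Set X₁) ⊆ closure (Set.range j₁)) (hd₂ : (V₂ : Set X₂) ⊆ closure (Set.range j₂))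
    (hC₁ : closure (Set.range (pullback.lift j₁ j₂ h)) ∩ ((pullback.fst g₁ g₂) ⁻¹ᵁ V₁ : Set ↥(pullback g₁ g₂)) ⊆
      Set.range (pullback.lift j₁ j₂ h))
    (hC₂ : closure (Set.range (pullback.lift j₁ j₂ h)) ∩ ((pullback.snd g₁ g₂) ⁻¹ᵁ V₂ : Set ↥(pullback g₁ g₂)) ⊆
      Set.range (pullback.lift j₁ j₂ h)) :
    ∃ (X : Scheme.{u}) (q : X ⟶ S) (_ : IsSeparated q) (_ : QuasiCompact q) (_ : LocallyOfFiniteType q)
      (P₁ : X₁.IdealSheafData) (P₂ : X₂.IdealSheafData) (Y₁ Y₂ : Scheme.{u}) (c₁ : Y₁ ⟶ X₁) (c₂ : Y₂ ⟶ X₂)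
      (o₁ : Y₁ ⟶ X) (o₂ : Y₂ ⟶ X) (u₁ : U ⟶ Y₁) (u₂ : U ⟶ Y₂),
      BlowUp.IsBlowUp c₁ P₁ ∧ BlowUp.IsAdmissibleFor V₁ P₁ ∧ (P₁.support : Set X₁) = (V₁ : Set X₁)ᶜ ∧
      BlowUp.IsBlowUp c₂ P₂ ∧ BlowUp.IsAdmissibleFor V₂ P₂ ∧ (P₂.support : Set X₂) = (V₂ : Set X₂)ᶜ ∧
      IsOpenImmersion o₁ ∧ IsOpenImmersion o₂ ∧ o₁ ≫ q = c₁ ≫ g₁ ∧ o₂ ≫ q = c₂ ≫ g₂ ∧
      IsOpenImmersion u₁ ∧ IsOpenImmersion u₂ ∧ u₁ ≫ c₁ = j₁ ∧ u₂ ≫ c₂ = j₂ ∧ u₁ ≫ o₁ = u₂ ≫ o₂ ∧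
      Set.range o₁ ∪ Set.range o₂ = Set.univ ∧
      (∀ y₁ y₂, o₁ y₁ = o₂ y₂ → ∃ w ∈ closure (Set.range (pullback.lift j₁ j₂ h)),
        pullback.fst g₁ g₂ w = c₁ y₁ ∧ pullback.snd g₁ g₂ w = c₂ y₂) ∧
      (∀ w ∈ closure (Set.range (pullback.lift j₁ j₂ h)), ∃ y₁ y₂, o₁ y₁ = o₂ y₂ ∧
        pullback.fst g₁ g₂ w = c₁ y₁ ∧ pullback.snd g₁ g₂ w = c₂ y₂) := by
  have : QuasiCompact g₁ := by
    have : QuasiCompact (g₁ ≫ terminal.from S) := inferInstance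
    have : QuasiSeparated (terminal.from S) := quasiSeparated_iff_quasiSeparatedSpace _ |>.mpr ‹_›
    exact QuasiCompact.of_comp _ (terminal.from S)
  have : QuasiCompact g₂ := by
    have : QuasiCompact (g₂ ≫ terminal.from S) := inferInstance
    have : QuasiSeparated (terminal.from S) := quasiSeparated_iff_quasiSeparatedSpace _ |>.mpr ‹_›
    exact QuasiCompact.of_comp _ (terminal.from S)
  have : QuasiSeparatedSpace X₁ := quasiSeparatedSpace_of_quasiSeparated g₁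
  have : QuasiSeparatedSpace X₂ := quasiSeparatedSpace_of_quasiSeparated g₂
  have : QuasiSeparatedSpace (pullback g₁ g₂ : Scheme.{u}) :=
    quasiSeparatedSpace_of_quasiSeparated (pullback.fst g₁ g₂)
  have : CompactSpace (pullback g₁ g₂ : Scheme.{u}) :=
    QuasiCompact.compactSpace_of_compactSpace (pullback.fst g₁ g₂)
  let l := pullback.lift j₁ j₂ h
  have : IsImmersion (l ≫ pullback.fst g₁ g₂) := by rw [pullback.lift_fst]; infer_instance
  have : IsImmersion l := IsImmersion.of_comp l (pullback.fst g₁ g₂)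
  have : QuasiCompact l := by
    have : QuasiCompact (l ≫ terminal.from _) := inferInstance
    have : QuasiSeparated (terminal.from (pullback g₁ g₂ : Scheme.{u})) :=
      quasiSeparated_iff_quasiSeparatedSpace _ |>.mpr ‹_›
    exact QuasiCompact.of_comp l (terminal.from _)
  let Z := l.image
  let ι := l.imageι
  have hιr : Set.range ι = closure (Set.range l) := by
    rw [show ι = l.ker.subschemeι from rfl, Scheme.IdealSheafData.range_subschemeι, Scheme.Hom.support_ker]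
  have : CompactSpace Z := QuasiCompact.compactSpace_of_compactSpace ι
  let π₁ := ι ≫ pullback.fst g₁ g₂
  let π₂ := ι ≫ pullback.snd g₁ g₂
  let O := l.toImage.opensRange
  have hO : IsCompact (O : Set Z) := isCompact_range l.toImage.continuous
  have hπ₁ : O.ι ≫ π₁ = l.toImage.isoOpensRange.inv ≫ j₁ := by
    rw [← Scheme.Hom.isoOpensRange_inv_comp l.toImage, Category.assoc, Scheme.Hom.toImage_imageι_assoc, pullback.lift_fst]
  have hπ₂ : O.ι ≫ π₂ = l.toImage.isoOpensRange.inv ≫ j₂ := by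
    rw [← Scheme.Hom.isoOpensRange_inv_comp l.toImage, Category.assoc, Scheme.Hom.toImage_imageι_assoc, pullback.lift_snd]
  have : IsOpenImmersion (O.ι ≫ π₁) := by rw [hπ₁]; infer_instance
  have : IsOpenImmersion (O.ι ≫ π₂) := by rw [hπ₂]; infer_instance
  have hlu : ∀ u, ι (l.toImage u) = l u := fun u => by
    rw [← Scheme.Hom.comp_apply, Scheme.Hom.toImage_imageι]
  have himg : ∀ {Y : Scheme.{u}} (p : (pullback g₁ g₂ : Scheme.{u}) ⟶ Y),
      (ι ≫ p) '' (O : Set Z) = Set.range (l ≫ p) := fun p => by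
    ext y
    constructor
    · rintro ⟨_, ⟨u, rfl⟩, rfl⟩
      exact ⟨u, by rw [Scheme.Hom.comp_apply, Scheme.Hom.comp_apply, hlu]⟩
    · rintro ⟨u, rfl⟩
      exact ⟨_, ⟨u, rfl⟩, by rw [Scheme.Hom.comp_apply, Scheme.Hom.comp_apply, hlu]⟩
  have e₁ : π₁ '' (O : Set Z) = Set.range j₁ := by rw [himg, pullback.lift_fst]
  have e₂ : π₂ '' (O : Set Z) = Set.range j₂ := by rw [himg, pullback.lift_snd]
  have hVO : ∀ z, ι z ∈ Set.range l → z ∈ O := by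
    rintro z ⟨u, hu⟩
    exact ⟨u, ι.isClosedEmbedding.injective (by rw [hlu, hu])⟩
  have hcl : ∀ z, ι z ∈ closure (Set.range l) := fun z => hιr.le ⟨z, rfl⟩
  obtain ⟨P₁, P₂, Q, Zt, Y₁, Y₂, b, c₁, c₂, i₁, i₂, hb, hQ, hc₁, hP₁, hP₁s, hc₂, hP₂, hP₂s, hi₁, hi₂, h₁, h₂, -, -⟩ :=
    exists_two_open π₁ π₂ O hO V₁ V₂ hV₁ hV₂
      (fun z hz => hUV₁ (e₁.le ⟨z, hz, rfl⟩)) (fun z hz => hUV₂ (e₂.le ⟨z, hz, rfl⟩))
      (fun z hz => hVO z (hC₁ ⟨hcl z, hz⟩)) (fun z hz => hVO z (hC₂ ⟨hcl z, hz⟩))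
      (e₁.symm ▸ hd₁) (e₂.symm ▸ hd₂)
  have := isProper_of_isBlowUp hQ.1 hb
  have := isProper_of_isBlowUp hP₁.1 hc₁
  have := isProper_of_isBlowUp hP₂.1 hc₂
  have : CompactSpace Y₁ := QuasiCompact.compactSpace_of_compactSpace c₁
  have : CompactSpace Y₂ := QuasiCompact.compactSpace_of_compactSpace c₂
  have hp : i₁ ≫ c₁ ≫ g₁ = i₂ ≫ c₂ ≫ g₂ := by
    rw [reassoc_of% h₁, reassoc_of% h₂]
    simp only [π₁, π₂, Category.assoc, pullback.condition]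
  let L := pullback.lift i₁ i₂ hp
  let m : pullback (c₁ ≫ g₁) (c₂ ≫ g₂) ⟶ pullback g₁ g₂ :=
    pullback.map _ _ _ _ c₁ c₂ (𝟙 S) (by simp) (by simp)
  have : IsSeparated (m ≫ pullback.fst g₁ g₂ ≫ g₁) := by
    rw [show m ≫ pullback.fst g₁ g₂ ≫ g₁ = pullback.fst (c₁ ≫ g₁) (c₂ ≫ g₂) ≫ c₁ ≫ g₁ by
      simp only [m, pullback.map, pullback.lift_fst_assoc, Category.assoc]]
    infer_instance
  have : IsSeparated m := IsSeparated.of_comp m (pullback.fst g₁ g₂ ≫ g₁)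
  have : IsProper (L ≫ m) := by
    rw [show L ≫ m = b ≫ ι by
      refine pullback.hom_ext ?_ ?_
      · simp only [L, m, pullback.map, Category.assoc, pullback.lift_fst, pullback.lift_fst_assoc]
        rw [h₁]
      · simp only [L, m, pullback.map, Category.assoc, pullback.lift_snd, pullback.lift_snd_assoc]
        rw [h₂]]
    infer_instance
  have : IsProper L := IsProper.of_comp L m
  have hclosed : IsClosed (Set.range (fun z => pullback.lift i₁ i₂ hp z)) := L.isClosedMap.isClosed_range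
  obtain ⟨X, q, o₁, o₂, hq, hqc, hql, ho₁, ho₂, hoq₁, hoq₂, hoo, hcov, hint⟩ :=
    exists_separated_glue (c₁ ≫ g₁) (c₂ ≫ g₂) i₁ i₂ hp hclosed
  obtain ⟨u, hu, hub, -⟩ := exists_lift_off hb l.toImage (Set.disjoint_left.mpr fun z hz hz' =>
    Set.disjoint_left.mp hQ.2 hz hz')
  refine ⟨X, q, hq, hqc, hql, P₁, P₂, Y₁, Y₂, c₁, c₂, o₁, o₂, u ≫ i₁, u ≫ i₂, hc₁, hP₁, hP₁s, hc₂, hP₂, hP₂s,
    ho₁, ho₂, hoq₁, hoq₂, inferInstance, inferInstance, ?_, ?_, ?_, hcov, ?_, ?_⟩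
  · rw [Category.assoc, h₁, reassoc_of% hub, Scheme.Hom.toImage_imageι_assoc, pullback.lift_fst]
  · rw [Category.assoc, h₂, reassoc_of% hub, Scheme.Hom.toImage_imageι_assoc, pullback.lift_snd]
  · rw [Category.assoc, Category.assoc, hoo]
  · intro y₁ y₂ hy
    obtain ⟨z, rfl, rfl⟩ := hint y₁ y₂ hy
    refine ⟨ι (b z), hcl _, ?_, ?_⟩
    · rw [← Scheme.Hom.comp_apply i₁, h₁]; rfl
    · rw [← Scheme.Hom.comp_apply i₂, h₂]; rfl
  · intro w hw
    obtain ⟨z, rfl⟩ := hιr.ge hw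
    have hs : Function.Surjective b := by
      have hcl' : IsClosed (Set.range b) := b.isClosedMap.isClosed_range
      have hsub : (O : Set Z) ⊆ Set.range b := by
        rintro _ ⟨x, rfl⟩
        exact ⟨u x, by rw [← Scheme.Hom.comp_apply, hub]⟩
      intro z
      refine hcl'.closure_subset_iff.mpr hsub ?_
      rw [ι.isClosedEmbedding.isInducing.closure_eq_preimage_closure_image, Set.mem_preimage]
      refine closure_mono ?_ (hcl z)
      rintro _ ⟨x, rfl⟩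
      exact ⟨_, ⟨x, rfl⟩, hlu x⟩
    obtain ⟨t, rfl⟩ := hs z
    refine ⟨i₁ t, i₂ t, by rw [← Scheme.Hom.comp_apply, hoo]; rfl, ?_, ?_⟩
    · rw [← Scheme.Hom.comp_apply i₁, h₁]; rfl
    · rw [← Scheme.Hom.comp_apply i₂, h₂]; rfl

end GrothLib.Nagata6
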