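import Groth.Agent.Lib.Nagata6.GlueMutual
import Groth.Agent.Lib.Nagata6.Consequences

/-!
# Transfer of blow-ups and graphs along a quasi-domination
-/

universe u

open CategoryTheory Limits AlgebraicGeometry Opposite TopologicalSpace

namespace GrothLib.Nagata6

/-- The lift of a schematically dense open avoiding the centre is schematically dense. -/
theorem isSchemeTheoreticallyDominant_lift' {U Z Zt : Scheme.{u}} {Q : Z.IdealSheafData} {b : Zt ⟶ Z}
    (hb : BlowUp.IsBlowUp b Q) (j : U ⟶ Z) [IsOpenImmersion j] [IsSchemeTheoreticallyDominant j]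
    [QuasiCompact j] (hd : Disjoint (Q.support : Set Z) (Set.range j)) (u : U ⟶ Zt) (hu : u ≫ b = j) :
    IsSchemeTheoreticallyDominant u := by
  let C : Z.Opens := Q.support.compl
  have := GrothLib.BlowUp.isIso_off_center hb
  have := QuasiDom6.isSchemeTheoreticallyDominant_compl_support hb.1
  have heq : (Q.comap b).support.compl = b ⁻¹ᵁ C := by
    ext x
    rw [Scheme.IdealSheafData.support_comap]
    rfl
  have hdC : IsSchemeTheoreticallyDominant (b ⁻¹ᵁ C).ι := heq ▸ this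
  let jc : U ⟶ (C : Scheme.{u}) := IsOpenImmersion.lift C.ι j (by
    rw [Scheme.Opens.range_ι]
    exact fun x hx hxQ => Set.disjoint_left.mp hd hxQ hx)
  have hjc : jc ≫ C.ι = j := IsOpenImmersion.lift_fac _ _ _
  obtain ⟨hd', hq'⟩ := dominant_of_factor j C jc hjc
  let v : U ⟶ ((b ⁻¹ᵁ C : Zt.Opens) : Scheme.{u}) := jc ≫ inv (b ∣_ C)
  have hvb : (v ≫ (b ⁻¹ᵁ C).ι) ≫ b = j := by
    simp only [v, Category.assoc, ← morphismRestrict_ι, IsIso.inv_hom_id_assoc, hjc]
  have hcart : BlowUp.IsEffCartierIdeal (Q.comap j) := by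
    rw [← hvb, Scheme.IdealSheafData.comap_comp]
    exact GrothLib.BlowUp.isEffCartierIdeal_comap_of_flat _ hb.1
  obtain rfl : u = v ≫ (b ⁻¹ᵁ C).ι :=
    GrothLib.BlowUp.hom_ext hb (hu.trans hvb.symm) (by rw [hu]; exact hcart)
  infer_instance

theorem quasiDomination_transfer {S U X Y Xt : Scheme.{u}} [CompactSpace S] [QuasiSeparatedSpace S]
    (gX : X ⟶ S) (gY : Y ⟶ S)
    [IsSeparated gX] [QuasiCompact gX] [LocallyOfFiniteType gX]
    [IsSeparated gY] [QuasiCompact gY] [LocallyOfFiniteType gY]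
    (jX : U ⟶ X) [IsOpenImmersion jX] [CompactSpace U]
    (V : Y.Opens) (jV : U ⟶ (V : Scheme.{u})) [IsOpenImmersion jV] [IsSchemeTheoreticallyDominant jV]
    (φ : (V : Scheme.{u}) ⟶ X) (hφU : jV ≫ φ = jX) (hφ : V.ι ≫ gY = φ ≫ gX)
    (hφcl : IsClosed (Set.range (fun x => pullback.lift V.ι φ hφ x)))
    (𝓘 : X.IdealSheafData) (h𝓘 : BlowUp.IsAdmissibleFor jX.opensRange 𝓘)
    (b : Xt ⟶ X) (hb : BlowUp.IsBlowUp b 𝓘)
    (W : Xt.Opens) (u : U ⟶ (W : Scheme.{u})) (hu : u ≫ W.ι ≫ b = jX)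
    [IsSchemeTheoreticallyDominant (u ≫ W.ι)]
    (ψ : (W : Scheme.{u}) ⟶ (V : Scheme.{u})) (hψU : u ≫ ψ = jV)
    (hψ : W.ι ≫ b ≫ gX = ψ ≫ V.ι ≫ gY)
    (hψcl : IsClosed (Set.range (fun x => pullback.lift W.ι ψ hψ x))) :
    BlowUp.IsBlowUp ψ (𝓘.comap φ) ∧
      IsClosed (Set.range (fun x => pullback.lift (f := b ≫ gX) (g := gY) W.ι (ψ ≫ V.ι)
        (hψ.trans (Category.assoc ψ V.ι gY).symm) x)) := by
  have := isProper_of_isBlowUp h𝓘.1 hb
  have : QuasiSeparatedSpace X := quasiSeparatedSpace_of_quasiSeparated gX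
  have : QuasiSeparatedSpace Y := quasiSeparatedSpace_of_quasiSeparated gY
  have : QuasiSeparatedSpace Xt := quasiSeparatedSpace_of_quasiSeparated b
  have : QuasiSeparatedSpace (V : Scheme.{u}) := quasiSeparatedSpace_of_quasiSeparated V.ι
  obtain ⟨hud, huq⟩ := dominant_of_factor (u ≫ W.ι) W u rfl
  have hψφ : ψ ≫ φ = W.ι ≫ b := by
    refine SchDense.ext_of_schDominant gX ?_ u ?_
    · rw [Category.assoc, Category.assoc, ← hφ, hψ]
    · rw [reassoc_of% hψU, hφU, hu]
  have hd : Disjoint ((𝓘.comap φ).support : Set ↥V.toScheme) (Set.range jV) := by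
    rw [Scheme.IdealSheafData.support_comap]
    refine Set.disjoint_left.mpr ?_
    rintro _ hx ⟨y, rfl⟩
    refine Set.disjoint_left.mp h𝓘.2 hx ⟨y, ?_⟩
    show jX y = φ (jV y)
    rw [← Scheme.Hom.comp_apply, hφU]
  obtain ⟨V', c, hc⟩ := GrothLib.BlowUp.exists_isBlowUp _ (𝓘.comap φ)
  obtain ⟨uV, huVo, huV, -⟩ := exists_lift_off hc jV hd
  have hdV := isSchemeTheoreticallyDominant_lift' hc jV hd uV huV
  obtain ⟨θ, hθ, -⟩ := hb.2 V' (c ≫ φ) (by rw [Scheme.IdealSheafData.comap_comp]; exact hc.1)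
  have hθu : uV ≫ θ = u ≫ W.ι := by
    refine GrothLib.BlowUp.hom_ext hb ?_ ?_
    · rw [Category.assoc, Category.assoc, hθ, reassoc_of% huV, hφU, hu]
    · rw [Category.assoc, hθ, ← Category.assoc, Scheme.IdealSheafData.comap_comp,
        Scheme.IdealSheafData.comap_comp]
      exact GrothLib.BlowUp.isEffCartierIdeal_comap_of_flat uV hc.1
  have hF : θ ≫ b ≫ gX = c ≫ V.ι ≫ gY := by
    rw [reassoc_of% hθ, hφ]
  have := isClosedImmersion_graph (pX := b ≫ gX) (pY := V.ι ≫ gY) W.ι ψ hψ hψcl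
  obtain ⟨w, hw⟩ := SchDense.exists_lift_of_schDominant (pullback.lift W.ι ψ hψ)
    (pullback.lift θ c hF) uV u (by
      refine pullback.hom_ext ?_ ?_
      · simp only [Category.assoc, pullback.lift_fst, hθu]
      · simp only [Category.assoc, pullback.lift_snd, hψU, huV])
  have hwθ : w ≫ W.ι = θ := by
    simpa only [Category.assoc, pullback.lift_fst] using congr($hw ≫ pullback.fst (b ≫ gX) (V.ι ≫ gY))
  have hwc : w ≫ ψ = c := by
    simpa only [Category.assoc, pullback.lift_snd] using congr($hw ≫ pullback.snd (b ≫ gX) (V.ι ≫ gY))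
  have hWc : BlowUp.IsEffCartierIdeal (𝓘.comap (W.ι ≫ b)) := by
    rw [Scheme.IdealSheafData.comap_comp]
    exact GrothLib.BlowUp.isEffCartierIdeal_comap_of_flat W.ι hb.1
  obtain ⟨l, hl, -⟩ := hc.2 (W : Scheme.{u}) ψ (by
    rwa [← Scheme.IdealSheafData.comap_comp, hψφ])
  have h1 : w ≫ l = 𝟙 V' :=
    GrothLib.BlowUp.hom_ext hc (by rw [Category.assoc, hl, hwc, Category.id_comp])
      (by rw [Category.assoc, hl, hwc]; exact hc.1)
  have h2 : l ≫ w = 𝟙 _ := by
    rw [← cancel_mono W.ι, Category.assoc, hwθ, Category.id_comp]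
    refine GrothLib.BlowUp.hom_ext hb ?_ ?_
    · rw [Category.assoc, hθ, reassoc_of% hl, hψφ]
    · rw [Category.assoc, hθ, reassoc_of% hl, hψφ]; exact hWc
  refine ⟨?_, ?_⟩
  · have : IsIso l := ⟨w, h2, h1⟩
    rw [← hl]
    exact isBlowUp_iso_comp l hc
  let Γ' : (W : Scheme.{u}) ⟶ pullback (b ≫ gX) gY :=
    pullback.lift W.ι (ψ ≫ V.ι) (hψ.trans (Category.assoc ψ V.ι gY).symm)
  let m : pullback (b ≫ gX) (V.ι ≫ gY) ⟶ pullback (b ≫ gX) gY :=
    pullback.map _ _ _ _ (𝟙 Xt) V.ι (𝟙 S) (by simp) (by simp)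
  have : IsOpenImmersion m := by
    dsimp only [m]; infer_instance
  have hm : pullback.lift W.ι ψ hψ ≫ m = Γ' := by
    refine pullback.hom_ext ?_ ?_
    · simp only [Γ', m, pullback.map, Category.assoc, pullback.lift_fst, pullback.lift_fst_assoc, Category.comp_id]
    · simp only [Γ', m, pullback.map, Category.assoc, pullback.lift_snd, pullback.lift_snd_assoc]
  let r : pullback (b ≫ gX) gY ⟶ pullback gY gX :=
    pullback.lift (pullback.snd _ _) (pullback.fst _ _ ≫ b) (by rw [Category.assoc, pullback.condition])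
  have hr : Γ' ≫ r = ψ ≫ pullback.lift V.ι φ hφ := by
    refine pullback.hom_ext ?_ ?_
    · simp only [Γ', r, Category.assoc, pullback.lift_fst, pullback.lift_snd]
    · simp only [Γ', r, Category.assoc, pullback.lift_snd, pullback.lift_fst_assoc]
      exact hψφ.symm
  show IsClosed (Set.range Γ')
  rw [← closure_subset_iff_isClosed]
  intro z hz
  have hzr : r z ∈ Set.range (fun x => pullback.lift V.ι φ hφ x) := by
    refine closure_minimal ?_ (hφcl.preimage r.continuous) hz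
    rintro _ ⟨x, rfl⟩
    exact ⟨ψ x, by
      show pullback.lift V.ι φ hφ (ψ x) = r (Γ' x)
      rw [← Scheme.Hom.comp_apply, ← Scheme.Hom.comp_apply, hr]⟩
  obtain ⟨v, hv⟩ := hzr
  have hzV : pullback.snd (b ≫ gX) gY z = V.ι v := by
    have h := congr(pullback.fst gY gX $hv)
    simp only [r, ← Scheme.Hom.comp_apply, pullback.lift_fst] at h
    exact h.symm
  have hzm : z ∈ Set.range m := by
    rw [Scheme.Pullback.range_map]
    exact ⟨⟨pullback.fst (b ≫ gX) gY z, rfl⟩, ⟨v, hzV.symm⟩⟩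
  obtain ⟨z', rfl⟩ := hzm
  have hz' : z' ∈ closure (Set.range (pullback.lift W.ι ψ hψ)) := by
    rw [m.isOpenEmbedding.isInducing.closure_eq_preimage_closure_image, Set.mem_preimage,
      ← Set.range_comp, ← TopCat.coe_comp, ← Scheme.Hom.comp_base, hm]
    exact hz
  rw [(hψcl : IsClosed (Set.range (pullback.lift W.ι ψ hψ))).closure_eq] at hz'
  obtain ⟨x, rfl⟩ := hz'
  exact ⟨x, by rw [← Scheme.Hom.comp_apply, hm]⟩

end GrothLib.Nagata6
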