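import Groth.Agent.Lib.Nagata6.Modification
import Groth.Agent.Lib.Nagata6.ExtendIdeal
import Groth.Prelude.Def_Coh

/-!
# Strict transforms of modifications are the open pieces of the blow-up
-/

universe u

open CategoryTheory Limits AlgebraicGeometry Opposite TopologicalSpace

namespace GrothLib.Nagata6

open GrothLib.Thickening (res res_res app_res)

theorem killed_structureModule_iff {P : Scheme.{u}} (E : P.IdealSheafData) (D : P.affineOpens) (a : Γ(P, D.1)) :
    BlowUp.KilledByPowerNear E (Coh.structureModule P) D a ↔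
      ∃ n : ℕ, ∀ e ∈ (E ^ n).ideal D, e * a = 0 :=
  Iff.rfl

/-- The ideal of the graph of a modification is the ideal of exceptional torsion. -/
theorem mem_ker_iff_killed {X S S' X' : Scheme.{u}} {φ : X ⟶ S} {c : S' ⟶ S} {p₁ : X' ⟶ X} {p₂ : X' ⟶ S'}
    (hPB : IsPullback p₁ p₂ φ c) {U : S.Opens} [IsIso (φ ∣_ U)]
    {J : S.IdealSheafData} (hJ : BlowUp.IsFiniteTypeIdeal J)
    {W : S'.Opens} {g : (W : Scheme.{u}) ⟶ X} (hgf : g ≫ φ = W.ι ≫ c)
    (hg : BlowUp.IsEffCartierIdeal ((J.comap φ).comap g)) [QuasiCompact (hPB.lift g W.ι hgf)]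
    (D : X'.affineOpens)
    (hoff : ∀ x ∈ D.1, φ (p₁ x) ∉ (J.support : Set S) → p₂ x ∈ W ∧ φ (p₁ x) ∈ U) (a : Γ(X', D.1)) :
    a ∈ (hPB.lift g W.ι hgf).ker.ideal D ↔
      BlowUp.KilledByPowerNear ((J.comap φ).comap p₁) (Coh.structureModule X') D a := by
  set l := hPB.lift g W.ι hgf
  set E := (J.comap φ).comap p₁
  rw [killed_structureModule_iff, Scheme.Hom.ker_apply, RingHom.mem_ker]
  constructor
  · intro ha
    have hEfg : (E.ideal D).FG := fg_comap' (J.comap φ) (fg_comap' J hJ φ) p₁ D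
    suffices hrad : ∀ e ∈ E.ideal D, ∃ m : ℕ, e ^ m * a = 0 by
      let A : Ideal Γ(X', D.1) :=
        { carrier := {r | r * a = 0}
          add_mem' := fun {r r'} (h : r * a = 0) (h' : r' * a = 0) => show (r + r') * a = 0 by
            rw [add_mul, h, h', add_zero]
          zero_mem' := zero_mul a
          smul_mem' := fun r r' (h : r' * a = 0) => show r * r' * a = 0 by rw [mul_assoc, h, mul_zero] }
      obtain ⟨n, hn⟩ := Ideal.exists_pow_le_of_le_radical_of_fg (I := E.ideal D) (J := A)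
        (fun e he => hrad e he) hEfg
      refine ⟨n, fun e he => ?_⟩
      rw [Scheme.IdealSheafData.ideal_pow, Pi.pow_apply] at he
      exact hn he
    intro e he
    refine exists_pow_mul_eq_zero_of_res_basicOpen_eq_zero_of_isAffineOpen X' D.2 a e ?_
    let O : X'.Opens := X'.basicOpen e
    have hO : ∀ x ∈ O, φ (p₁ x) ∈ U := fun x hx => by
      have h1 : x ∉ (E.support : Set X') :=
        Set.disjoint_left.mp (GrothLib.BlowUp.disjoint_basicOpen_support he) hx
      have h2 : φ (p₁ x) ∉ (J.support : Set S) := fun h => h1 (by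
        rw [Scheme.IdealSheafData.support_comap]
        show p₁ x ∈ (J.comap φ).support
        rw [← SetLike.mem_coe, Scheme.IdealSheafData.support_comap]
        exact h)
      exact (hoff x (X'.basicOpen_le e hx) h2).2
    have hOW : ∀ x ∈ O, p₂ x ∈ W := fun x hx => by
      have h1 : x ∉ (E.support : Set X') :=
        Set.disjoint_left.mp (GrothLib.BlowUp.disjoint_basicOpen_support he) hx
      refine (hoff x (X'.basicOpen_le e hx) fun h => h1 ?_).1
      rw [Scheme.IdealSheafData.support_comap]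
      show p₁ x ∈ (J.comap φ).support
      rw [← SetLike.mem_coe, Scheme.IdealSheafData.support_comap]
      exact h
    let t₀ : (O : Scheme.{u}) ⟶ (φ ⁻¹ᵁ U : Scheme.{u}) :=
      IsOpenImmersion.lift (φ ⁻¹ᵁ U).ι (O.ι ≫ p₁) (by
        rintro _ ⟨x, rfl⟩
        rw [Scheme.Opens.range_ι]
        exact hO x.1 x.2)
    have ht₀ : t₀ ≫ (φ ⁻¹ᵁ U).ι = O.ι ≫ p₁ := IsOpenImmersion.lift_fac _ _ _
    let s : (O : Scheme.{u}) ⟶ (W : Scheme.{u}) :=
      IsOpenImmersion.lift W.ι (O.ι ≫ p₂) (by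
        rintro _ ⟨x, rfl⟩
        rw [Scheme.Opens.range_ι]
        exact hOW x.1 x.2)
    have hs : s ≫ W.ι = O.ι ≫ p₂ := IsOpenImmersion.lift_fac _ _ _
    have hsg : s ≫ g = O.ι ≫ p₁ := by
      let k : (O : Scheme.{u}) ⟶ (φ ⁻¹ᵁ U : Scheme.{u}) :=
        IsOpenImmersion.lift (φ ⁻¹ᵁ U).ι (s ≫ g) (by
          rintro _ ⟨x, rfl⟩
          rw [Scheme.Opens.range_ι]
          show φ ((s ≫ g) x) ∈ U
          rw [← Scheme.Hom.comp_apply, Category.assoc, hgf, reassoc_of% hs, ← hPB.w]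
          exact hO x.1 x.2)
      have hk : k ≫ (φ ⁻¹ᵁ U).ι = s ≫ g := IsOpenImmersion.lift_fac _ _ _
      rw [← hk, ← ht₀]
      congr 1
      rw [← cancel_mono (φ ∣_ U), ← cancel_mono U.ι, Category.assoc, Category.assoc, morphismRestrict_ι,
        reassoc_of% hk, reassoc_of% ht₀, hgf, reassoc_of% hs, hPB.w]
    have hsl : s ≫ l = O.ι := by
      refine hPB.hom_ext ?_ ?_
      · rw [Category.assoc, IsPullback.lift_fst, hsg]
      · rw [Category.assoc, IsPullback.lift_snd, hs]
    have hz : (s ≫ l).app D.1 a = 0 := by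
      rw [Scheme.Hom.comp_app]
      show s.app _ (l.app D.1 a) = 0
      rw [ha, map_zero]
    rw [hsl] at hz
    rw [Scheme.Opens.ι_app] at hz
    have hOD : O ≤ O.ι ''ᵁ (O.ι ⁻¹ᵁ D.1) := by
      rw [Scheme.Hom.image_preimage_eq_opensRange_inf, Scheme.Opens.opensRange_ι]
      exact le_inf le_rfl (X'.basicOpen_le e)
    have hz2 := congrArg (res hOD) hz
    replace hz2 := hz2.trans (map_zero _)
    exact Eq.trans (res_res _ hOD a).symm hz2
  · rintro ⟨n, hn⟩
    refine TopCat.Sheaf.eq_of_locally_eq' (W : Scheme.{u}).sheaf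
      (fun V : {V : (W : Scheme.{u}).affineOpens // V.1 ≤ l ⁻¹ᵁ D.1 ∧
        GrothLib.BlowUp.CartierOn ((J.comap φ).comap g) V} => V.1.1) _ (fun V => homOfLE V.2.1)
      (fun z hz => ?_) _ _ fun V => ?_
    · obtain ⟨V, hzV, hV, hc⟩ := GrothLib.BlowUp.exists_cartierOn_le hg (W := l ⁻¹ᵁ D.1) (x := z) hz
      exact Opens.mem_iSup.mpr ⟨⟨V, hV, hc⟩, hzV⟩
    · obtain ⟨V, hV, e, he, hE⟩ := V
      show res hV (l.app D.1 a) = res hV 0
      rw [map_zero]
      have hmap : ((E ^ n).ideal D).map (l.appLE D.1 V.1 hV).hom = Ideal.span {e ^ n} := by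
        rw [Scheme.IdealSheafData.ideal_pow, Pi.pow_apply, Ideal.map_pow,
          ← GrothLib.BlowUp.ideal_comap_eq_map E l D V hV]
        rw [show E.comap l = (J.comap φ).comap g by
          rw [← Scheme.IdealSheafData.comap_comp, IsPullback.lift_fst]]
        rw [hE, Ideal.span_singleton_pow]
      have hkill : ∀ x ∈ ((E ^ n).ideal D).map (l.appLE D.1 V.1 hV).hom,
          x * l.appLE D.1 V.1 hV a = 0 := by
        intro x hx
        induction hx using Submodule.span_induction with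
        | mem x hx =>
          obtain ⟨y, hy, rfl⟩ := hx
          erw [← map_mul, hn y hy, map_zero]
        | zero => rw [zero_mul]
        | add x y _ _ ihx ihy => rw [add_mul, ihx, ihy, add_zero]
        | smul r x _ ih => rw [smul_eq_mul, mul_assoc, ih, mul_zero]
      have h0 := hkill (e ^ n) (hmap.ge (Ideal.mem_span_singleton_self _))
      rw [mul_comm] at h0
      have := mem_nonZeroDivisors_iff_right.mp (pow_mem he n) _ h0
      exact this

/-- The strict transform of a separated morphism which is an isomorphism over `U` becomes an open immersion. -/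
theorem exists_strictTransform_openImmersion {X S : Scheme.{u}} [CompactSpace S] [QuasiSeparatedSpace S]
    (φ : X ⟶ S) [IsSeparated φ] [LocallyOfFiniteType φ] [QuasiCompact φ] (U : S.Opens) (hU : IsCompact (U : Set S))
    [IsIso (φ ∣_ U)] :
    ∃ (J : S.IdealSheafData) (S' : Scheme.{u}) (c : S' ⟶ S) (W : S'.Opens) (g : (W : Scheme.{u}) ⟶ X),
      BlowUp.IsBlowUp c J ∧ BlowUp.IsAdmissibleFor U J ∧ c ⁻¹ᵁ U ≤ W ∧ (IsProper φ → W = ⊤) ∧
      ∀ (X' : Scheme.{u}) (p₁ : X' ⟶ X) (p₂ : X' ⟶ S'), IsPullback p₁ p₂ φ c →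
        ∀ (𝒥 : X'.IdealSheafData),
          (∀ (D : X'.affineOpens) (a : Γ(X', D.1)), a ∈ 𝒥.ideal D ↔
            BlowUp.KilledByPowerNear ((J.comap φ).comap p₁) (Coh.structureModule X') D a) →
          ∃ e : 𝒥.subscheme ≅ (W : Scheme.{u}), e.hom ≫ W.ι = 𝒥.subschemeι ≫ p₂ := by
  obtain ⟨J, S', c, W, g, hc, hJ, hJs, hle, -, hgf, hg, hgp, hWtop⟩ :=
    exists_modification φ U U le_rfl hU hU subset_closure le_rfl
  refine ⟨J, S', c, W, g, hc, hJ, hle, hWtop, fun X' p₁ p₂ hPB 𝒥 h𝒥 => ?_⟩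
  have := isProper_of_isBlowUp hJ.1 hc
  have : IsProper p₁ := MorphismProperty.of_isPullback hPB.flip ‹_›
  set l := hPB.lift g W.ι hgf
  have : IsImmersion (l ≫ p₂) := by rw [IsPullback.lift_snd]; infer_instance
  have : IsImmersion l := IsImmersion.of_comp l p₂
  have : IsProper (l ≫ p₁) := by rw [IsPullback.lift_fst]; exact hgp
  have : IsProper l := IsProper.of_comp l p₁
  have : IsClosedImmersion l := .of_isPreimmersion _ l.isClosedMap.isClosed_range
  obtain rfl : 𝒥 = l.ker := by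
    ext D a
    refine (h𝒥 D a).trans (mem_ker_iff_killed hPB (U := U) hJ.1 hgf hg.1 D (fun x _ hx => ?_) a).symm
    rw [hJs] at hx
    refine ⟨hle (show c (p₂ x) ∈ U from ?_), not_not.mp hx⟩
    rw [← Scheme.Hom.comp_apply, ← hPB.w]
    exact not_not.mp hx
  refine ⟨(asIso l.toImage).symm, ?_⟩
  rw [Iso.symm_hom, asIso_inv, IsIso.inv_comp_eq]
  show W.ι = l.toImage ≫ l.imageι ≫ p₂
  rw [Scheme.Hom.toImage_imageι_assoc, IsPullback.lift_snd]

end GrothLib.Nagata6
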