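import Groth.Agent.Lib.Nagata6.Modification
import Groth.Agent.Lib.Nagata6.ExtendIdeal

/-!
# Two modifications become open simultaneously after blowing up
-/

universe u

open CategoryTheory Limits AlgebraicGeometry Opposite TopologicalSpace

namespace GrothLib.Nagata6

/-- The morphism is an isomorphism above the image of an open on which it is an open immersion and
which is the full preimage of that image. -/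
theorem isIso_restrict_image {Z Y : Scheme.{u}} (π : Z ⟶ Y) (O : Z.Opens) [IsOpenImmersion (O.ι ≫ π)]
    (h : π ⁻¹ᵁ (O.ι ≫ π).opensRange ≤ O) : IsIso (π ∣_ (O.ι ≫ π).opensRange) := by
  let U := (O.ι ≫ π).opensRange
  have heq : π ⁻¹ᵁ U = O := le_antisymm h fun x hx => ⟨⟨x, hx⟩, rfl⟩
  have : π ∣_ U = Z.homOfLE heq.le ≫ (O.ι ≫ π).isoOpensRange.hom := by
    rw [← cancel_mono U.ι, morphismRestrict_ι, Category.assoc,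
      Scheme.Hom.isoOpensRange_hom_ι, reassoc_of% Scheme.homOfLE_ι]
  have hh : IsIso (Z.homOfLE heq.le) :=
    ⟨Z.homOfLE heq.ge, by simp, by simp⟩
  rw [this]
  infer_instance

/-- Open blow-up of one modification, with a further ideal pulled back from the source. -/
theorem exists_open_blowUp {Z Y : Scheme.{u}} [CompactSpace Z] [CompactSpace Y] [QuasiSeparatedSpace Y]
    (π : Z ⟶ Y) (O : Z.Opens) (U V : Y.Opens) (hV : IsCompact (V : Set Y)) (hOV : π ⁻¹ᵁ V ≤ O)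
    {J : Y.IdealSheafData} {Y₀ : Scheme.{u}} {c : Y₀ ⟶ Y} {W : Y₀.Opens} {g : (W : Scheme.{u}) ⟶ Z}
    (hc : BlowUp.IsBlowUp c J) (hJ : BlowUp.IsAdmissibleFor V J)
    (hJs : (J.support : Set Y) = (V : Set Y)ᶜ) (hle : c ⁻¹ᵁ U ≤ W) (hgf : g ≫ π = W.ι ≫ c)
    (hg : BlowUp.IsBlowUp g (J.comap π)) [IsProper g]
    (K : Z.IdealSheafData) (hK : BlowUp.IsAdmissibleFor O K) :
    ∃ (P : Y.IdealSheafData) (Y' : Scheme.{u}) (c' : Y' ⟶ Y) (W' : Y'.Opens)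
      (g' : (W' : Scheme.{u}) ⟶ Z),
      BlowUp.IsBlowUp c' P ∧ BlowUp.IsAdmissibleFor V P ∧ (P.support : Set Y) = (V : Set Y)ᶜ ∧
      c' ⁻¹ᵁ U ≤ W' ∧ g' ≫ π = W'.ι ≫ c' ∧ BlowUp.IsBlowUp g' (J.comap π * K) := by
  have hcP := isProper_of_isBlowUp hJ.1 hc
  have : CompactSpace Y₀ := QuasiCompact.compactSpace_of_compactSpace c
  have : QuasiSeparatedSpace Y₀ := quasiSeparatedSpace_of_quasiSeparated c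
  have : CompactSpace (W : Scheme.{u}) := QuasiCompact.compactSpace_of_compactSpace g
  have hWc : IsCompact (W : Set Y₀) := isCompact_iff_compactSpace.mpr ‹_›
  have hVc : IsCompact ((c ⁻¹ᵁ V : Y₀.Opens) : Set Y₀) := c.isCompact_preimage hV
  have hadm : BlowUp.IsAdmissibleFor (W.ι ⁻¹ᵁ (c ⁻¹ᵁ V)) (K.comap g) :=
    isAdmissibleFor_comap hK g (fun x hx => hOV (by
      show π (g x) ∈ V
      rw [← Scheme.Hom.comp_apply, hgf]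
      exact hx))
  obtain ⟨L, hL, hLW⟩ := exists_extension (c ⁻¹ᵁ V) W hVc hWc (K.comap g) hadm
  obtain ⟨Y', b', hb'⟩ := GrothLib.BlowUp.exists_isBlowUp Y₀ L
  obtain ⟨P, hP, hPs, hPb⟩ := exists_isBlowUp_comp hJ.1 hc hL.1 hb'
  have hPs' : (P.support : Set Y) = (V : Set Y)ᶜ := by
    rw [hPs, hJs, Set.union_eq_left]
    rintro _ ⟨x, hx, rfl⟩ hxV
    exact Set.disjoint_left.mp hL.2 hx hxV
  refine ⟨P, Y', b' ≫ c, b' ⁻¹ᵁ W, (b' ∣_ W) ≫ g, hPb,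
    ⟨hP, by rw [hPs']; exact disjoint_compl_left⟩, hPs', fun x hx => hle hx, ?_,
    GrothLib.BlowUp.isBlowUp_comp_mul hg (hLW ▸ isBlowUp_restrict hb' W)⟩
  rw [Category.assoc, hgf, morphismRestrict_ι_assoc]

/-- Two modifications of quasi-compact quasi-separated schemes are simultaneously open in blow-ups. -/
theorem exists_two_open {Z Y₁ Y₂ : Scheme.{u}} [CompactSpace Z]
    [CompactSpace Y₁] [QuasiSeparatedSpace Y₁] [CompactSpace Y₂] [QuasiSeparatedSpace Y₂]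
    (π₁ : Z ⟶ Y₁) (π₂ : Z ⟶ Y₂)
    [IsSeparated π₁] [QuasiCompact π₁] [LocallyOfFiniteType π₁]
    [IsSeparated π₂] [QuasiCompact π₂] [LocallyOfFiniteType π₂]
    (O : Z.Opens) (hO : IsCompact (O : Set Z)) [IsOpenImmersion (O.ι ≫ π₁)] [IsOpenImmersion (O.ι ≫ π₂)]
    (V₁ : Y₁.Opens) (V₂ : Y₂.Opens) (hV₁ : IsCompact (V₁ : Set Y₁)) (hV₂ : IsCompact (V₂ : Set Y₂))
    (hOV₁ : O ≤ π₁ ⁻¹ᵁ V₁) (hOV₂ : O ≤ π₂ ⁻¹ᵁ V₂) (hVO₁ : π₁ ⁻¹ᵁ V₁ ≤ O) (hVO₂ : π₂ ⁻¹ᵁ V₂ ≤ O)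
    (hd₁ : (V₁ : Set Y₁) ⊆ closure (π₁ '' (O : Set Z))) (hd₂ : (V₂ : Set Y₂) ⊆ closure (π₂ '' (O : Set Z))) :
    ∃ (P₁ : Y₁.IdealSheafData) (P₂ : Y₂.IdealSheafData) (Q : Z.IdealSheafData)
      (Zt Y₁' Y₂' : Scheme.{u}) (b : Zt ⟶ Z) (c₁ : Y₁' ⟶ Y₁) (c₂ : Y₂' ⟶ Y₂) (j₁ : Zt ⟶ Y₁') (j₂ : Zt ⟶ Y₂'),
      BlowUp.IsBlowUp b Q ∧ BlowUp.IsAdmissibleFor O Q ∧
      BlowUp.IsBlowUp c₁ P₁ ∧ BlowUp.IsAdmissibleFor V₁ P₁ ∧ (P₁.support : Set Y₁) = (V₁ : Set Y₁)ᶜ ∧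
      BlowUp.IsBlowUp c₂ P₂ ∧ BlowUp.IsAdmissibleFor V₂ P₂ ∧ (P₂.support : Set Y₂) = (V₂ : Set Y₂)ᶜ ∧
      IsOpenImmersion j₁ ∧ IsOpenImmersion j₂ ∧ j₁ ≫ c₁ = b ≫ π₁ ∧ j₂ ≫ c₂ = b ≫ π₂ ∧
      (∀ y, c₁ y ∈ π₁ '' (O : Set Z) → y ∈ Set.range j₁) ∧
      (∀ y, c₂ y ∈ π₂ '' (O : Set Z) → y ∈ Set.range j₂) := by
  have hr : ∀ {Y : Scheme.{u}} (π : Z ⟶ Y) [IsOpenImmersion (O.ι ≫ π)],
      ((O.ι ≫ π).opensRange : Set Y) = π '' (O : Set Z) := fun π _ => by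
    rw [Scheme.Hom.coe_opensRange, Scheme.Hom.comp_base, TopCat.coe_comp, Set.range_comp,
      Scheme.Opens.range_ι]
  let U₁ := (O.ι ≫ π₁).opensRange
  let U₂ := (O.ι ≫ π₂).opensRange
  have hUV₁ : U₁ ≤ V₁ := fun y hy => by
    obtain ⟨x, hx, rfl⟩ := (hr π₁).le hy
    exact hOV₁ hx
  have hUV₂ : U₂ ≤ V₂ := fun y hy => by
    obtain ⟨x, hx, rfl⟩ := (hr π₂).le hy
    exact hOV₂ hx
  have hU₁ : IsCompact (U₁ : Set Y₁) := by rw [hr π₁]; exact hO.image π₁.continuous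
  have hU₂ : IsCompact (U₂ : Set Y₂) := by rw [hr π₂]; exact hO.image π₂.continuous
  have hp₁ : π₁ ⁻¹ᵁ U₁ ≤ O := fun x hx => hVO₁ (hUV₁ hx)
  have hp₂ : π₂ ⁻¹ᵁ U₂ ≤ O := fun x hx => hVO₂ (hUV₂ hx)
  have := isIso_restrict_image π₁ O hp₁
  have := isIso_restrict_image π₂ O hp₂
  obtain ⟨J₁, Y₁₀, d₁, W₁, g₁, hd₁', hJ₁, hJ₁s, hle₁, -, hgf₁, hg₁, hgp₁, -⟩ :=
    exists_modification π₁ U₁ V₁ hUV₁ hU₁ hV₁ ((hr π₁).symm ▸ hd₁)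
      (fun x hx => ((hr π₁).ge ⟨x, hVO₁ hx, rfl⟩ : π₁ x ∈ U₁))
  obtain ⟨J₂, Y₂₀, d₂, W₂, g₂, hd₂', hJ₂, hJ₂s, hle₂, -, hgf₂, hg₂, hgp₂, -⟩ :=
    exists_modification π₂ U₂ V₂ hUV₂ hU₂ hV₂ ((hr π₂).symm ▸ hd₂)
      (fun x hx => ((hr π₂).ge ⟨x, hVO₂ hx, rfl⟩ : π₂ x ∈ U₂))
  have hK₁ := isAdmissibleFor_comap hJ₁ π₁ hOV₁
  have hK₂ := isAdmissibleFor_comap hJ₂ π₂ hOV₂
  obtain ⟨P₁, Y₁', c₁, A₁, a₁, hc₁, hP₁, hP₁s, hA₁, ha₁, hb₁⟩ :=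
    exists_open_blowUp π₁ O U₁ V₁ hV₁ hVO₁ hd₁' hJ₁ hJ₁s hle₁ hgf₁ hg₁ (J₂.comap π₂) hK₂
  obtain ⟨P₂, Y₂', c₂, A₂, a₂, hc₂, hP₂, hP₂s, hA₂, ha₂, hb₂⟩ :=
    exists_open_blowUp π₂ O U₂ V₂ hV₂ hVO₂ hd₂' hJ₂ hJ₂s hle₂ hgf₂ hg₂ (J₁.comap π₁) hK₁
  rw [mul_comm] at hb₂
  obtain ⟨e, he⟩ := GrothLib.BlowUp.exists_iso_of_isBlowUp hb₁ hb₂
  refine ⟨P₁, P₂, J₁.comap π₁ * J₂.comap π₂, A₁, Y₁', Y₂', a₁, c₁, c₂, A₁.ι, e.hom ≫ A₂.ι,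
    hb₁, ⟨fun W => ?_, ?_⟩, hc₁, hP₁, hP₁s, hc₂, hP₂, hP₂s, inferInstance, inferInstance, ha₁.symm,
    ?_, fun y hy => ?_, fun y hy => ?_⟩
  · rw [Scheme.IdealSheafData.ideal_mul, Pi.mul_apply]
    exact Submodule.FG.mul (hK₁.1 W) (hK₂.1 W)
  · rw [Scheme.IdealSheafData.support_mul]
    exact hK₁.2.union_left hK₂.2
  · rw [Category.assoc, ← ha₂, reassoc_of% he]
  · rw [Scheme.Opens.range_ι]
    exact hA₁ ((hr π₁).ge hy)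
  · rw [Scheme.Hom.comp_base, TopCat.coe_comp, Set.range_comp,
      show Set.range e.hom = Set.univ from Set.range_eq_univ.mpr e.hom.homeomorph.surjective, Set.image_univ, Scheme.Opens.range_ι]
    exact hA₂ ((hr π₂).ge hy)

end GrothLib.Nagata6

namespace GrothLib.Nagata6

theorem isOpenImmersion_of_le_iso {Z Y : Scheme.{u}} (π : Z ⟶ Y) (O : Z.Opens) (U : Y.Opens)
    (h : O ≤ π ⁻¹ᵁ U) [IsIso (π ∣_ U)] : IsOpenImmersion (O.ι ≫ π) := by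
  rw [← Scheme.homOfLE_ι Z h, Category.assoc, ← morphismRestrict_ι]
  infer_instance

theorem preimage_image_le {Z Y : Scheme.{u}} (π : Z ⟶ Y) (O : Z.Opens) (U : Y.Opens)
    (h : O ≤ π ⁻¹ᵁ U) [IsIso (π ∣_ U)] [IsOpenImmersion (O.ι ≫ π)] :
    π ⁻¹ᵁ (O.ι ≫ π).opensRange ≤ O := by
  rintro x ⟨y, hy⟩
  rw [Scheme.Hom.comp_apply] at hy
  have hxU : π x ∈ U := hy ▸ h y.2
  have : (π ∣_ U) ⟨x, hxU⟩ = (π ∣_ U) ⟨y.1, h y.2⟩ := by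
    apply U.ι.isOpenEmbedding.injective
    rw [← Scheme.Hom.comp_apply, ← Scheme.Hom.comp_apply, morphismRestrict_ι]
    exact hy.symm
  have := congrArg Subtype.val ((π ∣_ U).homeomorph.injective this)
  exact (show x = y.1 from this) ▸ y.2

/-- Two birational morphisms. -/
theorem exists_two_birational {Z Y₁ Y₂ : Scheme.{u}} [CompactSpace Z] [QuasiSeparatedSpace Z]
    [CompactSpace Y₁] [QuasiSeparatedSpace Y₁] [CompactSpace Y₂] [QuasiSeparatedSpace Y₂]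
    (π₁ : Z ⟶ Y₁) (π₂ : Z ⟶ Y₂)
    [IsSeparated π₁] [QuasiCompact π₁] [LocallyOfFiniteType π₁]
    [IsSeparated π₂] [QuasiCompact π₂] [LocallyOfFiniteType π₂]
    (U₁ : Y₁.Opens) (U₂ : Y₂.Opens) (hU₁ : IsCompact (U₁ : Set Y₁)) (hU₂ : IsCompact (U₂ : Set Y₂))
    [IsIso (π₁ ∣_ U₁)] [IsIso (π₂ ∣_ U₂)] :
    ∃ (𝓘 : Z.IdealSheafData) (𝓙₁ : Y₁.IdealSheafData) (𝓙₂ : Y₂.IdealSheafData)
      (Xt Yt₁ Yt₂ : Scheme.{u}) (b : Xt ⟶ Z) (c₁ : Yt₁ ⟶ Y₁) (c₂ : Yt₂ ⟶ Y₂) (j₁ : Xt ⟶ Yt₁) (j₂ : Xt ⟶ Yt₂),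
      BlowUp.IsBlowUp b 𝓘 ∧ BlowUp.IsAdmissibleFor (π₁ ⁻¹ᵁ U₁ ⊓ π₂ ⁻¹ᵁ U₂) 𝓘 ∧
      BlowUp.IsBlowUp c₁ 𝓙₁ ∧ BlowUp.IsFiniteTypeIdeal 𝓙₁ ∧
        Disjoint (𝓙₁.support : Set Y₁) ((fun x => π₁ x) '' ((π₁ ⁻¹ᵁ U₁ ⊓ π₂ ⁻¹ᵁ U₂ : Z.Opens) : Set Z)) ∧
      BlowUp.IsBlowUp c₂ 𝓙₂ ∧ BlowUp.IsFiniteTypeIdeal 𝓙₂ ∧
        Disjoint (𝓙₂.support : Set Y₂) ((fun x => π₂ x) '' ((π₁ ⁻¹ᵁ U₁ ⊓ π₂ ⁻¹ᵁ U₂ : Z.Opens) : Set Z)) ∧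
      IsOpenImmersion j₁ ∧ IsOpenImmersion j₂ ∧ j₁ ≫ c₁ = b ≫ π₁ ∧ j₂ ≫ c₂ = b ≫ π₂ := by
  let O := π₁ ⁻¹ᵁ U₁ ⊓ π₂ ⁻¹ᵁ U₂
  have hO : IsCompact (O : Set Z) :=
    (π₁.isCompact_preimage hU₁).inter_of_isOpen (π₂.isCompact_preimage hU₂) (π₁ ⁻¹ᵁ U₁).2 (π₂ ⁻¹ᵁ U₂).2
  have := isOpenImmersion_of_le_iso π₁ O U₁ inf_le_left
  have := isOpenImmersion_of_le_iso π₂ O U₂ inf_le_right
  let V₁ := (O.ι ≫ π₁).opensRange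
  let V₂ := (O.ι ≫ π₂).opensRange
  have e₁ : (V₁ : Set Y₁) = π₁ '' (O : Set Z) := by
    rw [Scheme.Hom.coe_opensRange, Scheme.Hom.comp_base, TopCat.coe_comp, Set.range_comp, Scheme.Opens.range_ι]
  have e₂ : (V₂ : Set Y₂) = π₂ '' (O : Set Z) := by
    rw [Scheme.Hom.coe_opensRange, Scheme.Hom.comp_base, TopCat.coe_comp, Set.range_comp, Scheme.Opens.range_ι]
  obtain ⟨P₁, P₂, Q, Zt, A, B, b, c₁, c₂, j₁, j₂, hb, hQ, hc₁, hP₁, -, hc₂, hP₂, -, hj₁, hj₂, h₁, h₂, -, -⟩ :=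
    exists_two_open π₁ π₂ O hO V₁ V₂ (e₁ ▸ hO.image π₁.continuous) (e₂ ▸ hO.image π₂.continuous)
      (fun x hx => e₁.ge ⟨x, hx, rfl⟩) (fun x hx => e₂.ge ⟨x, hx, rfl⟩)
      (preimage_image_le π₁ O U₁ inf_le_left) (preimage_image_le π₂ O U₂ inf_le_right)
      (e₁ ▸ subset_closure) (e₂ ▸ subset_closure)
  exact ⟨Q, P₁, P₂, Zt, A, B, b, c₁, c₂, j₁, j₂, hb, hQ, hc₁, hP₁.1, e₁ ▸ hP₁.2, hc₂, hP₂.1,
    e₂ ▸ hP₂.2, hj₁, hj₂, h₁, h₂⟩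

end GrothLib.Nagata6
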