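import Groth.Agent.Lib.Nagata6.UnionData
import Groth.Agent.Lib.Nagata6.ExtendIdeal
import Groth.Agent.Lib.FgSupport6.Separate

/-!
# Separating the bad loci of two compactifications
-/

universe u

open CategoryTheory Limits AlgebraicGeometry Opposite TopologicalSpace

namespace GrothLib.Nagata6

variable {U S : Scheme.{u}} {g : U ⟶ S} {O O' Ω : U.Opens}

/-- The map of a smaller open into a dominating compactification. -/
noncomputable def Dominating.κ (D : Dominating g O) (h : Ω ≤ O) : (Ω : Scheme.{u}) ⟶ D.Y :=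
  U.homOfLE h ≫ D.j ≫ D.V.ι

theorem Dominating.κ_p (D : Dominating g O) (h : Ω ≤ O) : D.κ h ≫ D.p = Ω.ι ≫ g := by
  rw [Dominating.κ, Category.assoc, Category.assoc, ← D.hg, reassoc_of% D.hj, Scheme.homOfLE_ι_assoc]

theorem Dominating.κ_mem (D : Dominating g O) (h : Ω ≤ O) (x : Ω) : D.κ h x ∈ D.V := by
  rw [Dominating.κ, Scheme.Hom.comp_apply, Scheme.Hom.comp_apply]
  exact (D.j (U.homOfLE h x)).2

/-- The graph of an open in two compactifications. -/
noncomputable def pairMap (D : Dominating g O) (D' : Dominating g O') (h : Ω ≤ O) (h' : Ω ≤ O') :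
    (Ω : Scheme.{u}) ⟶ pullback D.p D'.p :=
  pullback.lift (D.κ h) (D'.κ h') (by rw [D.κ_p, D'.κ_p])

/-- The closure of the complement of `W` in a dominating compactification. -/
def Dominating.bad (D : Dominating g O) (W : U.Opens) : Set D.Y :=
  closure (D.V.ι '' (D.h ⁻¹' (W : Set U)ᶜ))

theorem Dominating.mem_bad (D : Dominating g O) (W : U.Opens) (v : D.V) :
    D.V.ι v ∈ D.bad W ↔ D.h v ∉ W := by
  constructor
  · intro hv
    have hc : IsClosed (D.h ⁻¹' (W : Set U)ᶜ) := W.2.isClosed_compl.preimage D.h.continuous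
    have h1 : v ∈ closure (D.h ⁻¹' (W : Set U)ᶜ) := by
      rw [D.V.ι.isOpenEmbedding.isInducing.closure_eq_preimage_closure_image]
      exact hv
    rwa [hc.closure_eq] at h1
  · exact fun hv => subset_closure ⟨v, hv, rfl⟩

theorem exists_snd_of_fst_mem [IsSeparated g] (D : Dominating g O) (D' : Dominating g O') (h : Ω ≤ O) (h' : Ω ≤ O')
    (w : (pullback D.p D'.p : Scheme.{u})) (hw : w ∈ closure (Set.range (pairMap D D' h h')))
    (v : D.V) (hv : D.V.ι v = pullback.fst D.p D'.p w) :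
    ∃ v' : D'.V, D'.V.ι v' = pullback.snd D.p D'.p w ∧ D'.h v' = D.h v := by
  let P := (pullback D.p D'.p : Scheme.{u})
  let N : P.Opens := pullback.fst D.p D'.p ⁻¹ᵁ D.V
  let a : (N : Scheme.{u}) ⟶ (D.V : Scheme.{u}) := IsOpenImmersion.lift D.V.ι (N.ι ≫ pullback.fst D.p D'.p) (by
    rintro _ ⟨x, rfl⟩
    rw [Scheme.Opens.range_ι]
    exact x.2)
  have ha : a ≫ D.V.ι = N.ι ≫ pullback.fst D.p D'.p := IsOpenImmersion.lift_fac _ _ _
  let Ψ : (N : Scheme.{u}) ⟶ pullback g D'.p := pullback.lift (a ≫ D.h) (N.ι ≫ pullback.snd D.p D'.p) (by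
    rw [Category.assoc, D.hg, reassoc_of% ha, pullback.condition, Category.assoc])
  let Γ : (D'.V : Scheme.{u}) ⟶ pullback g D'.p := pullback.lift D'.h D'.V.ι D'.hg
  have : IsProper (Γ ≫ pullback.fst g D'.p) := by rw [pullback.lift_fst]; infer_instance
  have : IsProper Γ := IsProper.of_comp Γ (pullback.fst g D'.p)
  let l := pairMap D D' h h'
  have hlN : ∀ x, l x ∈ N := fun x => by
    show pullback.fst D.p D'.p (l x) ∈ D.V
    rw [← Scheme.Hom.comp_apply, show l ≫ pullback.fst D.p D'.p = D.κ h from pullback.lift_fst _ _ _]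
    exact D.κ_mem h x
  let l₀ : (Ω : Scheme.{u}) ⟶ (N : Scheme.{u}) := IsOpenImmersion.lift N.ι l (by
    rintro _ ⟨x, rfl⟩
    rw [Scheme.Opens.range_ι]
    exact hlN x)
  have hl₀ : l₀ ≫ N.ι = l := IsOpenImmersion.lift_fac _ _ _
  have hl₀a : l₀ ≫ a = U.homOfLE h ≫ D.j := by
    rw [← cancel_mono D.V.ι, Category.assoc, ha, reassoc_of% hl₀]
    rw [show l ≫ pullback.fst D.p D'.p = D.κ h from pullback.lift_fst _ _ _, Dominating.κ, Category.assoc]
  have hΨ : l₀ ≫ Ψ = (U.homOfLE h' ≫ D'.j) ≫ Γ := by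
    refine pullback.hom_ext ?_ ?_
    · simp only [Ψ, Γ, Category.assoc, pullback.lift_fst, D'.hj, Scheme.homOfLE_ι, reassoc_of% hl₀a, D.hj]
    · simp only [Ψ, Γ, Category.assoc, pullback.lift_snd, reassoc_of% hl₀]
      rw [show l ≫ pullback.snd D.p D'.p = D'.κ h' from pullback.lift_snd _ _ _]
      rfl
  have hwN : w ∈ N := by
    show pullback.fst D.p D'.p w ∈ D.V
    rw [← hv]
    exact v.2
  have hw₀ : (⟨w, hwN⟩ : (N : Scheme.{u})) ∈ closure (Set.range l₀) := by
    rw [N.ι.isOpenEmbedding.isInducing.closure_eq_preimage_closure_image]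
    show w ∈ closure _
    rw [← Set.range_comp, ← TopCat.coe_comp, ← Scheme.Hom.comp_base, hl₀]
    exact hw
  have h1 : Ψ ⟨w, hwN⟩ ∈ closure (Set.range Γ) := by
    refine closure_mono ?_ (image_closure_subset_closure_image Ψ.continuous ⟨_, hw₀, rfl⟩)
    rintro _ ⟨_, ⟨x, rfl⟩, rfl⟩
    refine ⟨(U.homOfLE h' ≫ D'.j) x, ?_⟩
    rw [← Scheme.Hom.comp_apply, ← hΨ]
    rfl
  rw [Γ.isClosedMap.isClosed_range.closure_eq] at h1
  obtain ⟨v', hv'⟩ := h1
  refine ⟨v', ?_, ?_⟩
  · have := congrArg (pullback.snd g D'.p) hv'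
    rw [← Scheme.Hom.comp_apply, ← Scheme.Hom.comp_apply, pullback.lift_snd, pullback.lift_snd] at this
    exact this
  · have := congrArg (pullback.fst g D'.p) hv'
    rw [← Scheme.Hom.comp_apply, ← Scheme.Hom.comp_apply, pullback.lift_fst, pullback.lift_fst] at this
    rw [this, Scheme.Hom.comp_apply]
    congr 1
    apply D.V.ι.isOpenEmbedding.injective
    rw [← Scheme.Hom.comp_apply, ha, hv]
    rfl

theorem exists_fst_of_snd_mem [IsSeparated g] (D : Dominating g O) (D' : Dominating g O') (h : Ω ≤ O) (h' : Ω ≤ O')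
    (w : (pullback D.p D'.p : Scheme.{u})) (hw : w ∈ closure (Set.range (pairMap D D' h h')))
    (v' : D'.V) (hv : D'.V.ι v' = pullback.snd D.p D'.p w) :
    ∃ v : D.V, D.V.ι v = pullback.fst D.p D'.p w ∧ D.h v = D'.h v' := by
  let e := (pullbackSymmetry D.p D'.p).hom
  have he : pairMap D D' h h' ≫ e = pairMap D' D h' h := by
    refine pullback.hom_ext ?_ ?_ <;> simp only [e, pairMap, Category.assoc, pullback.lift_fst, pullback.lift_snd,
      pullbackSymmetry_hom_comp_fst, pullbackSymmetry_hom_comp_snd]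
  obtain ⟨v, h1, h2⟩ := exists_snd_of_fst_mem D' D h' h (e w) (by
    rw [← he, Scheme.Hom.comp_base, TopCat.coe_comp, Set.range_comp]
    exact image_closure_subset_closure_image e.continuous ⟨w, hw, rfl⟩) v' (by
    rw [← Scheme.Hom.comp_apply, pullbackSymmetry_hom_comp_fst, hv])
  refine ⟨v, ?_, h2⟩
  rw [h1, ← Scheme.Hom.comp_apply, pullbackSymmetry_hom_comp_snd]

/-- First blow-up: the two bad loci become disjoint. -/
theorem exists_bad_disjoint [IsNoetherian S] (D : Dominating g O) (hcov : O ⊔ O' = ⊤) :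
    ∃ D' : Dominating g O, Disjoint (D'.bad O) (D'.bad O') := by
  let I₁ := Scheme.IdealSheafData.vanishingIdeal (X := D.Y) ⟨D.bad O, isClosed_closure⟩
  let I₂ := Scheme.IdealSheafData.vanishingIdeal (X := D.Y) ⟨D.bad O', isClosed_closure⟩
  have hdis : Disjoint ((I₁ ⊔ I₂).support : Set D.Y) (D.V : Set D.Y) := by
    rw [Scheme.IdealSheafData.support_sup, Set.disjoint_left]
    rintro x ⟨h₁, h₂⟩ hxV
    rw [Scheme.IdealSheafData.coe_support_vanishingIdeal] at h₁ h₂
    have h₁' := (D.mem_bad O ⟨x, hxV⟩).mp h₁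
    have h₂' := (D.mem_bad O' ⟨x, hxV⟩).mp h₂
    have : D.h ⟨x, hxV⟩ ∈ O ⊔ O' := by rw [hcov]; trivial
    exact this.elim h₁' h₂'
  obtain ⟨D', c, hc, -, hV, hh⟩ := D.exists_blowUp (I₁ ⊔ I₂) hdis
  refine ⟨D', ?_⟩
  have key : ∀ W : U.Opens, D'.bad W ⊆ closure (c ⁻¹' (D.V.ι '' (D.h ⁻¹' (W : Set U)ᶜ))) := by
    intro W
    refine closure_mono ?_
    rintro _ ⟨v, hv, rfl⟩
    refine ⟨(D'.Y.homOfLE hV.le ≫ (c ∣_ D.V)) v, ?_, ?_⟩
    · rw [Set.mem_preimage, ← Scheme.Hom.comp_apply, hh]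
      exact hv
    · rw [← Scheme.Hom.comp_apply, Category.assoc, morphismRestrict_ι, Scheme.homOfLE_ι_assoc]
      rfl
  refine (FgSupport6.disjoint_closure c I₁ I₂ hc.1 _ _ ?_ ?_ ?_ ?_).mono (key O) (key O')
  · rw [Scheme.IdealSheafData.coe_support_vanishingIdeal]; exact subset_closure
  · rw [Scheme.IdealSheafData.coe_support_vanishingIdeal]; exact subset_closure
  · refine hdis.symm.mono_left ?_
    rintro _ ⟨v, -, rfl⟩
    exact v.2
  · refine hdis.symm.mono_left ?_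
    rintro _ ⟨v, -, rfl⟩
    exact v.2

/-- The centre of the second blow-up. -/
theorem exists_center [IsNoetherian S] [IsSeparated g] (D₁ : Dominating g O) (D₂ : Dominating g O') (h : Ω ≤ O) (h' : Ω ≤ O') :
    ∃ (A : D₂.Y.IdealSheafData) (G : Scheme.{u}) (i : G ⟶ pullback D₁.p D₂.p),
      Disjoint (A.support : Set D₂.Y) (D₂.V : Set D₂.Y) ∧ IsImmersion i ∧
      Scheme.IdealSheafData.vanishingIdeal (X := D₂.Y) ⟨D₂.bad O', isClosed_closure⟩ ≤ A ∧
      A.comap (i ≫ pullback.snd D₁.p D₂.p) =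
        (Scheme.IdealSheafData.vanishingIdeal (X := D₂.Y) ⟨D₂.bad O', isClosed_closure⟩).comap
          (i ≫ pullback.snd D₁.p D₂.p) ∧
      Set.range i = closure (Set.range (pairMap D₁ D₂ h h')) ∩
        pullback.fst D₁.p D₂.p ⁻¹' (D₁.bad O')ᶜ := by
  let P := (pullback D₁.p D₂.p : Scheme.{u})
  have := LocallyOfFiniteType.isLocallyNoetherian D₁.p
  have := LocallyOfFiniteType.isLocallyNoetherian D₂.p
  have : CompactSpace D₁.Y := QuasiCompact.compactSpace_of_compactSpace D₁.p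
  have : CompactSpace D₂.Y := QuasiCompact.compactSpace_of_compactSpace D₂.p
  have : IsNoetherian P := isNoetherian_of_ft (pullback.fst D₁.p D₂.p ≫ D₁.p)
  let IZ := Scheme.IdealSheafData.vanishingIdeal (X := P) ⟨closure (Set.range (pairMap D₁ D₂ h h')), isClosed_closure⟩
  let GO : IZ.subscheme.Opens := (IZ.subschemeι ≫ pullback.fst D₁.p D₂.p) ⁻¹ᵁ ⟨(D₁.bad O')ᶜ, isClosed_closure.isOpen_compl⟩
  let i : (GO : Scheme.{u}) ⟶ P := GO.ι ≫ IZ.subschemeι
  let IF := Scheme.IdealSheafData.vanishingIdeal (X := D₂.Y) ⟨D₂.bad O', isClosed_closure⟩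
  let p₀ := i ≫ pullback.snd D₁.p D₂.p
  have hrange : Set.range i = closure (Set.range (pairMap D₁ D₂ h h')) ∩
      pullback.fst D₁.p D₂.p ⁻¹' (D₁.bad O')ᶜ := by
    rw [Scheme.Hom.comp_base, TopCat.coe_comp, Set.range_comp, Scheme.Opens.range_ι]
    rw [show (GO : Set IZ.subscheme) = IZ.subschemeι ⁻¹' (pullback.fst D₁.p D₂.p ⁻¹' (D₁.bad O')ᶜ) from rfl,
      Set.image_preimage_eq_range_inter, Scheme.IdealSheafData.range_subschemeι,
      Scheme.IdealSheafData.coe_support_vanishingIdeal]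
    rfl
  have : IsNoetherian (GO : Scheme.{u}) := by
    have := LocallyOfFiniteType.isLocallyNoetherian i
    have : CompactSpace IZ.subscheme := QuasiCompact.compactSpace_of_compactSpace IZ.subschemeι
    have := LocallyOfFiniteType.isLocallyNoetherian IZ.subschemeι
    have : IsNoetherian IZ.subscheme := ⟨⟩
    have : CompactSpace (GO : Scheme.{u}) := isCompact_iff_compactSpace.mp (NoetherianSpace.isCompact _)
    exact ⟨⟩
  refine ⟨(IF.comap p₀).map p₀, GO, i, ?_, inferInstance,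
    Scheme.IdealSheafData.le_map_comap _ _, le_antisymm (Scheme.IdealSheafData.le_map_iff_comap_le.mp le_rfl)
      (Scheme.IdealSheafData.comap_mono _ (Scheme.IdealSheafData.le_map_comap _ _)), hrange⟩
  rw [Scheme.IdealSheafData.map, Scheme.Hom.support_ker, Set.disjoint_left]
  intro y hy hyV
  obtain ⟨y', hy', hy'r⟩ := mem_closure_iff.mp hy _ D₂.V.2 hyV
  obtain ⟨x, rfl⟩ := hy'r
  have hxF : p₀ ((IF.comap p₀).subschemeι x) ∈ D₂.bad O' := by
    have hx := (Scheme.IdealSheafData.range_subschemeι (IF.comap p₀)).le ⟨x, rfl⟩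
    rw [Scheme.IdealSheafData.support_comap] at hx
    have hx' : p₀ ((IF.comap p₀).subschemeι x) ∈ (IF.support : Set D₂.Y) := hx
    rwa [Scheme.IdealSheafData.coe_support_vanishingIdeal] at hx'
  set z := (IF.comap p₀).subschemeι x
  have hz : i z ∈ closure (Set.range (pairMap D₁ D₂ h h')) ∩ pullback.fst D₁.p D₂.p ⁻¹' (D₁.bad O')ᶜ :=
    hrange.le ⟨z, rfl⟩
  obtain ⟨v, hv, hvh⟩ := exists_fst_of_snd_mem D₁ D₂ h h' (i z) hz.1 ⟨p₀ z, hy'⟩ rfl
  apply hz.2
  rw [← hv]
  exact (D₁.mem_bad O' v).mpr (hvh ▸ (D₂.mem_bad O' ⟨p₀ z, hy'⟩).mp hxF)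

end GrothLib.Nagata6
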