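import Groth.Agent.Lib.Nagata6.UnionSeparate

/-!
# The second blow-up separates the bad loci over the closure of the overlap
-/

universe u

open CategoryTheory Limits AlgebraicGeometry Opposite TopologicalSpace

namespace GrothLib.Nagata6

open GrothLib.Thickening (res)

/-- Near a point of the strict transform of a closed set, its ideal is divisible by the exceptional
ideal with quotients vanishing at that point. -/
theorem exists_factor_vanishing {X X' : Scheme.{u}} (c : X' ⟶ X) (J A : X.IdealSheafData) (hJA : J ≤ A)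
    {W : X'.affineOpens} {e : Γ(X', W.1)} (hW : (A.comap c).ideal W = Ideal.span {e})
    (B : Set X) (hB : B ⊆ J.support) (hBA : Disjoint B (A.support : Set X))
    (y : X') (hy : y ∈ closure (c ⁻¹' B)) {f : Γ(X', W.1)} (hf : f ∈ (J.comap c).ideal W) :
    ∃ φ : Γ(X', W.1), f = φ * e ∧ y ∉ X'.basicOpen φ := by
  obtain ⟨φ, hφ⟩ := Ideal.mem_span_singleton'.mp (hW.le (Scheme.IdealSheafData.comap_mono c hJA W hf))
  refine ⟨φ, hφ.symm, fun hyφ => ?_⟩
  obtain ⟨x, hxφ, hxB⟩ := mem_closure_iff.mp hy _ (X'.basicOpen φ).2 hyφ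
  have hxW : x ∈ W.1 := X'.basicOpen_le φ hxφ
  have hsupp : x ∈ ((J.comap c).support : Set X') := by
    rw [Scheme.IdealSheafData.support_comap]; exact hB hxB
  have hxe : x ∈ X'.basicOpen e := by
    by_contra hne
    refine Set.disjoint_left.mp hBA hxB ?_
    have hz : x ∈ X'.zeroLocus (U := W.1) ((A.comap c).ideal W) := by
      rw [hW, Scheme.zeroLocus_span, Scheme.mem_zeroLocus_iff]
      rintro _ rfl
      exact hne
    have hx' : x ∈ ((A.comap c).support : Set X') :=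
      (Scheme.IdealSheafData.mem_support_iff_of_mem (U := W) hxW).mpr hz
    rw [Scheme.IdealSheafData.support_comap] at hx'
    exact hx'
  refine (Scheme.mem_zeroLocus_iff _ _ _).mp
    ((Scheme.IdealSheafData.mem_support_iff_of_mem (U := W) hxW).mp hsupp) _ hf ?_
  rw [← hφ, Scheme.basicOpen_mul]
  exact ⟨hxφ, hxe⟩

variable {U S : Scheme.{u}} {g : U ⟶ S} {O O' Ω : U.Opens}

theorem exists_pair_separated [IsNoetherian S] [IsSeparated g] (D₁ : Dominating g O) (D₂ : Dominating g O')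
    (hd : Disjoint (D₁.bad O) (D₁.bad O')) (h : Ω ≤ O) (h' : Ω ≤ O') :
    ∃ D₂' : Dominating g O', ∀ w ∈ closure (Set.range (pairMap D₁ D₂' h h')),
      pullback.fst D₁.p D₂'.p w ∈ D₁.bad O → pullback.snd D₁.p D₂'.p w ∉ D₂'.bad O' := by
  obtain ⟨A, G, i, hA, hi, hFA, hAF, hir⟩ := exists_center D₁ D₂ h h'
  obtain ⟨D₂', c, hc, hcp, hV, hh⟩ := D₂.exists_blowUp A hA
  refine ⟨D₂', fun w hw hw₁ hw₂ => ?_⟩
  let m : pullback D₁.p D₂'.p ⟶ pullback D₁.p D₂.p :=
    pullback.map _ _ _ _ (𝟙 _) c (𝟙 S) (by simp) (by simp [hcp])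
  have hκ : D₂'.κ h' ≫ c = D₂.κ h' := by
    let j' := D₂'.Y.homOfLE hV.le ≫ (c ∣_ D₂.V)
    have h1 : D₂'.j ≫ j' = D₂.j := by
      have hjh : (D₂'.j ≫ j') ≫ D₂.h = O'.ι := by rw [Category.assoc, hh, D₂'.hj]
      let t : (O' : Scheme.{u}) ⟶ (D₂.h ⁻¹ᵁ O' : Scheme.{u}) :=
        IsOpenImmersion.lift (D₂.h ⁻¹ᵁ O').ι (D₂'.j ≫ j') (by
          rintro _ ⟨x, rfl⟩
          rw [Scheme.Opens.range_ι]
          show D₂.h _ ∈ O'
          rw [← Scheme.Hom.comp_apply, hjh]
          exact x.2)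
      let s : (O' : Scheme.{u}) ⟶ (D₂.h ⁻¹ᵁ O' : Scheme.{u}) :=
        IsOpenImmersion.lift (D₂.h ⁻¹ᵁ O').ι D₂.j (by
          rintro _ ⟨x, rfl⟩
          rw [Scheme.Opens.range_ι]
          show D₂.h _ ∈ O'
          rw [← Scheme.Hom.comp_apply, D₂.hj]
          exact x.2)
      have ht : t ≫ (D₂.h ⁻¹ᵁ O').ι = D₂'.j ≫ j' := IsOpenImmersion.lift_fac _ _ _
      have hs : s ≫ (D₂.h ⁻¹ᵁ O').ι = D₂.j := IsOpenImmersion.lift_fac _ _ _
      have hsec : s ≫ (D₂.h ∣_ O') = 𝟙 _ := by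
        rw [← cancel_mono O'.ι, Category.assoc, morphismRestrict_ι, reassoc_of% hs, D₂.hj, Category.id_comp]
      have hsec' : t ≫ (D₂.h ∣_ O') = 𝟙 _ := by
        rw [← cancel_mono O'.ι, Category.assoc, morphismRestrict_ι, reassoc_of% ht, Category.id_comp]
        simpa only [Category.assoc] using hjh
      have hiso : IsIso s := by
        have : IsOpenImmersion (s ≫ (D₂.h ⁻¹ᵁ O').ι) := by rw [hs]; infer_instance
        have : IsOpenImmersion s := IsOpenImmersion.of_comp s (D₂.h ⁻¹ᵁ O').ι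
        have : Surjective s := ⟨fun v => by
          obtain ⟨x, hx⟩ := D₂.hpre v.1 v.2
          refine ⟨x, (D₂.h ⁻¹ᵁ O').ι.isOpenEmbedding.injective ?_⟩
          rw [← Scheme.Hom.comp_apply, hs, hx]
          rfl⟩
        exact (isIso_iff_isOpenImmersion_and_surjective _).mpr ⟨inferInstance, inferInstance⟩
      have hinv : D₂.h ∣_ O' = inv s := by
        rw [← cancel_epi s, hsec, IsIso.hom_inv_id]
      rw [← ht, ← hs]
      congr 1
      rw [← cancel_mono (inv s), ← hinv, hsec, hsec']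
    rw [Dominating.κ, Dominating.κ, ← h1]
    simp only [Category.assoc, j', morphismRestrict_ι]
    rw [Scheme.homOfLE_ι_assoc]
  have hm : pairMap D₁ D₂' h h' ≫ m = pairMap D₁ D₂ h h' := by
    refine pullback.hom_ext ?_ ?_
    · simp only [m, pairMap, pullback.map, Category.assoc, pullback.lift_fst, pullback.lift_fst_assoc,
        Category.comp_id]
    · simp only [m, pairMap, pullback.map, Category.assoc, pullback.lift_snd, pullback.lift_snd_assoc, hκ]
  have hmw : m w ∈ closure (Set.range (pairMap D₁ D₂ h h')) := by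
    rw [← hm, Scheme.Hom.comp_base, TopCat.coe_comp, Set.range_comp]
    exact image_closure_subset_closure_image m.continuous ⟨w, hw, rfl⟩
  have hmfst : ∀ z, pullback.fst D₁.p D₂.p (m z) = pullback.fst D₁.p D₂'.p z := fun z => by
    rw [← Scheme.Hom.comp_apply]
    simp only [m, pullback.map, pullback.lift_fst, Category.comp_id]
  obtain ⟨gz, hgz⟩ : m w ∈ Set.range i := by
    rw [hir]
    refine ⟨hmw, ?_⟩
    rw [Set.mem_preimage, hmfst]
    exact Set.disjoint_left.mp hd hw₁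
  -- the exceptional generator near `y`
  obtain ⟨W, hyW, e, -, hW⟩ := hc.1 (pullback.snd D₁.p D₂'.p w)
  obtain ⟨z, -, hz⟩ := Scheme.Pullback.exists_preimage_pullback (f := i) (g := m) gz w hgz
  let r := pullback.snd i m ≫ pullback.snd D₁.p D₂'.p
  let q := pullback.fst i m ≫ i ≫ pullback.snd D₁.p D₂.p
  have hrc : r ≫ c = q := by
    simp only [r, q, Category.assoc, pullback.condition_assoc]
    congr 1
    simp only [m, pullback.map, pullback.lift_snd]
  let IF := Scheme.IdealSheafData.vanishingIdeal (X := D₂.Y) ⟨D₂.bad O', isClosed_closure⟩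
  have hcomap : (A.comap c).comap r = (IF.comap c).comap r := by
    rw [← Scheme.IdealSheafData.comap_comp, ← Scheme.IdealSheafData.comap_comp, hrc,
      Scheme.IdealSheafData.comap_comp, hAF, ← Scheme.IdealSheafData.comap_comp]
  have hzW : r z ∈ W.1 := by
    rw [Scheme.Hom.comp_apply, hz]; exact hyW
  obtain ⟨Dq, hDq, hzD, hDle⟩ := exists_isAffineOpen_mem_and_subset (show z ∈ r ⁻¹ᵁ W.1 from hzW)
  let ρ := (r.appLE W.1 Dq hDle).hom
  let B : Set D₂.Y := D₂.V.ι '' (D₂.h ⁻¹' (O' : Set U)ᶜ)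
  have hB : B ⊆ (IF.support : Set D₂.Y) := by
    rw [Scheme.IdealSheafData.coe_support_vanishingIdeal]; exact subset_closure
  have hBA : Disjoint B (A.support : Set D₂.Y) := hA.symm.mono_left (by rintro _ ⟨v, -, rfl⟩; exact v.2)
  have hyB : pullback.snd D₁.p D₂'.p w ∈ closure (c ⁻¹' B) := by
    refine closure_mono ?_ hw₂
    rintro _ ⟨v, hv, rfl⟩
    refine ⟨(D₂'.Y.homOfLE hV.le ≫ (c ∣_ D₂.V)) v, ?_, ?_⟩
    · rw [Set.mem_preimage, ← Scheme.Hom.comp_apply, hh]
      exact hv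
    · rw [← Scheme.Hom.comp_apply, Category.assoc, morphismRestrict_ι, Scheme.homOfLE_ι_assoc]
      rfl
  let T : Scheme.{u} := pullback i m
  let 𝔭 : Ideal Γ(T, Dq) := (IsLocalRing.maximalIdeal (T.presheaf.stalk z)).comap (T.presheaf.germ Dq z hzD).hom
  have hmem : ρ e ∈ Ideal.span {ρ e} * 𝔭 := by
    have h1 : ρ e ∈ (((A.comap c).comap r).ideal ⟨Dq, hDq⟩) := by
      rw [GrothLib.BlowUp.ideal_comap_eq_map _ r W ⟨Dq, hDq⟩ hDle]
      exact Ideal.mem_map_of_mem _ (hW.ge (Ideal.mem_span_singleton_self e))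
    rw [hcomap, GrothLib.BlowUp.ideal_comap_eq_map _ r W ⟨Dq, hDq⟩ hDle] at h1
    refine (Ideal.map_le_iff_le_comap.mpr fun f hf => ?_) h1
    obtain ⟨φ, rfl, hφ⟩ := exists_factor_vanishing c IF A hFA hW B hB hBA _ hyB hf
    rw [Ideal.mem_comap, map_mul]
    refine Ideal.mul_mem_mul_rev (Ideal.mem_span_singleton_self _) ?_
    rw [Ideal.mem_comap, IsLocalRing.mem_maximalIdeal, mem_nonunits_iff]
    intro hu
    apply hφ
    have h2 : z ∈ T.basicOpen (ρ φ) := (T.mem_basicOpen _ z hzD).mpr hu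
    have h3 : z ∈ r ⁻¹ᵁ D₂'.Y.basicOpen φ := by
      rw [Scheme.Hom.preimage_basicOpen]
      have h4 : ρ φ = T.presheaf.map (homOfLE hDle).op (r.app W.1 φ) := rfl
      rw [h4, Scheme.basicOpen_res] at h2
      exact h2.2
    have h5 : r z ∈ D₂'.Y.basicOpen φ := h3
    rwa [Scheme.Hom.comp_apply, hz] at h5
  obtain ⟨ψ, hψ, hψe⟩ := Ideal.mem_span_singleton_mul.mp hmem
  have hgerm : T.presheaf.germ Dq z hzD (ρ e) = 0 := by
    have h1 : IsUnit (T.presheaf.germ Dq z hzD (1 - ψ)) := by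
      rw [map_sub, map_one]
      exact IsLocalRing.isUnit_one_sub_self_of_mem_nonunits _ (Ideal.mem_comap.mp hψ)
    refine h1.mul_left_eq_zero.mp ?_
    rw [← map_mul, mul_sub, mul_one, hψe, sub_self, map_zero]
  obtain ⟨N, hzN, iN, iN', hN⟩ := T.presheaf.germ_eq z hzD hzD (ρ e) 0 (by rw [hgerm, map_zero])
  -- a point of the overlap in `N`
  let i' := pullback.snd i m
  obtain ⟨N', hN', hNN'⟩ : ∃ N' : Set ↥(pullback D₁.p D₂'.p), IsOpen N' ∧ i' ⁻¹' N' = (N : Set T) :=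
    i'.isEmbedding.isInducing.isOpen_iff.mp N.2
  let Good : Set ↥(pullback D₁.p D₂'.p) := pullback.fst D₁.p D₂'.p ⁻¹' (D₁.bad O')ᶜ
  have hGood : IsOpen Good := isClosed_closure.isOpen_compl.preimage (pullback.fst D₁.p D₂'.p).continuous
  obtain ⟨_, ⟨hxN, hxG⟩, x, rfl⟩ := mem_closure_iff.mp hw (N' ∩ Good) (hN'.inter hGood)
    ⟨by rw [← hz]; exact hNN'.ge hzN, Set.disjoint_left.mp hd hw₁⟩
  obtain ⟨gx, hgx⟩ : m (pairMap D₁ D₂' h h' x) ∈ Set.range i := by
    rw [hir]
    refine ⟨subset_closure ⟨x, ?_⟩, ?_⟩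
    · rw [← Scheme.Hom.comp_apply, hm]
    · rw [Set.mem_preimage, hmfst]; exact hxG
  obtain ⟨zx, -, hzx⟩ := Scheme.Pullback.exists_preimage_pullback (f := i) (g := m) gx _ hgx
  have hzxN : zx ∈ N := hNN'.le (by rw [Set.mem_preimage, hzx]; exact hxN)
  have hrx : r zx = D₂'.κ h' x := by
    rw [Scheme.Hom.comp_apply, hzx, ← Scheme.Hom.comp_apply, pairMap, pullback.lift_snd]
  have hzxD : zx ∈ Dq := iN.le hzxN
  have hxe : r zx ∈ D₂'.Y.basicOpen e := by
    by_contra hne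
    have hxW : r zx ∈ W.1 := hDle hzxD
    have hzl : r zx ∈ D₂'.Y.zeroLocus (U := W.1) ((A.comap c).ideal W) := by
      rw [hW, Scheme.zeroLocus_span, Scheme.mem_zeroLocus_iff]
      rintro _ rfl
      exact hne
    have hsupp : r zx ∈ ((A.comap c).support : Set D₂'.Y) :=
      (Scheme.IdealSheafData.mem_support_iff_of_mem (U := W) hxW).mpr hzl
    rw [Scheme.IdealSheafData.support_comap, hrx] at hsupp
    refine Set.disjoint_left.mp hA hsupp ?_
    show c (D₂'.κ h' x) ∈ D₂.V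
    rw [← Scheme.Hom.comp_apply, hκ]
    exact D₂.κ_mem h' x
  have h1 : zx ∈ T.basicOpen (T.presheaf.map iN.op (ρ e)) := by
    rw [Scheme.basicOpen_res]
    refine ⟨hzxN, ?_⟩
    have h4 : ρ e = T.presheaf.map (homOfLE hDle).op (r.app W.1 e) := rfl
    rw [h4, Scheme.basicOpen_res]
    refine ⟨hzxD, ?_⟩
    rw [← Scheme.Hom.preimage_basicOpen]
    exact hxe
  erw [hN, map_zero, Scheme.basicOpen_zero] at h1
  exact h1

end GrothLib.Nagata6
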